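import Cfsg.Agent.KFacts.Co1.InCo1
import Cfsg.Agent.KFacts.SheetOf
import Cfsg.Agent.ConwayFacts.AutCo1

/-!
# The sheet of type (E) of `Co1` (helper899)

`sheet`: all the fields of `SheetE` for `z = mk (signCo0 o)`, `P = C(z)`, `R = RCo1 o`; the
`y`-trick datum is a hypothesis (`YTrick o`).
-/

set_option autoImplicit false
open Cfsg
open scoped Pointwise commutatorElement

namespace Cfsg.Agent.KFacts.Co1.SheetCo1

open Cfsg.Agent.SporadicA.Co0Mono
open Cfsg.Agent.CoOneType.SignFacts (sup wt)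
open Cfsg.Agent.CoOneType.ClosingFacts (exists_mk isConj_octad)
open Cfsg.Agent.KFacts.Co1.InCo1
open Cfsg.Agent.OddHalf

variable {o : golayCode}

/-- The `y`-trick field of `SheetE`, literally. -/
def YTrick (o : golayCode) (hzP : CoOneType.ClosingFacts.mk (signCo0 o) ∈
    Subgroup.centralizer ({CoOneType.ClosingFacts.mk (signCo0 o)} : Set Spor.Co1)) : Prop :=
  ∃ k : Spor.Co1, k * CoOneType.ClosingFacts.mk (signCo0 o) * k⁻¹ ∈
      Subgroup.centralizer ({CoOneType.ClosingFacts.mk (signCo0 o)} : Set Spor.Co1) ∧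
    k * CoOneType.ClosingFacts.mk (signCo0 o) * k⁻¹ ∉ RCo1 o ∧
    ∃ hw : k⁻¹ * CoOneType.ClosingFacts.mk (signCo0 o) * k ∈
      Subgroup.centralizer ({CoOneType.ClosingFacts.mk (signCo0 o)} : Set Spor.Co1),
    ∀ β : MulAut (Subgroup.centralizer ({CoOneType.ClosingFacts.mk (signCo0 o)} : Set Spor.Co1)),
      (β ⟨CoOneType.ClosingFacts.mk (signCo0 o), hzP⟩ : Spor.Co1) =
        CoOneType.ClosingFacts.mk (signCo0 o) →
      ∃ p : Spor.Co1, p * CoOneType.ClosingFacts.mk (signCo0 o) =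
          CoOneType.ClosingFacts.mk (signCo0 o) * p ∧
        (β ⟨k⁻¹ * CoOneType.ClosingFacts.mk (signCo0 o) * k, hw⟩ : Spor.Co1) =
          p * (k⁻¹ * CoOneType.ClosingFacts.mk (signCo0 o) * k) * p⁻¹

/-- The centre of `Co1` is trivial. -/
theorem eq_one_of_central {c : Spor.Co1} (h : ∀ g : Spor.Co1, c * g = g * c) : c = 1 := by
  obtain ⟨o, ho⟩ := Cfsg.Agent.CoOneType.ClosingCo1.exists_octad
  have hL := large ho
  have h1 : c ∈ RCo1 o := hL.self c (h _) (fun x _ => h x)
  rcases hL.cent c h1 (fun x _ => h x) with h2 | h2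
  · exact h2
  · exfalso
    obtain ⟨e, he, -, hconj, -, hnot⟩ := exists_outside ho
    obtain ⟨g, hg⟩ := isConj_iff.1 hconj
    rw [← h2, ← h g, mul_inv_cancel_right] at hg
    exact hnot (hg ▸ h1)

theorem range_conj : (MulAut.conj : Spor.Co1 →* MulAut Spor.Co1).range = ⊤ := by
  rw [eq_top_iff]
  intro α _
  obtain ⟨s, hs⟩ := Cfsg.Agent.ConwayFacts.AutCo1.inner α
  exact ⟨s, MulEquiv.ext fun g => by rw [MulAut.conj_apply, hs]⟩

/-- **The sheet of type (E) of `Co1`**, modulo the `y`-trick datum. -/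
theorem sheet (ho : wt o = 8)
    (hy : ∀ hzP, YTrick o hzP) :
    D8.Sheet.SheetE (CoOneType.ClosingFacts.mk (signCo0 o))
      (Subgroup.centralizer ({CoOneType.ClosingFacts.mk (signCo0 o)} : Set Spor.Co1)) (RCo1 o) where
  zz := (large ho).z_sq
  z1 := (large ho).z_ne
  syl := by
    have h := large ho
    obtain ⟨S, hS⟩ := SheetOf.exists_sylow _ (odd_index ho)
    have hQ2 : IsPGroup 2 (RCo1 o) := (InCo1.isExtraspecial ho).1.1
    have hnorm : (S : Subgroup Spor.Co1) ≤ Subgroup.normalizer (RCo1 o : Set Spor.Co1) := by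
      intro s hs
      have hsz := Subgroup.mem_centralizer_singleton_iff.1 (hS hs)
      have hsz' := Subgroup.mem_centralizer_singleton_iff.1 (hS (S.inv_mem hs))
      rw [Subgroup.mem_normalizer_iff]
      intro r
      constructor
      · exact fun hr => h.conj_mem s hsz r hr
      · intro hr
        have h1 := h.conj_mem s⁻¹ hsz' _ hr
        have e : s⁻¹ * (s * r * s⁻¹) * s⁻¹⁻¹ = r := by group
        rwa [e] at h1
    have h2 : IsPGroup 2 ((S : Subgroup Spor.Co1) ⊔ RCo1 o : Subgroup Spor.Co1) :=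
      S.isPGroup'.to_sup_of_normal_right' hQ2 hnorm
    have h3 := S.is_maximal' h2 le_sup_left
    have hQS : RCo1 o ≤ S := (le_sup_right : RCo1 o ≤ (S : Subgroup Spor.Co1) ⊔ RCo1 o).trans h3.le
    refine ⟨S, hQS h.z_mem, fun x hx => Subgroup.mem_centralizer_singleton_iff.1 (hS hx), ?_⟩
    intro y _ hy
    have hyz := (hy _ (hQS h.z_mem)).symm
    have hyQ : ∀ x ∈ RCo1 o, y * x = x * y := fun x hx => (hy x (hQS hx)).symm
    exact h.cent y (h.self y hyz hyQ) hyQ
  cen x hx := Subgroup.mem_centralizer_singleton_iff.1 hx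
  perf := comm_eq ho
  der := ⟨0, le_rfl⟩
  out := by
    rw [range_conj, Subgroup.index_top]
    norm_num
  schreier := ⟨0, by rw [range_conj]; exact le_top⟩
  zR := (large ho).z_mem
  RP := fun x hx => Subgroup.mem_centralizer_singleton_iff.2 ((large ho).comm_z x hx)
  R2 := (InCo1.isExtraspecial ho).1.1
  Rn x hx r hr := (large ho).conj_mem x (Subgroup.mem_centralizer_singleton_iff.1 hx) r hr
  Rmax B hB hB2 hBn := by
    refine LargeO2.le_of_normal (large ho) (irr ho) (exists_in ho) hB2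
      (fun w hw => Subgroup.mem_centralizer_singleton_iff.1 (hB hw)) ?_
    intro u hu w hw
    exact hBn u (Subgroup.mem_centralizer_singleton_iff.2 hu) w hw
  Rmin B hB hBn := irr ho B hB fun u hu y hy =>
    hBn u (Subgroup.mem_centralizer_singleton_iff.2 hu) y hy
  Rna := not_comm ho
  cR x hx hc := (large ho).self x (Subgroup.mem_centralizer_singleton_iff.1 hx) hc
  aut := by
    intro α hα2 hαz hα
    have h := large ho
    obtain ⟨k, hk⟩ := Cfsg.Agent.ConwayFacts.AutCo1.inner α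
    have hαk : α = MulAut.conj k := MulEquiv.ext fun g => by rw [MulAut.conj_apply, hk]
    have hkz : k * CoOneType.ClosingFacts.mk (signCo0 o) =
        CoOneType.ClosingFacts.mk (signCo0 o) * k := by
      rw [hk, mul_inv_eq_iff_eq_mul] at hαz
      exact hαz
    refine ⟨k, ?_, hαk⟩
    -- `k` is a 2-element
    have hk2 : ∃ m : ℕ, k ^ (2 ^ m) = 1 := by
      obtain ⟨m, hm⟩ := hα2 ⟨α, Subgroup.mem_zpowers α⟩
      have hm' : α ^ (2 ^ m) = 1 := congrArg Subtype.val hm
      refine ⟨m, eq_one_of_central fun g => ?_⟩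
      rw [hαk, ← map_pow] at hm'
      have h1 := congrArg (fun β : MulAut Spor.Co1 => β g) hm'
      simp only [MulAut.conj_apply, MulAut.one_apply] at h1
      rwa [mul_inv_eq_iff_eq_mul] at h1
    have hkp : IsPGroup 2 (Subgroup.zpowers k) := by
      rintro ⟨x, hx⟩
      obtain ⟨i, rfl⟩ := Subgroup.mem_zpowers_iff.1 hx
      obtain ⟨m, hm⟩ := hk2
      refine ⟨m, Subtype.ext ?_⟩
      show (k ^ i) ^ (2 ^ m) = 1
      rw [← zpow_natCast, ← zpow_mul, mul_comm, zpow_mul, zpow_natCast, hm, one_zpow]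
    -- the conjugates of `k` lie in `R k`
    have hconj : ∀ u : Spor.Co1, u * CoOneType.ClosingFacts.mk (signCo0 o) =
        CoOneType.ClosingFacts.mk (signCo0 o) * u → u * k * u⁻¹ ∈ RCo1 o ⊔ Subgroup.zpowers k := by
      intro u hu
      have hu' : u⁻¹ * CoOneType.ClosingFacts.mk (signCo0 o) =
          CoOneType.ClosingFacts.mk (signCo0 o) * u⁻¹ := by
        rw [inv_mul_eq_iff_eq_mul, ← mul_assoc, hu, mul_inv_cancel_right]
      have h1 := hα u⁻¹ (Subgroup.mem_centralizer_singleton_iff.2 hu')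
      rw [hk] at h1
      -- `u k u⁻¹ k⁻¹ ∈ R`
      have h2 : u * k * u⁻¹ = (u⁻¹⁻¹ * (k * u⁻¹ * k⁻¹)) * k := by group
      rw [h2]
      exact Subgroup.mul_mem _ ((le_sup_left : RCo1 o ≤ _) h1)
        ((le_sup_right : Subgroup.zpowers k ≤ _) (Subgroup.mem_zpowers k))
    have hnR : Subgroup.zpowers k ≤ Subgroup.normalizer (RCo1 o : Set Spor.Co1) := by
      rw [Subgroup.zpowers_le, Subgroup.mem_normalizer_iff]
      intro r
      have hkz' : k⁻¹ * CoOneType.ClosingFacts.mk (signCo0 o) =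
          CoOneType.ClosingFacts.mk (signCo0 o) * k⁻¹ := by
        rw [inv_mul_eq_iff_eq_mul, ← mul_assoc, hkz, mul_inv_cancel_right]
      constructor
      · exact fun hr => h.conj_mem k hkz r hr
      · intro hr
        have h1 := h.conj_mem k⁻¹ hkz' _ hr
        have e : k⁻¹ * (k * r * k⁻¹) * k⁻¹⁻¹ = r := by group
        rwa [e] at h1
    have h2 : IsPGroup 2 (Subgroup.zpowers k ⊔ RCo1 o : Subgroup Spor.Co1) :=
      hkp.to_sup_of_normal_right' (InCo1.isExtraspecial ho).1.1 hnR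
    rw [sup_comm] at h2
    have hle : RCo1 o ⊔ Subgroup.zpowers k ≤ Subgroup.centralizer
        ({CoOneType.ClosingFacts.mk (signCo0 o)} : Set Spor.Co1) := by
      refine sup_le (fun x hx => Subgroup.mem_centralizer_singleton_iff.2 (h.comm_z x hx)) ?_
      rw [Subgroup.zpowers_le]
      exact Subgroup.mem_centralizer_singleton_iff.2 hkz
    have h3 : RCo1 o ⊔ Subgroup.zpowers k ≤ RCo1 o := by
      refine LargeO2.le_of_normal h (irr ho) (exists_in ho) h2
        (fun w hw => Subgroup.mem_centralizer_singleton_iff.1 (hle hw)) ?_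
      intro u hu w hw
      have hmap : (RCo1 o ⊔ Subgroup.zpowers k).map (MulAut.conj u).toMonoidHom ≤
          RCo1 o ⊔ Subgroup.zpowers k := by
        rw [Subgroup.map_sup]
        refine sup_le ?_ ?_
        · rintro _ ⟨r, hr, rfl⟩
          exact (le_sup_left : RCo1 o ≤ _) (h.conj_mem u hu r hr)
        · rw [MonoidHom.map_zpowers, Subgroup.zpowers_le]
          exact hconj u hu
      exact hmap ⟨w, hw, rfl⟩
    exact h3 ((le_sup_right : Subgroup.zpowers k ≤ _) (Subgroup.mem_zpowers k))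
  ytrick := hy _

end Cfsg.Agent.KFacts.Co1.SheetCo1
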