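import Cfsg.Agent.KFacts.Co1.YBig

/-!
# The `y`-trick for `Co1` (helper281)

`z = mk (signCo0 o)`, `R = RCo1 o`. An involution `x ∈ C(z) - R` with `|C_R(x)| ≥ 128` is conjugate
in `C(z)` to the sign change on any octad meeting `o` in four points (`char`). Hence `ytrick`.
-/

set_option autoImplicit false
open Cfsg
open scoped Pointwise

namespace Cfsg.Agent.KFacts.Co1.YTrick

open Cfsg.Agent.SporadicA.GolayBase Cfsg.Agent.SporadicA.GolayPerm
open Cfsg.Agent.SporadicStructure.M24El Cfsg.Agent.SporadicA.Co0Mono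
open Cfsg.Agent.SporadicA.Co1Simple
open Cfsg.Agent Cfsg.Agent.Co2Type.Mono
open Cfsg.Agent.CoOneType.SignFacts (sup mem_sup notMem_sup wt sup_mem sign_allOne_comm wt_add_allOne
  sup_add_allOne)
open Cfsg.Agent.CoOneType.CentOctad (C0 mem_C0 sign_mem perm_mem xi_mem)
open Cfsg.Agent.CoOneType.ClosingFacts (mk mk_mul mk_inv exists_mk mk_eq_one mk_eq mk_add_allOne
  isConj_octad)
open Cfsg.Agent.CoOneType.InvMain (sp_inj sp_mul conj_by_perm conj_by_sign cd_all)
open Cfsg.Agent.KFacts.Co1.OctGen Cfsg.Agent.KFacts.Co1.OctPts Cfsg.Agent.KFacts.Co1.RHat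
open Cfsg.Agent.KFacts.Co1.InCo1
open Cfsg.Agent.J4.M24InvolData (P1 P2)
open Cfsg.Agent.J4.M24Invol (ok_P1 ok_P2 invol_conj)
open YData YBig
open Cfsg.Agent.StdG24.CloInv (neg neg_comm neg_mul_self mo_idP mk_neg mk_neg_mul isCode_all card_NC
  wordPerm_of_comm perm_fix)

/-! ### Reduction to monomial elements -/

/-- Every 2-element of `C0 o` is conjugate in `C0 o` to a monomial element. -/
theorem exists_conj_N {o : golayCode} (ho : wt o = 8) {y : Co0} (hy : y ∈ C0 o)
    (h2 : y ^ 2 ^ 2 = 1) : ∃ h ∈ C0 o, h * y * h⁻¹ ∈ N := by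
  have hfin : Finite Co0 := CoOneType.FrameFix.finite_co0
  let K : Subgroup (C0 o) := N.subgroupOf (C0 o)
  have hK : Nat.card K = 4096 * 322560 := by
    rw [← card_NC ho]
    have h1 : K.map (C0 o).subtype = N ⊓ C0 o := Subgroup.subgroupOf_map_subtype _ _
    rw [← h1]
    exact (Nat.card_congr (K.equivMapOfInjective _ (C0 o).subtype_injective).toEquiv)
  have hodd : ¬ 2 ∣ Nat.card (C0 o ⧸ K) := by
    intro hdvd
    have h1 : K.index = Nat.card (C0 o ⧸ K) := rfl
    have h3 := K.card_mul_index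
    have h4 := (C0 o).card_mul_index
    rw [S0397.result, ← h3, hK, h1] at h4
    obtain ⟨k, hk⟩ := hdvd
    rw [hk] at h4
    have h5 : 2 ^ 23 ∣ 8315553613086720000 := by
      rw [← h4]
      refine ⟨315 * k * (C0 o).index, ?_⟩
      ring
    revert h5
    norm_num
  have hP : IsPGroup 2 (Subgroup.zpowers (⟨y, hy⟩ : C0 o)) := by
    have ht : (⟨y, hy⟩ : C0 o) ^ 2 ^ 2 = 1 := by
      apply Subtype.ext
      exact h2
    obtain ⟨k, -, hk⟩ := (Nat.dvd_prime_pow Nat.prime_two).1 (orderOf_dvd_of_pow_eq_one ht)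
    apply IsPGroup.of_card (n := k)
    rw [Nat.card_zpowers, hk]
  obtain ⟨x, hx⟩ := hP.nonempty_fixed_point_of_prime_not_dvd_card (C0 o ⧸ K) hodd
  obtain ⟨g, rfl⟩ := QuotientGroup.mk_surjective x
  have h3 := hx ⟨⟨y, hy⟩, Subgroup.mem_zpowers _⟩
  have h4 : (((⟨y, hy⟩ : C0 o) * g : C0 o) : C0 o ⧸ K) = (g : C0 o ⧸ K) := h3
  rw [QuotientGroup.eq] at h4
  have h5 := K.inv_mem h4
  rw [mul_inv_rev, inv_inv, ← mul_assoc] at h5
  refine ⟨((g : C0 o) : Co0)⁻¹, (C0 o).inv_mem g.2, ?_⟩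
  rw [inv_inv]
  exact h5

/-! ### Sign changes -/

theorem and_compl {m : ℕ} (h1 : m &&& F = F) : (m ^^^ 16777215) &&& F = 0 := by
  apply Nat.eq_of_testBit_eq
  intro j
  have h3 := congrArg (fun n : ℕ => n.testBit j) h1
  simp only [Nat.testBit_and] at h3
  rw [Nat.testBit_and, Nat.testBit_xor, Nat.zero_testBit]
  by_cases hj : F.testBit j = true
  · rw [hj, Bool.and_true] at h3
    have hj24 : j < 24 := by
      by_contra hcon
      have h4 : F.testBit j = false := Nat.testBit_lt_two_pow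
        (lt_of_lt_of_le (b := 2 ^ 24) (by decide) (Nat.pow_le_pow_right (by norm_num) (by omega)))
      rw [h4] at hj
      exact absurd hj (by decide)
    have h5 : ∀ j < 24, Nat.testBit 16777215 j = true := by decide
    rw [h3, h5 j hj24, hj]
    rfl
  · rw [Bool.not_eq_true] at hj
    rw [hj, Bool.and_false]

theorem pimg_all {s : ℕ} (hs : ok s = true) : pimg s 16777215 = 16777215 := by
  have h1 : wordPerm (el s) (cd 16777215) = cd 16777215 := by
    rw [cd_all]
    rfl
  rw [wordPerm_cd hs isCode_all] at h1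
  exact cd_inj (isCode_pimg hs isCode_all) isCode_all h1

theorem sign_F {m : ℕ} (hm : isCode m = true) (h : Big (cd F) (mk (signCo0 (cd m)))) :
    popcount (m &&& F) = 4 ∧ (popcount m = 8 ∨ popcount m = 16) := by
  obtain ⟨i, hi, rfl⟩ := isCode_iff_exists.1 hm
  have h1 := allR_zero_spec chkI i hi
  simp only [Bool.or_eq_true, Bool.and_eq_true, Nat.beq_eq] at h1
  have key : ∀ {n : ℕ}, isCode n = true → n &&& F = 0 → mk (signCo0 (cd n)) ∈ RCo1 (cd F) := by
    intro n hn h2
    refine mem_RCo1.2 ⟨_, sign_mem_Rh ?_, rfl⟩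
    rw [Finset.disjoint_left]
    intro j hj hj'
    rw [sup_cd hn, mem_fin] at hj
    rw [sup_cd isCode_F, mem_fin] at hj'
    have h6 := congrArg (fun n : ℕ => n.testBit (idx j)) h2
    simp only [Nat.testBit_and, hj, hj', Nat.zero_testBit] at h6
    revert h6; decide
  rcases h1 with h1 | h1 | h1 | h1
  · exact absurd (key hm h1) h.1
  · exfalso
    apply h.1
    have h2 : mk (signCo0 (cd (enc i))) = mk (signCo0 (cd (enc i ^^^ 16777215))) := by
      rw [cd_xor hm isCode_all, cd_all, mk_add_allOne]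
    rw [h2]
    exact key (isCode_xor hm isCode_all) (and_compl h1)
  · exact h1
  · exfalso
    refine not_big isCode_F popcount_F hm ok_idP five_I h1 ?_
    rw [mo_idP]
    exact h

theorem sign_gen {o : golayCode} (ho : wt o = 8) {c : golayCode} (h : Big o (mk (signCo0 c))) :
    ∃ e : golayCode, wt e = 8 ∧ (sup o ∩ sup e).card = 4 ∧ mk (signCo0 e) = mk (signCo0 c) := by
  obtain ⟨g, hg⟩ := exists_to_F ho
  have h1 : permCo0 g * signCo0 o * (permCo0 g)⁻¹ = signCo0 (cd F) := by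
    rw [perm_mul_sign_mul_inv, hg]
  obtain ⟨m, hm, hcm⟩ := exists_cd (wordPerm g c)
  have h2 := h.conj h1
  rw [← mk_inv, ← mk_mul, ← mk_mul, perm_mul_sign_mul_inv, ← hcm] at h2
  obtain ⟨h3, h4⟩ := sign_F hm h2
  have h5 : wt c = popcount m := by
    rw [← wt_wordPerm g c, ← hcm, wt_cd hm]
  have h6 : (sup o ∩ sup c).card = 4 := by
    have h7 := wt_add o c
    have h8 := wt_add (cd F) (cd m)
    have h9 : wt (o + c) = wt (cd F + cd m) := by
      rw [← wt_wordPerm g (o + c), wordPerm_add, hg, hcm]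
    rw [Finset.inter_comm, inter_cd hm isCode_F, h3, wt_F, wt_cd hm] at h8
    rw [ho, h5] at h7
    omega
  rcases h4 with h4 | h4
  · exact ⟨c, by rw [h5, h4], h6, rfl⟩
  · refine ⟨c + allOne, ?_, ?_, mk_add_allOne c⟩
    · have := wt_add_allOne c
      omega
    · have h7 := wt_add o (c + allOne)
      have h8 : o + (c + allOne) = (o + c) + allOne := (add_assoc _ _ _).symm
      have h9 := wt_add_allOne (o + c)
      have h10 := wt_add_allOne c
      have h11 := wt_add o c
      rw [h8] at h7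
      omega

/-! ### Permutation parts -/

open Cfsg.Agent.CoOneType.InvClasses in
/-- The conjugation by the inverse of the sextet map. -/
theorem conj_of_chk' {P Q : ℕ} {L : List ℕ} (hF : IsFrame P Q L) (hP : ok P = true) {m : ℕ}
    (hm : isCode m = true) (h : chk L P m = true) :
    ∃ c : golayCode, (SporadicA.Xi.xiCo0 (Tq Q) hF.sext)⁻¹ * mo m P *
      SporadicA.Xi.xiCo0 (Tq Q) hF.sext = signCo0 c := by
  have hcol : ∀ p, Tq Q ((el P : Equiv.Perm GolayPt) p) = Tq Q p := by
    intro p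
    have h1 := hF.fix p
    rwa [← el_smul_pt hP] at h1
  exact conj_of_good hF.sext hm hcol (fun j => by
    set t := L.getD (Tq Q j) 0 with ht
    have htL : t ∈ L := by
      rw [ht, List.getD_eq_getElem _ _ (by rw [hF.len]; exact (Tq Q j).2)]
      exact List.getElem_mem _
    unfold chk at h
    rw [List.all_eq_true] at h
    have h1 := h t htL
    rw [List.all_eq_true] at h1
    have h2 := h1 (idx j) (List.mem_range.2 (idx_lt j))
    have htj : t.testBit (idx j) = true := by rw [ht, hF.bit, decide_eq_true rfl]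
    rw [htj, Bool.not_true, Bool.false_or, Bool.or_eq_true, Nat.beq_eq, Nat.beq_eq] at h2
    set x := ((m &&& t) ^^^ (1 <<< papp P (idx j))) ^^^ (1 <<< idx j) with hx
    have hbit : ∀ i, Tq Q i = Tq Q j →
        word m i + (if i = (el P : Equiv.Perm GolayPt) j then 1 else 0) +
        (if i = j then 1 else 0) = if x.testBit (idx i) = true then (1 : ZMod 2) else 0 := by
      intro i hi
      have hti : t.testBit (idx i) = true := by rw [ht, hF.bit, decide_eq_true hi]
      have h3 : x.testBit (idx i) = ((m.testBit (idx i) ^^ decide (papp P (idx j) = idx i)) ^^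
          decide (idx j = idx i)) := by
        rw [hx, Nat.testBit_xor, Nat.testBit_xor, Nat.testBit_and, hti, testBit_one_shiftLeft,
          testBit_one_shiftLeft, Bool.and_true]
      have h4 : (papp P (idx j) = idx i) ↔ i = (el P : Equiv.Perm GolayPt) j := by
        rw [← idx_el_smul hP]
        exact ⟨fun h => (idx_injective h).symm, fun h => by rw [h]; rfl⟩
      have h5 : (idx j = idx i) ↔ i = j := ⟨fun h => (idx_injective h).symm, fun h => by rw [h]⟩
      rw [h3, word_apply, decide_eq_decide.2 h4, decide_eq_decide.2 h5]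
      exact bit_ite _ _ _
    rcases h2 with h2 | h2
    · refine ⟨0, fun i hi => ?_⟩
      rw [hbit i hi, h2, Nat.zero_testBit]
      rfl
    · refine ⟨1, fun i hi => ?_⟩
      rw [hbit i hi, h2, ht, hF.bit, decide_eq_true hi]
      rfl)

/-- The conclusion: conjugate to a sign change. -/
def Sg (o : golayCode) (y : Co0) : Prop := ∃ g ∈ C0 o, ∃ c : golayCode, g * y * g⁻¹ = signCo0 c

theorem Sg.of_conj {o o' : golayCode} {s y : Co0} (hs : s * signCo0 o * s⁻¹ = signCo0 o')
    (hN : ∀ c, ∃ d, s⁻¹ * signCo0 c * s = signCo0 d) (h : Sg o' (s * y * s⁻¹)) : Sg o y := by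
  obtain ⟨g, hg, c, hc⟩ := h
  obtain ⟨d, hd⟩ := hN c
  refine ⟨s⁻¹ * g * s, ?_, d, ?_⟩
  · rw [mem_C0] at hg ⊢
    have h1 : signCo0 o = s⁻¹ * signCo0 o' * s := by rw [← hs]; group
    calc s⁻¹ * g * s * signCo0 o = s⁻¹ * (g * signCo0 o') * s := by rw [h1]; group
      _ = s⁻¹ * (signCo0 o' * g) * s := by rw [hg]
      _ = _ := by rw [h1]; group
  · rw [← hd, ← hc]; group

theorem perm_hN (g : M24) (c : golayCode) : ∃ d, (permCo0 g)⁻¹ * signCo0 c * permCo0 g = signCo0 d := by
  refine ⟨wordPerm g⁻¹ c, ?_⟩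
  rw [← perm_mul_sign_mul_inv, map_inv, inv_inv]

/-- Transport along a permutation commuting with `el P`. -/
theorem conj_mo {m P s : ℕ} (hm : isCode m = true) (hP : ok P = true) (hs : ok s = true)
    (hc : pcomp s P = pcomp P s) :
    permCo0 (el s) * mo m P * (permCo0 (el s))⁻¹ = mo (pimg s m) P := by
  have h1 : el s * el P * (el s)⁻¹ = el P := by
    rw [mul_inv_eq_iff_eq_mul, ← el_pcomp hs hP, ← el_pcomp hP hs, hc]
  unfold mo
  rw [conj_by_perm, wordPerm_cd hs hm, h1]

theorem conj_cd {w s : ℕ} (hw : isCode w = true) (hs : ok s = true) :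
    permCo0 (el s) * signCo0 (cd w) * (permCo0 (el s))⁻¹ = signCo0 (cd (pimg s w)) := by
  rw [perm_mul_sign_mul_inv, wordPerm_cd hs hw]

theorem pimg_comm {m P s : ℕ} (hP : ok P = true) (hs : ok s = true)
    (hc : pcomp s P = pcomp P s) (h : pimg P m = m) : pimg P (pimg s m) = pimg s m := by
  rw [← pimg_pcomp (ok_iff.1 hP).1 (ok_iff.1 hs).1, ← hc,
    pimg_pcomp (ok_iff.1 hs).1 (ok_iff.1 hP).1, h]

/-- Permutation part `P1`. -/
theorem case_P1 {m w : ℕ} (hm : isCode m = true) (hw : isCode w = true) (hm1 : pimg P1 m = m)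
    (hw1 : pimg P1 w = w) (hw8 : popcount w = 8) (h : Big (cd w) (mk (mo m P1))) :
    Sg (cd w) (mo m P1) := by
  obtain ⟨s, hs, hcs, hsw⟩ : ∃ s, ok s = true ∧ pcomp s P1 = pcomp P1 s ∧
      (pimg s w = F ∨ pimg s w = wa ∨ pimg s w = wb) := by
    obtain ⟨j, hj, rfl⟩ := isCode_iff_exists.1 hw
    have h1 := allR_zero_spec octs1 j hj
    rw [hw1, hw8, Nat.beq_refl, Nat.beq_refl, Bool.not_true, Bool.false_or, Bool.false_or,
      List.any_eq_true] at h1
    obtain ⟨r, h2, h3⟩ := h1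
    have h4 := List.all_eq_true.1 S1_ok r h2
    simp only [Bool.or_eq_true, Bool.and_eq_true, Nat.beq_eq] at h4
    rw [Nat.beq_eq] at h3
    rw [h3] at h4
    exact ⟨r.2, h4⟩
  have hsc := conj_cd hw hs
  have h2 := h.conj hsc
  rw [← mk_inv, ← mk_mul, ← mk_mul, conj_mo hm ok_P1 hs hcs] at h2
  have hm' : isCode (pimg s m) = true := isCode_pimg hs hm
  have hm1' := pimg_comm ok_P1 hs hcs hm1
  apply Sg.of_conj hsc (perm_hN _)
  rw [conj_mo hm ok_P1 hs hcs]
  generalize pimg s m = n at h2 hm' hm1' ⊢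
  rcases hsw with hsw | hsw | hsw
  · exfalso
    rw [hsw] at h2
    obtain ⟨i, hi, rfl⟩ := isCode_iff_exists.1 hm'
    have h1 := allR_zero_spec chkF i hi
    rw [hm1', Nat.beq_refl, Bool.not_true, Bool.false_or] at h1
    simp only [Bool.or_eq_true, Nat.beq_eq] at h1
    have hPF : el P1 ∈ Fo (cd F) := by
      intro j hj
      rw [sup_cd isCode_F, mem_fin, ← fixm_P1, testBit_fixm P1 (idx_lt j), decide_eq_true_eq] at hj
      have h7 := idx_el_smul ok_P1 j
      rw [hj] at h7
      exact idx_injective h7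
    have key : ∀ {n : ℕ}, isCode n = true → n &&& F = 0 → mk (mo n P1) ∈ RCo1 (cd F) := by
      intro n hn h2
      refine mem_RCo1.2 ⟨_, mem_Rh_sp ?_ hPF, rfl⟩
      rw [Finset.disjoint_left]
      intro j hj hj'
      rw [sup_cd hn, mem_fin] at hj
      rw [sup_cd isCode_F, mem_fin] at hj'
      have h6 := congrArg (fun n : ℕ => n.testBit (idx j)) h2
      simp only [Nat.testBit_and, hj, hj', Nat.zero_testBit] at h6
      revert h6; decide
    rcases h1 with h1 | h1 | h1
    · exact h2.1 (key hm' h1)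
    · apply h2.1
      rw [← mk_neg_mul, ← mo_all hm']
      exact key (isCode_xor hm' isCode_all) (and_compl h1)
    · exact not_big isCode_F popcount_F hm' ok_P1 five_F h1 h2
  · exfalso
    rw [hsw] at h2
    obtain ⟨i, hi, rfl⟩ := isCode_iff_exists.1 hm'
    have h1 := allR_zero_spec chkA i hi
    rw [hm1', Nat.beq_refl, Bool.not_true, Bool.false_or] at h1
    exact not_big isCode_wa popcount_wa hm' ok_P1 five_A h1 h2
  · rw [hsw] at h2 ⊢
    obtain ⟨i, hi, rfl⟩ := isCode_iff_exists.1 hm'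
    have h1 := allR_zero_spec chkB i hi
    rw [hm1', Nat.beq_refl, Bool.not_true, Bool.false_or, Bool.or_eq_true, List.any_eq_true] at h1
    rcases h1 with h1 | ⟨d, hd, h1⟩
    · exact absurd h2 (not_big isCode_wb popcount_wb hm' ok_P1 five_B h1)
    · have hdc : isCode d = true := List.all_eq_true.1 ds_ok d hd
      obtain ⟨c, hc⟩ := conj_of_chk' frame_ok ok_P1
        (isCode_xor hm' (isCode_xor hdc (isCode_pimg ok_P1 hdc))) h1
      have hx : SporadicA.Xi.xiCo0 _ frame_ok.sext ∈ C0 (cd wb) := by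
        apply xi_mem
        intro p q hpq
        rw [coe_cd isCode_wb, word_apply, word_apply, frame_wb p q hpq]
      refine ⟨(SporadicA.Xi.xiCo0 _ frame_ok.sext)⁻¹ * signCo0 (cd d),
        (C0 (cd wb)).mul_mem ((C0 (cd wb)).inv_mem hx) (sign_mem _ _), c, ?_⟩
      have h3 := conj_by_sign (cd (enc i)) (cd d) (el P1)
      rw [wordPerm_cd ok_P1 hdc, ← cd_xor hdc (isCode_pimg ok_P1 hdc),
        ← cd_xor hm' (isCode_xor hdc (isCode_pimg ok_P1 hdc))] at h3
      rw [← hc]
      show _ = (SporadicA.Xi.xiCo0 _ frame_ok.sext)⁻¹ * (signCo0 _ * permCo0 _) *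
        SporadicA.Xi.xiCo0 _ frame_ok.sext
      rw [← h3]
      unfold mo
      group

theorem noP1 : allR 12 0 (fun i => !(Nat.beq (enc i ^^^ pimg P1 (enc i)) 16777215)) = true := by
  decide +kernel

/-- Permutation part `P2`. -/
theorem case_P2 {m w : ℕ} (hm : isCode m = true) (hw : isCode w = true)
    (hm1 : m ^^^ pimg P2 m = 0 ∨ m ^^^ pimg P2 m = 16777215)
    (hw1 : pimg P2 w = w) (hw8 : popcount w = 8) (h : Big (cd w) (mk (mo m P2))) : False := by
  obtain ⟨s, hs, hcs, hsw⟩ : ∃ s, ok s = true ∧ pcomp s P2 = pcomp P2 s ∧ pimg s w = w2 := by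
    obtain ⟨j, hj, rfl⟩ := isCode_iff_exists.1 hw
    have h1 := allR_zero_spec octs2 j hj
    rw [hw1, hw8, Nat.beq_refl, Nat.beq_refl, Bool.not_true, Bool.false_or, Bool.false_or,
      List.any_eq_true] at h1
    obtain ⟨r, h2, h3⟩ := h1
    have h4 := List.all_eq_true.1 S2_ok r h2
    simp only [Bool.and_eq_true, Nat.beq_eq] at h4
    rw [Nat.beq_eq] at h3
    rw [h3] at h4
    exact ⟨r.2, h4⟩
  have h2 := h.conj (conj_cd hw hs)
  rw [← mk_inv, ← mk_mul, ← mk_mul, conj_mo hm ok_P2 hs hcs, hsw] at h2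
  have hm' : isCode (pimg s m) = true := isCode_pimg hs hm
  have hm1' : pimg s m ^^^ pimg P2 (pimg s m) = 0 ∨ pimg s m ^^^ pimg P2 (pimg s m) = 16777215 := by
    rw [← pimg_pcomp (ok_iff.1 ok_P2).1 (ok_iff.1 hs).1, ← hcs,
      pimg_pcomp (ok_iff.1 hs).1 (ok_iff.1 ok_P2).1, ← pimg_xor (ok_iff.1 hs).1]
    rcases hm1 with h3 | h3
    · left; rw [h3, pimg_zero (ok_iff.1 hs).1]
    · right; rw [h3, pimg_all hs]
  generalize pimg s m = n at h2 hm' hm1'
  obtain ⟨i, hi, rfl⟩ := isCode_iff_exists.1 hm'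
  have h1 := allR_zero_spec chk2 i hi
  have h3 : (Nat.beq (enc i ^^^ pimg P2 (enc i)) 0 ||
      Nat.beq (enc i ^^^ pimg P2 (enc i)) 16777215) = true := by
    rw [Bool.or_eq_true, Nat.beq_eq, Nat.beq_eq]
    exact hm1'
  rw [h3, Bool.not_true, Bool.false_or] at h1
  exact not_big isCode_w2 popcount_w2 hm' ok_P2 five_2 h1 h2

/-! ### The characterisation -/

/-- An element with large centraliser is conjugate in `C0 o` to a sign change. -/
theorem exists_sign {o : golayCode} (ho : wt o = 8) {t : Co0} (htz : t ∈ C0 o)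
    (ht2 : t * t = 1 ∨ t * t = neg) (h : Big o (mk t)) : Sg o t := by
  have ht4 : t ^ 2 ^ 2 = 1 := by
    rw [show (2 : ℕ) ^ 2 = 2 * 2 from rfl, pow_mul, pow_two, pow_two]
    rcases ht2 with h1 | h1
    · rw [h1, one_mul]
    · rw [h1, neg_mul_self]
  obtain ⟨h0, hC, hN⟩ := exists_conj_N ho htz ht4
  obtain ⟨c, σ, hcσ⟩ := exists_sign_perm hN
  have hC' := mem_C0.1 hC
  have h1 : h0 * signCo0 o * h0⁻¹ = signCo0 o := by rw [hC', mul_inv_cancel_right]
  have hb : Big o (mk (signCo0 c * permCo0 σ)) := by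
    rw [← hcσ]
    exact h.conj h1
  have hyC : signCo0 c * permCo0 σ ∈ C0 o := by
    rw [← hcσ]
    exact (C0 o).mul_mem ((C0 o).mul_mem hC htz) ((C0 o).inv_mem hC)
  have hy2 : (signCo0 c * permCo0 σ) * (signCo0 c * permCo0 σ) = 1 ∨
      (signCo0 c * permCo0 σ) * (signCo0 c * permCo0 σ) = neg := by
    rw [← hcσ, show h0 * t * h0⁻¹ * (h0 * t * h0⁻¹) = h0 * (t * t) * h0⁻¹ by group]
    rcases ht2 with h2 | h2
    · left; rw [h2]; group
    · right; rw [h2, neg_comm, mul_inv_cancel_right]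
  suffices hS : Sg o (signCo0 c * permCo0 σ) by
    obtain ⟨g, hg, d, hd⟩ := hS
    refine ⟨g * h0, (C0 o).mul_mem hg hC, d, ?_⟩
    rw [← hd, ← hcσ]
    group
  have hσo : wordPerm σ o = o := wordPerm_of_comm (mem_C0.1 hyC)
  have hsq : (c + wordPerm σ c = 0 ∨ c + wordPerm σ c = allOne) ∧ σ * σ = 1 := by
    rw [sp_mul, show (1 : Co0) = signCo0 0 * permCo0 1 by rw [signCo0_zero, map_one, mul_one],
      show neg = signCo0 allOne * permCo0 1 by rw [map_one, mul_one]] at hy2
    rcases hy2 with h2 | h2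
    · exact ⟨Or.inl (sp_inj h2).1, (sp_inj h2).2⟩
    · exact ⟨Or.inr (sp_inj h2).1, (sp_inj h2).2⟩
  by_cases hσ : σ = 1
  · subst hσ
    exact ⟨1, (C0 o).one_mem, c, by rw [map_one]; group⟩
  · obtain ⟨g, hg⟩ := invol_conj σ hsq.2 hσ
    obtain ⟨m, hm, hcm⟩ := exists_cd (wordPerm g c)
    obtain ⟨w, hw, how⟩ := exists_cd (wordPerm g o)
    have hP : ∃ P, ok P = true ∧ (P = P1 ∨ P = P2) ∧ g * σ * g⁻¹ = el P := by
      rcases hg with hg | hg
      · exact ⟨P1, ok_P1, Or.inl rfl, hg⟩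
      · exact ⟨P2, ok_P2, Or.inr rfl, hg⟩
    obtain ⟨P, hPok, hPP, hgP⟩ := hP
    have hwP : pimg P w = w := by
      have h2 := perm_fix (g := g) hσo
      rw [hgP, ← how, wordPerm_cd hPok hw] at h2
      exact cd_inj (isCode_pimg hPok hw) hw h2
    have hmP : m ^^^ pimg P m = 0 ∨ m ^^^ pimg P m = 16777215 := by
      have h2 : cd (m ^^^ pimg P m) = wordPerm g (c + wordPerm σ c) := by
        rw [cd_xor hm (isCode_pimg hPok hm), ← wordPerm_cd hPok hm, hcm, wordPerm_add, ← hgP,
          OctPts.wordPerm_mul, OctPts.wordPerm_mul, ← OctPts.wordPerm_mul g⁻¹ g, inv_mul_cancel, OctPts.wordPerm_one]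
      rcases hsq.1 with h3 | h3
      · left
        apply cd_inj (isCode_xor hm (isCode_pimg hPok hm)) isCode_zero
        rw [h2, h3, cd_zero, wordPerm_zero]
      · right
        apply cd_inj (isCode_xor hm (isCode_pimg hPok hm)) isCode_all
        rw [h2, h3, cd_all]
        rfl
    have hw8 : popcount w = 8 := by
      rw [← wt_cd hw, how, wt_wordPerm, ho]
    have hgo : permCo0 g * signCo0 o * (permCo0 g)⁻¹ = signCo0 (cd w) := by
      rw [perm_mul_sign_mul_inv, how]
    have hgy : permCo0 g * (signCo0 c * permCo0 σ) * (permCo0 g)⁻¹ = mo m P := by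
      rw [conj_by_perm, hgP, ← hcm]
      rfl
    have hb2 := hb.conj hgo
    rw [← mk_inv, ← mk_mul, ← mk_mul, hgy] at hb2
    apply Sg.of_conj hgo (perm_hN g)
    rw [hgy]
    rcases hPP with rfl | rfl
    · have hm1 : pimg P1 m = m := by
        rcases hmP with h2 | h2
        · exact (Nat.xor_eq_zero_iff.1 h2).symm
        · exfalso
          obtain ⟨i, hi, rfl⟩ := isCode_iff_exists.1 hm
          have h3 := allR_zero_spec noP1 i hi
          rw [h2] at h3
          revert h3; decide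
      exact case_P1 hm hw hm1 hwP hw8 hb2
    · exact (case_P2 hm hw hmP hwP hw8 hb2).elim

/-- **The characterisation.** -/
theorem char {o : golayCode} (ho : wt o = 8) {e : golayCode} (he : wt e = 8)
    (h4 : (sup o ∩ sup e).card = 4) {x : Spor.Co1} (hx : x * mk (signCo0 o) = mk (signCo0 o) * x)
    (hx2 : x * x = 1) (h : Big o x) :
    ∃ p : Spor.Co1, p * mk (signCo0 o) = mk (signCo0 o) * p ∧ x = p * mk (signCo0 e) * p⁻¹ := by
  obtain ⟨t, rfl⟩ := exists_mk x
  have htC := (comm_iff ho t).1 hx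
  obtain ⟨g, hg, c, hc⟩ := exists_sign ho htC ((mk_eq_one _).1 hx2) h
  have h1 : g * signCo0 o * g⁻¹ = signCo0 o := by rw [mem_C0.1 hg, mul_inv_cancel_right]
  have h2 := h.conj h1
  rw [← mk_inv, ← mk_mul, ← mk_mul, hc] at h2
  obtain ⟨e', he', h5, h6⟩ := sign_gen ho h2
  obtain ⟨σ, hσ, hσe⟩ := word_trans ho he he' (h4.trans h5.symm)
  refine ⟨mk (g⁻¹ * permCo0 σ), (comm_iff ho _).2 ((C0 o).mul_mem ((C0 o).inv_mem hg)
    (perm_mem (mem_So.1 hσ))), ?_⟩
  have h7 : mk (permCo0 σ) * mk (signCo0 e) * (mk (permCo0 σ))⁻¹ = mk (signCo0 c) := by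
    rw [← mk_inv, ← mk_mul, ← mk_mul, perm_mul_sign_mul_inv, hσe, h6]
  rw [← hc, mk_mul, mk_mul, mk_inv] at h7
  have h8 : mk t = (mk g)⁻¹ * (mk g * mk t * (mk g)⁻¹) * mk g := by group
  rw [h8, ← h7, mk_mul, mk_inv]
  group

/-- The sign change on an octad meeting `o` in four points has a large centraliser. -/
theorem big_sign {o : golayCode} (ho : wt o = 8) {e : golayCode} (he : wt e = 8)
    (h4 : (sup o ∩ sup e).card = 4) : Big o (mk (signCo0 e)) := by
  classical
  have h4' : (sup e ∩ sup o).card = 4 := by rw [Finset.inter_comm]; exact h4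
  refine ⟨?_, ?_⟩
  · apply sign_notMem_RCo1
    · obtain ⟨i, hi⟩ : (sup e ∩ sup o).Nonempty := by
        rw [← Finset.card_pos]; omega
      rw [Finset.mem_inter] at hi
      exact ⟨i, hi⟩
    · by_contra hcon
      push Not at hcon
      have h5 : sup o ⊆ sup e ∩ sup o := fun x hx =>
        Finset.mem_inter.2 ⟨by_contra fun h => hcon x h hx, hx⟩
      have h6 := Finset.card_le_card h5
      have h7 : (sup o).card = 8 := ho
      omega
  · have hfin : Fintype golayCode := Fintype.ofFinite _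
    set x := mk (signCo0 e) with hx
    let C := (Subgroup.centralizer ({x} : Set Spor.Co1)).subgroupOf (RCo1 o)
    let B : Finset golayCode := Finset.univ.filter fun e' => wt e' = 8 ∧ sup e' ∩ sup o = sup e ∩ sup o
    have hB : B.card ≤ 4 := by
      have h5 : (B.biUnion fun e' => sup e' \ sup o).card = ∑ e' ∈ B, (sup e' \ sup o).card := by
        apply Finset.card_biUnion
        intro a ha b hb hab
        show Disjoint (sup a \ sup o) (sup b \ sup o)
        rw [Finset.disjoint_left]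
        intro p hpa hpb
        rw [Finset.mem_sdiff] at hpa hpb
        have ha' := (Finset.mem_filter.1 ha).2
        have hb' := (Finset.mem_filter.1 hb).2
        exact hab (eq_of_meet h4' ha'.1 hb'.1 ha'.2 hb'.2 hpa.2 hpa.1 hpb.1)
      have h6 : ∀ e' ∈ B, (sup e' \ sup o).card = 4 := by
        intro e' he'
        have h7 := (Finset.mem_filter.1 he').2
        have h8 := Finset.card_sdiff_add_card_inter (sup e') (sup o)
        rw [h7.2, h4'] at h8
        have h9 : (sup e').card = 8 := h7.1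
        omega
      rw [Finset.sum_congr rfl h6, Finset.sum_const, smul_eq_mul] at h5
      have h7 : (B.biUnion fun e' => sup e' \ sup o) ⊆ (sup o)ᶜ := by
        intro p hp
        rw [Finset.mem_biUnion] at hp
        obtain ⟨a, -, ha⟩ := hp
        rw [Finset.mem_compl]
        exact (Finset.mem_sdiff.1 ha).2
      have h8 := Finset.card_le_card h7
      rw [Finset.card_compl, h5] at h8
      have h9 : (sup o).card = 8 := ho
      have h10 : Fintype.card GolayPt = 24 := SporadicStructure.MinShapes.card_pt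
      omega
    have hconj : ∀ r ∈ RCo1 o, r * x * r⁻¹ ∈ B.image fun e' => mk (signCo0 e') := by
      rintro _ ⟨r, hr, rfl⟩
      obtain ⟨c, σ, hc, hσ, rfl⟩ := exists_of_mem_Rh ho hr
      rw [Finset.mem_image]
      refine ⟨wordPerm σ e, ?_, ?_⟩
      · rw [Finset.mem_filter]
        refine ⟨Finset.mem_univ _, by rw [wt_wordPerm, he], ?_⟩
        ext i
        rw [Finset.mem_inter, Finset.mem_inter]
        constructor
        · rintro ⟨h1, h2⟩
          have h3 := mem_Fo.1 hσ i h2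
          rw [← h3] at h1
          exact ⟨(mem_sup_wordPerm σ e i).1 h1, h2⟩
        · rintro ⟨h1, h2⟩
          have h3 := mem_Fo.1 hσ i h2
          refine ⟨?_, h2⟩
          rw [← h3]
          exact (mem_sup_wordPerm σ e i).2 h1
      · show mk (signCo0 (wordPerm σ e)) = mk (signCo0 c * permCo0 σ) * x *
          (mk (signCo0 c * permCo0 σ))⁻¹
        rw [hx, ← mk_inv, ← mk_mul, ← mk_mul]
        congr 1
        rw [mul_inv_rev, signCo0_inv, ← mul_assoc, mul_assoc (signCo0 c), mul_assoc (signCo0 c),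
          perm_mul_sign_mul_inv, ← signCo0_add, ← signCo0_add, add_comm c, add_assoc,
          OctPts.add_self, add_zero]
    have hidx : C.index ≤ 4 := by
      let φ : RCo1 o ⧸ C → (B.image fun e' => mk (signCo0 e')) := Quotient.lift
        (fun r : RCo1 o => (⟨(r : Spor.Co1) * x * (r : Spor.Co1)⁻¹, hconj r r.2⟩ :
          (B.image fun e' => mk (signCo0 e')))) (by
          intro a b hab
          apply Subtype.ext
          have h1 : (a⁻¹ * b : RCo1 o) ∈ C := QuotientGroup.leftRel_apply.1 hab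
          rw [Subgroup.mem_subgroupOf, Subgroup.mem_centralizer_singleton_iff] at h1
          have h2 : ((a : Spor.Co1)⁻¹ * b) * x = x * ((a : Spor.Co1)⁻¹ * b) := h1
          show (a : Spor.Co1) * x * (a : Spor.Co1)⁻¹ = b * x * (b : Spor.Co1)⁻¹
          calc (a : Spor.Co1) * x * (a : Spor.Co1)⁻¹ =
              a * (x * ((a : Spor.Co1)⁻¹ * b)) * (b : Spor.Co1)⁻¹ := by group
            _ = a * ((a : Spor.Co1)⁻¹ * b * x) * (b : Spor.Co1)⁻¹ := by rw [h2]
            _ = _ := by group)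
      have hφ : Function.Injective φ := by
        intro a b
        induction a using QuotientGroup.induction_on with
        | H a =>
        induction b using QuotientGroup.induction_on with
        | H b =>
        intro hab
        have h1 : (a : Spor.Co1) * x * (a : Spor.Co1)⁻¹ = b * x * (b : Spor.Co1)⁻¹ :=
          congrArg Subtype.val hab
        rw [QuotientGroup.eq, Subgroup.mem_subgroupOf, Subgroup.mem_centralizer_singleton_iff]
        show ((a : Spor.Co1)⁻¹ * b) * x = x * ((a : Spor.Co1)⁻¹ * b)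
        calc ((a : Spor.Co1)⁻¹ * b) * x = (a : Spor.Co1)⁻¹ * (b * x * (b : Spor.Co1)⁻¹) * b := by group
          _ = (a : Spor.Co1)⁻¹ * (a * x * (a : Spor.Co1)⁻¹) * b := by rw [h1]
          _ = _ := by group
      have h1 := Nat.card_le_card_of_injective φ hφ
      rw [Nat.card_eq_fintype_card (α := ((B.image fun e' => mk (signCo0 e')) : Finset Spor.Co1)),
        Fintype.card_coe] at h1
      exact h1.trans (Finset.card_image_le.trans hB)
    have h1 := C.card_mul_index
    rw [card_R ho] at h1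
    have h2 : Nat.card C = Nat.card ↥(RCo1 o ⊓ Subgroup.centralizer ({x} : Set Spor.Co1)) := by
      rw [Nat.card_congr (C.equivMapOfInjective (RCo1 o).subtype (RCo1 o).subtype_injective).toEquiv,
        Subgroup.subgroupOf_map_subtype, inf_comm]
    rw [h2] at h1
    by_contra hcon
    push Not at hcon
    have h3 : Nat.card ↥(RCo1 o ⊓ Subgroup.centralizer ({x} : Set Spor.Co1)) * C.index ≤ 127 * 4 :=
      Nat.mul_le_mul (by omega) hidx
    omega

/-! ### Automorphisms of the centraliser -/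

/-- The centraliser of `z`. -/
abbrev Cz (o : golayCode) : Subgroup Spor.Co1 := Subgroup.centralizer {mk (signCo0 o)}

/-- Automorphisms of `C(z)` preserve `RCo1 o`. -/
theorem beta_mem {o : golayCode} (ho : wt o = 8) (β : MulAut (Cz o)) (q : Cz o)
    (hq : (q : Spor.Co1) ∈ RCo1 o) : ((β q : Cz o) : Spor.Co1) ∈ RCo1 o := by
  have : Fact (Nat.Prime 2) := ⟨Nat.prime_two⟩
  let W : Subgroup Spor.Co1 := ((RCo1 o).subgroupOf (Cz o)).map ((Cz o).subtype.comp β.toMonoidHom)
  have hR2 : IsPGroup 2 (RCo1 o) := IsPGroup.of_card (n := 9) (by rw [card_R ho]; norm_num)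
  have hW : W ≤ RCo1 o := by
    apply LargeO2.le_of_normal (large ho) (irr ho) (exists_in ho)
    · exact (hR2.comap_subtype (K := Cz o)).map _
    · rintro _ ⟨y, -, rfl⟩
      exact Subgroup.mem_centralizer_singleton_iff.1 (β y).2
    · rintro u hu _ ⟨y, hy, rfl⟩
      have huC : u ∈ Cz o := Subgroup.mem_centralizer_singleton_iff.2 hu
      obtain ⟨v, hvu⟩ := β.surjective ⟨u, huC⟩
      refine ⟨v * y * v⁻¹, ?_, ?_⟩
      · have hy' : (y : Spor.Co1) ∈ RCo1 o := Subgroup.mem_subgroupOf.1 hy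
        exact Subgroup.mem_subgroupOf.2
          ((large ho).conj_mem v (Subgroup.mem_centralizer_singleton_iff.1 v.2) _ hy')
      · show ((β (v * y * v⁻¹) : Cz o) : Spor.Co1) = u * (β y : Cz o) * u⁻¹
        rw [map_mul, map_mul, map_inv, hvu]
        rfl
  exact hW ⟨q, Subgroup.mem_subgroupOf.2 hq, rfl⟩

theorem big_beta {o : golayCode} (ho : wt o = 8) (β : MulAut (Cz o)) (x : Cz o)
    (h : Big o (x : Spor.Co1)) : Big o ((β x : Cz o) : Spor.Co1) := by
  refine ⟨fun h1 => h.1 ?_, h.2.trans ?_⟩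
  · have h2 := beta_mem ho β⁻¹ (β x) h1
    rwa [MulAut.inv_apply_self] at h2
  · have hRC : ∀ q ∈ RCo1 o, q ∈ Cz o := fun q hq =>
      Subgroup.mem_centralizer_singleton_iff.2 ((large ho).comm_z q hq)
    let f : ↥(RCo1 o ⊓ Subgroup.centralizer ({(x : Spor.Co1)} : Set Spor.Co1)) →
        ↥(RCo1 o ⊓ Subgroup.centralizer ({((β x : Cz o) : Spor.Co1)} : Set Spor.Co1)) := fun q =>
      ⟨((β ⟨q, hRC q q.2.1⟩ : Cz o) : Spor.Co1), beta_mem ho β ⟨q, hRC q q.2.1⟩ q.2.1, by
        apply Subgroup.mem_centralizer_singleton_iff.2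
        have h1 : (q : Spor.Co1) * x = x * q := Subgroup.mem_centralizer_singleton_iff.1 q.2.2
        have h2 : (⟨q, hRC q q.2.1⟩ : Cz o) * x = x * ⟨q, hRC q q.2.1⟩ := Subtype.ext h1
        have h3 := congrArg (fun y => ((β y : Cz o) : Spor.Co1)) h2
        simp only [map_mul] at h3
        exact h3⟩
    apply Nat.card_le_card_of_injective f
    intro a b hab
    have h1 : ((β ⟨a, hRC a a.2.1⟩ : Cz o) : Spor.Co1) = ((β ⟨b, hRC b b.2.1⟩ : Cz o) : Spor.Co1) := by
      have h0 : (f a).1 = (f b).1 := by rw [hab]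
      exact h0
    have h2 := β.injective (Subtype.ext h1)
    exact Subtype.ext (congrArg (fun y : Cz o => (y : Spor.Co1)) h2)

/-- **The `y`-trick for `Co1`.** -/
theorem ytrick {o : golayCode} (ho : wt o = 8) : ∃ k : Spor.Co1,
    (k * mk (signCo0 o) * k⁻¹) * mk (signCo0 o) = mk (signCo0 o) * (k * mk (signCo0 o) * k⁻¹) ∧
    k * mk (signCo0 o) * k⁻¹ ∉ RCo1 o ∧
    ∀ hkz : k⁻¹ * mk (signCo0 o) * k ∈ Subgroup.centralizer ({mk (signCo0 o)} : Set Spor.Co1),
      ∀ β : MulAut (Subgroup.centralizer ({mk (signCo0 o)} : Set Spor.Co1)),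
      ((β ⟨mk (signCo0 o), Subgroup.mem_centralizer_singleton_iff.2 rfl⟩ :
        Subgroup.centralizer ({mk (signCo0 o)} : Set Spor.Co1)) : Spor.Co1) = mk (signCo0 o) →
      ∃ p : Spor.Co1, p * mk (signCo0 o) = mk (signCo0 o) * p ∧
        ((β ⟨k⁻¹ * mk (signCo0 o) * k, hkz⟩ :
          Subgroup.centralizer ({mk (signCo0 o)} : Set Spor.Co1)) : Spor.Co1) =
            p * (k⁻¹ * mk (signCo0 o) * k) * p⁻¹ := by
  obtain ⟨e, he, h4, -, hcomm, hnot⟩ := exists_outside ho
  obtain ⟨σ, hσ⟩ := CoOneType.InvMain.exists_perm_octad (c := o) (d := e)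
    ⟨sup_mem o, ho⟩ ⟨sup_mem _, he⟩
  have hz1 : mk (permCo0 σ) * mk (signCo0 o) * (mk (permCo0 σ))⁻¹ = mk (signCo0 e) := by
    rw [← mk_inv, ← mk_mul, ← mk_mul, perm_mul_sign_mul_inv, hσ]
  have hw : (mk (permCo0 σ))⁻¹ * mk (signCo0 o) * mk (permCo0 σ) =
      mk (signCo0 (wordPerm σ⁻¹ o)) := by
    have h1 : (permCo0 σ)⁻¹ * signCo0 o * permCo0 σ = signCo0 (wordPerm σ⁻¹ o) := by
      rw [← perm_mul_sign_mul_inv, map_inv, inv_inv]
    rw [← mk_inv, ← mk_mul, ← mk_mul, h1]
  have he' : wt (wordPerm σ⁻¹ o) = 8 := by rw [wt_wordPerm, ho]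
  have h4' : (sup o ∩ sup (wordPerm σ⁻¹ o)).card = 4 := by
    have h1 := wt_add o (wordPerm σ⁻¹ o)
    have h2 := wt_add e o
    have h3 : wt (o + wordPerm σ⁻¹ o) = wt (e + o) := by
      rw [← wt_wordPerm σ, wordPerm_add, hσ, ← OctPts.wordPerm_mul, mul_inv_cancel, OctPts.wordPerm_one]
    omega
  refine ⟨mk (permCo0 σ), by rw [hz1]; exact hcomm, by rw [hz1]; exact hnot, ?_⟩
  intro hkz β hβ
  have hb : Big o (mk (signCo0 (wordPerm σ⁻¹ o))) := big_sign ho he' h4'
  rw [← hw] at hb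
  have hb2 := big_beta ho β ⟨_, hkz⟩ hb
  have hsq : (⟨_, hkz⟩ : Subgroup.centralizer ({mk (signCo0 o)} : Set Spor.Co1)) * ⟨_, hkz⟩ = 1 := by
    apply Subtype.ext
    show (mk (permCo0 σ))⁻¹ * mk (signCo0 o) * mk (permCo0 σ) *
      ((mk (permCo0 σ))⁻¹ * mk (signCo0 o) * mk (permCo0 σ)) = 1
    rw [hw, ← mk_mul, signCo0_mul_self]
    rfl
  have hsq2 := congrArg (fun y => ((β y : Subgroup.centralizer ({mk (signCo0 o)} : Set Spor.Co1)) :
    Spor.Co1)) hsq
  simp only [map_mul, map_one] at hsq2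
  obtain ⟨p, hp1, hp2⟩ := char ho he' h4'
    (Subgroup.mem_centralizer_singleton_iff.1 (β ⟨_, hkz⟩).2) hsq2 hb2
  refine ⟨p, hp1, ?_⟩
  rw [hp2, ← hw]

end Cfsg.Agent.KFacts.Co1.YTrick
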