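import Cfsg.Agent.KFacts.Co1.Simp
import Cfsg.Agent.KFacts.Co1.SheetCo1
import Cfsg.Agent.KFacts.Co1.YTrick
import Cfsg.Agent.KFacts.Th.CaseM

/-!
# The sheets of `Co1`: type (E) and case (M) (helper899)

`sheetE`, `sheetM`, `exists_sheets`.
-/

set_option autoImplicit false
open Cfsg
open scoped Pointwise commutatorElement

namespace Cfsg.Agent.KFacts.Co1.CaseM

open Cfsg.Agent.SporadicA.Co0Mono Cfsg.Agent.SporadicA.Co1Simple
open Cfsg.Agent.SporadicStructure.Co0Base (e8 e8_coe)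
open Cfsg.Agent.CoOneType.SignFacts (sup mem_sup notMem_sup wt sup_mem)
open Cfsg.Agent.CoOneType.CentOctad (C0 mem_C0 sign_mem perm_mem)
open Cfsg.Agent.CoOneType.ClosingFacts (exists_mk mk mk_eq mk_eq_one mk_mul mk_inv)
open Cfsg.Agent.KFacts.Co1.InCo1 Cfsg.Agent.KFacts.Co1.OctPts Cfsg.Agent.KFacts.Co1.RHat
open Cfsg.Agent.KFacts.Co1.RIrr Cfsg.Agent.KFacts.Co1.Perf
open Cfsg.Agent.OddHalf Cfsg.Agent.OddHalf.D8.Sheet Cfsg.Agent.OddHalf.CaseM

universe u

variable {o : golayCode}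

/-- **The sheet of type (E) of `Co1`.** -/
theorem sheetE (ho : wt o = 8) :
    SheetE (mk (signCo0 o)) (Subgroup.centralizer ({mk (signCo0 o)} : Set Spor.Co1)) (RCo1 o) := by
  refine SheetCo1.sheet ho fun hzP => ?_
  obtain ⟨k, h1, h2, h3⟩ := YTrick.ytrick ho
  have hw : k⁻¹ * mk (signCo0 o) * k ∈
      Subgroup.centralizer ({mk (signCo0 o)} : Set Spor.Co1) := by
    rw [Subgroup.mem_centralizer_singleton_iff]
    have e1 : k⁻¹ * (k * mk (signCo0 o) * k⁻¹ * mk (signCo0 o)) * k =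
        mk (signCo0 o) * (k⁻¹ * mk (signCo0 o) * k) := by group
    have e2 : k⁻¹ * (mk (signCo0 o) * (k * mk (signCo0 o) * k⁻¹)) * k =
        k⁻¹ * mk (signCo0 o) * k * mk (signCo0 o) := by group
    rw [← e1, ← e2, h1]
  exact ⟨k, Subgroup.mem_centralizer_singleton_iff.2 h1, h2, hw, fun β hβ => h3 hw β hβ⟩

/-- `C(z) / R` is simple. -/
theorem normal (ho : wt o = 8) (M : Subgroup Spor.Co1)
    (hM : M ≤ Subgroup.centralizer ({mk (signCo0 o)} : Set Spor.Co1)) (hR : RCo1 o ≤ M)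
    (hn : ∀ p ∈ Subgroup.centralizer ({mk (signCo0 o)} : Set Spor.Co1), ∀ n ∈ M,
      p * n * p⁻¹ ∈ M) :
    M = RCo1 o ∨ M = Subgroup.centralizer ({mk (signCo0 o)} : Set Spor.Co1) := by
  have hMC : M.comap pr ≤ C0 o := by
    rw [← comap_cent ho]
    exact Subgroup.comap_mono hM
  rcases Simp.simple ho (M.comap pr) hMC (by
      intro g hg m hm
      show pr (g * m * g⁻¹) ∈ M
      rw [map_mul, map_mul, map_inv]
      exact hn _ ((mem_cent ho g).2 hg) _ hm) (fun r hr => hR ⟨r, hr, rfl⟩) with h | h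
  · left
    refine le_antisymm (fun x hx => ?_) hR
    obtain ⟨g, rfl⟩ := exists_mk x
    rcases h g hx with h1 | h1
    · exact ⟨g, h1, rfl⟩
    · refine ⟨_, h1, ?_⟩
      show mk (g * signCo0 allOne) = mk g
      rw [mk_eq]
      exact Or.inr rfl
  · right
    refine le_antisymm hM fun x hx => ?_
    obtain ⟨g, rfl⟩ := exists_mk x
    exact h ((mem_cent ho g).1 hx)

/-- An element of order 5 not central modulo `R`. -/
theorem exists_five (ho : wt o = 8) :
    ∃ x ∈ Subgroup.centralizer ({mk (signCo0 o)} : Set Spor.Co1),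
    ∃ y ∈ Subgroup.centralizer ({mk (signCo0 o)} : Set Spor.Co1),
      IsPGroup 5 (Subgroup.zpowers x) ∧ ⁅x, y⁆ ∉ RCo1 o := by
  classical
  have : Fact (Nat.Prime 5) := ⟨by norm_num⟩
  obtain ⟨s, hs5⟩ := exists_prime_orderOf_dvd_card' (G := So o) 5 (by
    rw [card_So ho]; norm_num)
  have hs : (s : M24) ^ 5 = 1 := by
    rw [← Subgroup.coe_pow, ← hs5, pow_orderOf_eq_one, Subgroup.coe_one]
  have hs1 : (s : M24) ≠ 1 := by
    intro h
    have h1 : s = 1 := Subtype.ext h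
    rw [h1, orderOf_one] at hs5
    norm_num at hs5
  -- `s` moves a point of `o`
  have hF : (s : M24) ∉ Fo o := by
    intro h
    have h2 := fo_sq ho h
    apply hs1
    calc (s : M24) = (s : M24) ^ 5 * ((s : M24) * (s : M24))⁻¹ * ((s : M24) * (s : M24))⁻¹ := by
          group
      _ = 1 := by rw [hs, h2]; group
  rw [mem_Fo] at hF
  push Not at hF
  obtain ⟨a, ha, hab⟩ := hF
  set b := ((s : M24) : Equiv.Perm GolayPt) a with hb
  set a' := ((s : M24) : Equiv.Perm GolayPt).symm a with ha'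
  have hsa' : ((s : M24) : Equiv.Perm GolayPt) a' = a := Equiv.apply_symm_apply _ _
  obtain ⟨d, hdo, hd⟩ : ∃ d ∈ sup o, d ∉ ({a, a'} : Finset GolayPt) := by
    by_contra hcon
    push Not at hcon
    have h1 : sup o ⊆ {a, a'} := hcon
    have h2 := Finset.card_le_card h1
    have h3 := Finset.card_le_two (a := a) (b := a')
    have h4 : (sup o).card = 8 := ho
    omega
  rw [Finset.mem_insert, Finset.mem_singleton, not_or] at hd
  obtain ⟨c, -, hc⟩ := exists_two ho ha hdo (Ne.symm hd.1)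
  have hcm : ∀ q ∈ sup o, (q ∈ sup c ↔ q = a ∨ q = d) := by
    intro q hq
    have h1 : q ∈ sup c ∩ sup o ↔ q ∈ ({a, d} : Finset GolayPt) := by rw [hc]
    rw [Finset.mem_inter, Finset.mem_insert, Finset.mem_singleton] at h1
    exact ⟨fun h => h1.1 ⟨h, hq⟩, fun h => (h1.2 h).1⟩
  have hcm' : ∀ q ∈ sup o, (q ∈ sup (wordPerm (s : M24) c) ↔
      q = b ∨ q = ((s : M24) : Equiv.Perm GolayPt) d) := by
    intro q hq
    obtain ⟨q', rfl⟩ : ∃ q', ((s : M24) : Equiv.Perm GolayPt) q' = q :=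
      ⟨_, Equiv.apply_symm_apply _ q⟩
    rw [mem_sup_wordPerm, hcm q' ((So_apply s.2 q').1 hq), hb,
      (((s : M24) : Equiv.Perm GolayPt)).injective.eq_iff,
      (((s : M24) : Equiv.Perm GolayPt)).injective.eq_iff]
  have hsum : ∀ q ∈ sup o, q ∈ sup (wordPerm (s : M24) c + c) →
      q ∈ ({a, d, b, ((s : M24) : Equiv.Perm GolayPt) d} : Finset GolayPt) := by
    intro q hq h
    rw [OctPts.sup_add, Finset.mem_symmDiff, hcm q hq, hcm' q hq] at h
    simp only [Finset.mem_insert, Finset.mem_singleton]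
    tauto
  refine ⟨mk (permCo0 (s : M24)), (mem_cent ho _).2 (perm_mem s.2), mk (signCo0 c),
    (mem_cent ho _).2 (sign_mem o c), ?_, ?_⟩
  · rintro ⟨x, hx⟩
    obtain ⟨i, rfl⟩ := Subgroup.mem_zpowers_iff.1 hx
    refine ⟨1, Subtype.ext ?_⟩
    show (mk (permCo0 (s : M24)) ^ i) ^ (5 ^ 1) = 1
    have h1 : mk (permCo0 (s : M24)) ^ 5 = 1 := by
      show (pr (permCo0 (s : M24))) ^ 5 = 1
      rw [← map_pow, ← map_pow, hs, map_one, map_one]
    rw [← zpow_natCast, ← zpow_mul, mul_comm, zpow_mul, zpow_natCast, pow_one, h1, one_zpow]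
  · have h1 : ⁅mk (permCo0 (s : M24)), mk (signCo0 c)⁆ =
        mk (signCo0 (wordPerm (s : M24) c + c)) := by
      rw [commutatorElement_def, ← mk_inv, ← mk_inv, ← mk_mul, ← mk_mul, ← mk_mul,
        perm_mul_sign_mul_inv, signCo0_inv, ← signCo0_add]
    rw [h1]
    apply sign_notMem_RCo1
    · refine ⟨a, ?_, ha⟩
      rw [OctPts.sup_add, Finset.mem_symmDiff, hcm a ha, hcm' a ha]
      right
      refine ⟨Or.inl rfl, ?_⟩
      rintro (h | h)
      · exact hab h.symm
      · apply hd.2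
        rw [ha', h, Equiv.symm_apply_apply]
    · by_contra hcon
      push Not at hcon
      have h2 : sup o ⊆ {a, d, b, ((s : M24) : Equiv.Perm GolayPt) d} := by
        intro q hq
        exact hsum q hq (by_contra fun h => hcon q h hq)
      have h3 := Finset.card_le_card h2
      have h4 := Finset.card_le_four (a := a) (b := d) (c := b)
        (d := ((s : M24) : Equiv.Perm GolayPt) d)
      have h5 : (sup o).card = 8 := ho
      omega

/-- **The sheet of case (M) of `Co1`.** -/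
theorem sheetM (ho : wt o = 8) :
    SheetM (Subgroup.centralizer ({mk (signCo0 o)} : Set Spor.Co1)) (RCo1 o) := by
  obtain ⟨x, hx, y, hy, hxp, hxy⟩ := exists_five ho
  refine SheetM.of_quasisimple (sheetE ho) (p := 5) (w := 4) ?_ (by norm_num) (by norm_num) ?_
    hx hxp hy hxy ⟨0, ?_⟩ ⟨0, ?_⟩
  · intro M hM hR hn
    rcases normal ho M hM hR hn with h | h
    · left
      rw [h, Subgroup.commutator_le]
      intro r hr y hy
      have h2 := (sheetE ho).Rn y hy _ ((RCo1 o).inv_mem hr)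
      rw [commutatorElement_def]
      have h3 : r * y * r⁻¹ * y⁻¹ = r * (y * r⁻¹ * y⁻¹) := by group
      rw [h3]
      exact (RCo1 o).mul_mem hr h2
    · exact Or.inr h
  · rw [YBig.card_R ho]; norm_num
  · rw [SheetCo1.range_conj, Subgroup.index_top, pow_zero]
  · rw [pow_zero, Subgroup.relIndex_self]

/-- The two sheets for `K ≅ Co1`. -/
theorem exists_sheets (K : Type u) [Group K] (e : Spor.IsoCo1 K) :
    ∃ (z : K) (P R : Subgroup K), SheetE z P R ∧ SheetM P R := by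
  obtain ⟨e⟩ := e
  obtain ⟨o, ho⟩ := Cfsg.Agent.CoOneType.ClosingCo1.exists_octad
  exact ⟨_, _, _, D8.SheetMap.sheetE_map e.symm (sheetE ho),
    Cfsg.Agent.KFacts.Th.CaseM.sheetM_map e.symm (sheetM ho)⟩

end Cfsg.Agent.KFacts.Co1.CaseM
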