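import Cfsg.Agent.KFacts.Co1.Perf
import Cfsg.Agent.KFacts.LargeO2
import Cfsg.Agent.CoOneType.ClosingCo1

/-!
# The centraliser `2^{1+8}.O8+(2)` of a 2-central involution of `Co1` (helper899)

`z = mk (signCo0 o)`, `o` an octad word; `RCo1 o` is the image of `Rh o`.
`large : Large (RCo1 o) z`, `irr : Irr (RCo1 o) z`, `le_comm`, `commutator_eq_top` (the centraliser
of `z` is perfect), `odd_index`, `exists_outside`.
-/

set_option autoImplicit false
open Cfsg
open scoped Pointwise commutatorElement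

namespace Cfsg.Agent.KFacts.Co1.InCo1

open Cfsg.Agent.SporadicA.Co0Mono Cfsg.Agent.SporadicA.Co1Simple
open Cfsg.Agent.CoOneType.SignFacts (sup mem_sup notMem_sup wt sup_mem wt_cases sup_add_allOne
  wt_add_allOne sign_allOne_comm wt_eq_of_conj)
open Cfsg.Agent.CoOneType.CentOctad (C0 mem_C0 sign_mem perm_mem xi_mem)
open Cfsg.Agent.CoOneType.ClosingFacts (mk mk_mul mk_inv exists_mk mk_eq_one mk_eq mk_add_allOne
  isConj_octad)
open Cfsg.Agent.KFacts.Co1.OctGen (mem_N_of_smul_e8 sign_inj)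
open Cfsg.Agent.KFacts.Co1.OctPts Cfsg.Agent.KFacts.Co1.RHat Cfsg.Agent.KFacts.Co1.RIrr
open Cfsg.Agent.KFacts.Co1.Perf
open Cfsg.Agent.Co2Type.Quad (Large)
open Cfsg.Agent.KFacts.LargeO2 (Irr)
open Cfsg.Agent.SporadicA
open Cfsg.Agent.SporadicStructure

variable {o : golayCode}

/-- The projection. -/
abbrev pr : Co0 →* Spor.Co1 := QuotientGroup.mk' (Subgroup.center Co0)

/-- The image of `Rh o` in `Co1`. -/
def RCo1 (o : golayCode) : Subgroup Spor.Co1 := (Rh o).map pr

theorem mem_RCo1 {k : Spor.Co1} : k ∈ RCo1 o ↔ ∃ r ∈ Rh o, mk r = k := Iff.rfl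

theorem allOne_ne_one : signCo0 allOne ≠ 1 := by
  intro h
  rw [← signCo0_zero] at h
  have h1 := sign_inj h
  have h2 : ((allOne : golayCode) : GolayPt → ZMod 2) none = 0 := by rw [h1]; rfl
  have h3 : (1 : ZMod 2) = 0 := h2
  exact absurd h3 (by decide)

theorem comm_iff (ho : wt o = 8) (g : Co0) :
    mk g * mk (signCo0 o) = mk (signCo0 o) * mk g ↔ g ∈ C0 o := by
  rw [mem_C0, ← mk_mul, ← mk_mul, mk_eq]
  constructor
  · rintro (h | h)
    · exact h
    · exfalso
      have h1 : g * signCo0 o = signCo0 (o + allOne) * g := by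
        rw [h, signCo0_add, mul_assoc, mul_assoc, sign_allOne_comm]
      have h2 := wt_eq_of_conj _ _ _ h1
      have h3 := wt_add_allOne o
      omega
  · exact Or.inl

theorem mem_cent (ho : wt o = 8) (g : Co0) :
    mk g ∈ Subgroup.centralizer ({mk (signCo0 o)} : Set Spor.Co1) ↔ g ∈ C0 o := by
  rw [Subgroup.mem_centralizer_singleton_iff, comm_iff ho]

theorem cent_eq (ho : wt o = 8) :
    Subgroup.centralizer ({mk (signCo0 o)} : Set Spor.Co1) = (C0 o).map pr := by
  ext k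
  obtain ⟨g, rfl⟩ := exists_mk k
  rw [mem_cent ho]
  constructor
  · intro h; exact ⟨g, h, rfl⟩
  · rintro ⟨g', hg', h⟩
    have h1 : mk g' = mk g := h
    have h2 : mk g' ∈ Subgroup.centralizer ({mk (signCo0 o)} : Set Spor.Co1) := (mem_cent ho g').2 hg'
    rw [h1] at h2
    exact (mem_cent ho g).1 h2

theorem comap_cent (ho : wt o = 8) :
    (Subgroup.centralizer ({mk (signCo0 o)} : Set Spor.Co1)).comap pr = C0 o := by
  ext g
  exact mem_cent ho g

/-- The centraliser of `z` has odd index. -/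
theorem odd_index (ho : wt o = 8) :
    Odd (Subgroup.centralizer ({mk (signCo0 o)} : Set Spor.Co1)).index := by
  have h := odd_index_C0 ho
  rw [← comap_cent ho, Subgroup.index_comap_of_surjective _
    (QuotientGroup.mk'_surjective (Subgroup.center Co0))] at h
  exact h

/-- The centraliser of `z` is perfect. -/
theorem le_comm (ho : wt o = 8) :
    Subgroup.centralizer ({mk (signCo0 o)} : Set Spor.Co1) ≤
      ⁅Subgroup.centralizer ({mk (signCo0 o)} : Set Spor.Co1),
        Subgroup.centralizer ({mk (signCo0 o)} : Set Spor.Co1)⁆ := by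
  rw [cent_eq ho, ← Subgroup.map_commutator]
  exact Subgroup.map_mono (Perf.le_comm ho)

theorem comm_eq (ho : wt o = 8) :
    ⁅Subgroup.centralizer ({mk (signCo0 o)} : Set Spor.Co1),
        Subgroup.centralizer ({mk (signCo0 o)} : Set Spor.Co1)⁆ =
      Subgroup.centralizer ({mk (signCo0 o)} : Set Spor.Co1) :=
  le_antisymm ((Subgroup.commutator_le_sup _ _).trans (sup_le le_rfl le_rfl)) (le_comm ho)

theorem commutator_eq_top (ho : wt o = 8) :
    commutator (Subgroup.centralizer ({mk (signCo0 o)} : Set Spor.Co1)) = ⊤ := by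
  apply Subgroup.map_injective
    (Subgroup.centralizer ({mk (signCo0 o)} : Set Spor.Co1)).subtype_injective
  rw [_root_.commutator_def, Subgroup.map_commutator, ← MonoidHom.range_eq_map,
    Subgroup.range_subtype, comm_eq ho]

theorem z_ne_one (ho : wt o = 8) : mk (signCo0 o) ≠ 1 := by
  intro h
  rcases (mk_eq_one _).1 h with h | h
  · exact sign_notMem ho (by rw [h]; exact Subgroup.one_mem _)
  · have h1 := sign_inj h
    exact omega_ne_one ho (by rw [h1, add_self, signCo0_zero])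

/-- Elements of `Rh o` with the same image are equal. -/
theorem eq_of_mk (ho : wt o = 8) {r s : Co0} (hr : r ∈ Rh o) (hs : s ∈ Rh o) (h : mk r = mk s) :
    r = s := by
  rcases (mk_eq _ _).1 h with h | h
  · exact h
  · exfalso
    apply allOne_notMem ho
    have h1 : signCo0 allOne = s⁻¹ * r := by rw [h, inv_mul_cancel_left]
    rw [h1]
    exact (Rh o).mul_mem ((Rh o).inv_mem hs) hr

/-- `RCo1 o` is a large extraspecial subgroup. -/
theorem large (ho : wt o = 8) : Large (RCo1 o) (mk (signCo0 o)) where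
  z_mem := ⟨_, omega_mem, mk_add_allOne o⟩
  z_ne := z_ne_one ho
  z_sq := by rw [← mk_mul, signCo0_mul_self]; rfl
  comm_z := by
    rintro _ ⟨r, hr, rfl⟩
    exact (comm_iff ho r).2 (Rh_le_C0 ho hr)
  conj_mem := by
    intro g hg
    obtain ⟨g, rfl⟩ := exists_mk g
    rintro _ ⟨r, hr, rfl⟩
    exact ⟨g * r * g⁻¹, Rh_conj ((comm_iff ho g).1 hg) hr, rfl⟩
  sq := by
    rintro _ ⟨r, hr, rfl⟩
    show mk r * mk r = 1 ∨ mk r * mk r = mk (signCo0 o)
    rw [← mk_mul]
    rcases Rh_sq ho hr with h | h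
    · left; rw [h]; rfl
    · right; rw [h, mk_add_allOne]
  comm := by
    rintro _ ⟨r, hr, rfl⟩ _ ⟨s, hs, rfl⟩
    show mk r * mk s = mk s * mk r ∨ mk r * mk s = mk s * mk r * mk (signCo0 o)
    rw [← mk_mul, ← mk_mul]
    rcases Rh_mul ho hr hs with h | h
    · left; rw [h]
    · right
      rw [h, mk_mul, mk_add_allOne]
      exact ((comm_iff ho _).2 (Rh_le_C0 ho ((Rh o).mul_mem hs hr))).symm
  cent := by
    rintro _ ⟨r, hr, rfl⟩ h
    show mk r = 1 ∨ mk r = mk (signCo0 o)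
    have h1 : (⟨r, hr⟩ : Rh o) ∈ Subgroup.center (Rh o) := by
      rw [Subgroup.mem_center_iff]
      rintro ⟨s, hs⟩
      apply Subtype.ext
      show s * r = r * s
      have h2 : mk r * mk s = mk s * mk r := h (mk s) ⟨s, hs, rfl⟩
      rw [← mk_mul, ← mk_mul] at h2
      exact (eq_of_mk ho ((Rh o).mul_mem hr hs) ((Rh o).mul_mem hs hr) h2).symm
    rcases (center_iff ho _).1 h1 with h2 | h2
    · left
      have h3 : r = 1 := h2
      rw [h3]; rfl
    · right
      have h3 : r = signCo0 (o + allOne) := h2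
      rw [h3, mk_add_allOne]
  self := by
    intro g hg h
    obtain ⟨g, rfl⟩ := exists_mk g
    have hgC := (comm_iff ho g).1 hg
    have h1 : ∀ r ∈ Rh o, g * r = r * g := by
      intro r hr
      have h2 : mk (g * r * g⁻¹) = mk r := by
        rw [mk_mul, mk_mul, mk_inv, mul_inv_eq_iff_eq_mul]
        exact h (mk r) ⟨r, hr, rfl⟩
      have h3 := eq_of_mk ho (Rh_conj hgC hr) hr h2
      rwa [mul_inv_eq_iff_eq_mul] at h3
    rcases centralizer_Rh ho h1 with h2 | h2 | h2 | h2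
    · rw [h2]; exact ⟨1, Subgroup.one_mem _, rfl⟩
    · refine ⟨1, Subgroup.one_mem _, ?_⟩
      rw [map_one]
      exact ((mk_eq_one g).2 (Or.inr h2)).symm
    · exact ⟨_, omega_mem, by rw [h2]; exact mk_add_allOne o⟩
    · exact ⟨_, omega_mem, by rw [h2]; rfl⟩

/-- `RCo1 o / ⟨z⟩` is irreducible under the centraliser of `z`. -/
theorem irr (ho : wt o = 8) : Irr (RCo1 o) (mk (signCo0 o)) := by
  intro M hM hn
  have hW : M.comap pr ⊓ Rh o ≤ Rh o := inf_le_right
  by_cases hne : ∃ w ∈ M.comap pr ⊓ Rh o, w ≠ 1 ∧ w ≠ signCo0 (o + allOne)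
  · right
    have h1 := RIrr.irr ho (M.comap pr ⊓ Rh o) hW (by
      intro g hg w hw
      refine ⟨?_, Rh_conj hg hw.2⟩
      show mk (g * w * g⁻¹) ∈ M
      rw [mk_mul, mk_mul, mk_inv]
      exact hn (mk g) ((comm_iff ho g).2 hg) (mk w) hw.1) hne
    apply le_antisymm hM
    rintro _ ⟨r, hr, rfl⟩
    exact (h1 hr).1
  · left
    push Not at hne
    intro y hy
    obtain ⟨r, hr, rfl⟩ := hM hy
    show mk r = 1 ∨ mk r = mk (signCo0 o)
    by_cases h1 : r = 1
    · left; rw [h1]; rfl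
    · right
      rw [hne r ⟨hy, hr⟩ h1, mk_add_allOne]

theorem not_comm (ho : wt o = 8) : ∃ a ∈ RCo1 o, ∃ b ∈ RCo1 o, a * b ≠ b * a := by
  obtain ⟨r, hr, s, hs, h⟩ := exists_noncomm ho
  refine ⟨mk r, ⟨r, hr, rfl⟩, mk s, ⟨s, hs, rfl⟩, fun h1 => h ?_⟩
  rw [← mk_mul, ← mk_mul] at h1
  exact eq_of_mk ho ((Rh o).mul_mem hr hs) ((Rh o).mul_mem hs hr) h1

theorem exists_in (ho : wt o = 8) : ∃ x ∈ RCo1 o, x ≠ 1 ∧ x ≠ mk (signCo0 o) := by
  obtain ⟨a, ha, b, hb, h⟩ := not_comm ho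
  refine ⟨a, ha, ?_, ?_⟩
  · rintro rfl; exact h (by rw [one_mul, mul_one])
  · rintro rfl; exact h ((large ho).comm_z b hb).symm

/-- The isomorphism `Rh o ≃ RCo1 o`. -/
noncomputable def rEquiv (ho : wt o = 8) : Rh o ≃* RCo1 o :=
  MulEquiv.ofBijective (pr.subgroupMap (Rh o)) ⟨by
    intro a b h
    exact Subtype.ext (eq_of_mk ho a.2 b.2 (congrArg Subtype.val h)),
    pr.subgroupMap_surjective (Rh o)⟩

theorem isExtraspecial (ho : wt o = 8) : IsExtraspecial 2 (RCo1 o) := by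
  have : Finite Co0 := Cfsg.Agent.CoOneType.FrameFix.finite_co0
  exact Cfsg.Agent.J2.ExtQuot.isExtraspecial_of_equiv (rEquiv ho) (RIrr.isExtraspecial ho)

/-- The sign change on an octad meeting `o` is not in `RCo1 o`. -/
theorem sign_notMem_RCo1 {c : golayCode} (h1 : ∃ i, i ∈ sup c ∧ i ∈ sup o)
    (h2 : ∃ i, i ∉ sup c ∧ i ∈ sup o) : mk (signCo0 c) ∉ RCo1 o := by
  rintro ⟨r, hr, h⟩
  have h3 : mk r = mk (signCo0 c) := h
  obtain ⟨i, hic, hio⟩ := h1
  obtain ⟨j, hjc, hjo⟩ := h2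
  have hi := mem_Rh_iff.1 hr i hio
  have hj := mem_Rh_iff.1 hr j hjo
  rcases (mk_eq _ _).1 h3 with h4 | h4
  · rw [h4, sign_smul_e8_of_mem hic] at hi
    exact e8_ne_neg i i hi.symm
  · rw [h4, mul_smul, sign_smul_e8_of_mem (c := allOne) (i := j) (by rw [mem_sup]; rfl),
      Co0Mono.smul_neg, sign_smul_e8_of_notMem hjc] at hj
    exact e8_ne_neg j j hj.symm

/-- A conjugate of `z` in its centraliser, outside `RCo1 o`: the sign change on an octad meeting `o`
in four points. -/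
theorem exists_outside (ho : wt o = 8) : ∃ e : golayCode, wt e = 8 ∧ (sup e ∩ sup o).card = 4 ∧
    IsConj (mk (signCo0 o)) (mk (signCo0 e)) ∧
    mk (signCo0 e) * mk (signCo0 o) = mk (signCo0 o) * mk (signCo0 e) ∧
    mk (signCo0 e) ∉ RCo1 o := by
  obtain ⟨S, hSo, hS⟩ := exists_sub_four ho
  obtain ⟨p, hp⟩ := exists_notMem o (by omega)
  obtain ⟨e, he, heo, hpe⟩ := exists_meet ho hS hSo hp
  have h4 : (sup e ∩ sup o).card = 4 := by rw [heo, hS]
  refine ⟨e, he, h4, isConj_octad ho he, (comm_iff ho _).2 (sign_mem o e), ?_⟩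
  apply sign_notMem_RCo1
  · obtain ⟨i, hi⟩ : (sup e ∩ sup o).Nonempty := by
      rw [← Finset.card_pos]; omega
    rw [Finset.mem_inter] at hi
    exact ⟨i, hi⟩
  · by_contra hcon
    push Not at hcon
    have h5 : sup o ⊆ sup e ∩ sup o := fun x hx =>
      Finset.mem_inter.2 ⟨by_contra fun h => hcon x h hx, hx⟩
    have h6 := Finset.card_le_card h5
    have h7 : (sup o).card = 8 := ho
    omega

end Cfsg.Agent.KFacts.Co1.InCo1
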