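import Cfsg.Agent.KFacts.Co1.Perf
import Cfsg.Agent.Leech.Co0Elts

/-!
# The monomial part of `C0 o` is a maximal subgroup (helper899)

`shape`: the norm 64 vectors supported on the octad `o`; `le_of_nonmonomial`: a subgroup of `Co0`
containing the sign changes, the permutations preserving `o` and a nonmonomial element of `C0 o`
contains `C0 o`.
-/

set_option autoImplicit false
open Cfsg
open scoped Pointwise commutatorElement

namespace Cfsg.Agent.KFacts.Co1.Maxi

open Cfsg.Agent.SporadicA.Co0Mono Cfsg.Agent.SporadicA.Co1Simple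
open Cfsg.Agent.SporadicStructure.Co0Base (e8 e8_coe)
open Cfsg.Agent.SporadicStructure.LeechBase (zmod2_cases mem_support₂)
open Cfsg.Agent.CoOneType.SignFacts (sup mem_sup notMem_sup wt sup_mem wt_cases sup_add_allOne
  wt_add_allOne sign_allOne_comm)
open Cfsg.Agent.CoOneType.CentOctad (C0 mem_C0 sign_mem perm_mem xi_mem exists_sextet sum_single)
open Cfsg.Agent.KFacts.Co1.OctGen (mem_N_of_smul_e8 sign_inj even_of_zero sq_cases Cl le_of_cl)
open Cfsg.Agent.KFacts.Co1.OctPts Cfsg.Agent.KFacts.Co1.RHat Cfsg.Agent.KFacts.Co1.RIrr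
open Cfsg.Agent.KFacts.Co1.Perf
open Cfsg.Agent.SporadicA
open Cfsg.Agent.SporadicStructure

variable {o : golayCode}

/-- Vectors of shape `(±4)^4` on `S`. -/
def IsB (S : Finset GolayPt) (x : GolayPt → ℤ) : Prop :=
  (∀ k ∈ S, x k = 4 ∨ x k = -4) ∧ ∀ k, k ∉ S → x k = 0

/-- The lattice vectors of norm 64 supported on the octad `o`. -/
theorem shape (ho : wt o = 8) (v : leechLattice)
    (hn : sqNorm (v : GolayPt → ℤ) = 64) (h0 : ∀ i, i ∉ sup o → (v : GolayPt → ℤ) i = 0) :
    (∃ j, v = e8 j ∨ v = -e8 j) ∨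
    (∃ S : Finset GolayPt, S.card = 4 ∧ S ⊆ sup o ∧ IsB S (v : GolayPt → ℤ)) ∨
    ∃ i ∈ sup o, ((v : GolayPt → ℤ) i = 6 ∨ (v : GolayPt → ℤ) i = -6) ∧
      ∀ j ∈ sup o, j ≠ i → (v : GolayPt → ℤ) j = 2 ∨ (v : GolayPt → ℤ) j = -2 := by
  classical
  set x : GolayPt → ℤ := (v : GolayPt → ℤ) with hx
  have hoc : (sup o).card = 8 := ho
  obtain ⟨j₀, hj₀⟩ : ∃ j, j ∉ sup o := exists_notMem o (by omega)
  have hmem := v.2
  rw [LeechBase.mem_leechLattice_iff_mem_leechSet] at hmem
  obtain ⟨m, hm, hsum, hk⟩ := hmem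
  have heven := even_of_zero v.2 (h0 j₀ hj₀)
  choose y hy using heven
  replace hy : ∀ i, x i = 2 * y i := hy
  have hT := hk 2
  set T : Finset GolayPt := Finset.univ.filter fun i => (v : GolayPt → ℤ) i ≡ 2 [ZMOD 4] with hTdef
  have hTo : T ⊆ sup o := by
    intro i hi
    by_contra hio
    rw [hTdef, Finset.mem_filter] at hi
    have h1 := hi.2
    rw [← hx, h0 i hio] at h1
    unfold Int.ModEq at h1
    omega
  have hTcard := GolayBase.card_of_mem_supports hT
  have hTle := Finset.card_le_card hTo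
  have hnorm : ∑ i, x i ^ 2 = 64 := hn
  rcases (by omega : T.card = 0 ∨ T.card = 8) with hT0 | hT8
  · -- all coordinates are divisible by 4
    have h4 : ∀ i, ∃ w, x i = 4 * w := by
      intro i
      have h1 : i ∉ T := by
        rw [Finset.card_eq_zero.1 hT0]; exact Finset.notMem_empty i
      rw [hTdef, Finset.mem_filter, not_and] at h1
      have h2 := h1 (Finset.mem_univ i)
      rw [← hx] at h2
      have h3 := hy i
      unfold Int.ModEq at h2
      exact ⟨x i / 4, by omega⟩
    choose w hw using h4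
    have hsq : ∑ i, w i ^ 2 = 4 := by
      have h1 : ∑ i, x i ^ 2 = 16 * ∑ i, w i ^ 2 := by
        rw [Finset.mul_sum]
        exact Finset.sum_congr rfl fun i _ => by rw [hw i]; ring
      omega
    have hle : ∀ i, w i ^ 2 ≤ 4 := fun i => by
      rw [← hsq]
      exact Finset.single_le_sum (f := fun i => w i ^ 2) (fun j _ => sq_nonneg _)
        (Finset.mem_univ i)
    have hc := fun i => sq_cases (hle i)
    by_cases hbig : ∃ j, w j = 2 ∨ w j = -2
    · obtain ⟨j, hj⟩ := hbig
      have hother : ∀ k, k ≠ j → w k = 0 := by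
        intro k hkj
        have h1 := Finset.add_sum_erase Finset.univ (fun i => w i ^ 2) (Finset.mem_univ j)
        have h2 : w k ^ 2 ≤ ∑ i ∈ Finset.univ.erase j, w i ^ 2 :=
          Finset.single_le_sum (f := fun i => w i ^ 2) (fun j _ => sq_nonneg _)
            (Finset.mem_erase.2 ⟨hkj, Finset.mem_univ k⟩)
        have h3 : w j ^ 2 = 4 := by rcases hj with h | h <;> rw [h] <;> norm_num
        have h4 : w k ^ 2 ≤ 0 := by
          have h5 : w j ^ 2 + ∑ i ∈ Finset.univ.erase j, w i ^ 2 = 4 := by rw [h1, hsq]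
          omega
        have h6 : w k ^ 2 = 0 := le_antisymm h4 (sq_nonneg _)
        exact pow_eq_zero_iff two_ne_zero |>.1 h6
      left
      refine ⟨j, ?_⟩
      rcases hj with hj | hj
      · left
        apply Subtype.ext
        funext k
        rw [← hx, e8_coe, Pi.single_apply]
        by_cases hkj : k = j
        · rw [if_pos hkj, hkj, hw, hj]; norm_num
        · rw [if_neg hkj, hw, hother k hkj]; norm_num
      · right
        apply Subtype.ext
        funext k
        show x k = -((e8 j : leechLattice) : GolayPt → ℤ) k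
        rw [e8_coe, Pi.single_apply]
        by_cases hkj : k = j
        · rw [if_pos hkj, hkj, hw, hj]; norm_num
        · rw [if_neg hkj, hw, hother k hkj]; norm_num
    · push Not at hbig
      have hc' : ∀ i, w i = 0 ∨ w i = 1 ∨ w i = -1 := fun i => by
        rcases hc i with h | h | h | h | h
        · exact Or.inl h
        · exact Or.inr (Or.inl h)
        · exact Or.inr (Or.inr h)
        · exact absurd h (hbig i).1
        · exact absurd h (hbig i).2
      set S : Finset GolayPt := Finset.univ.filter fun i => w i ≠ 0 with hS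
      have hScard : S.card = 4 := by
        have h1 : ∑ i, w i ^ 2 = ∑ i, (if w i ≠ 0 then (1 : ℤ) else 0) := by
          refine Finset.sum_congr rfl fun i _ => ?_
          rcases hc' i with h | h | h <;> rw [h] <;> norm_num
        rw [hsq, Finset.sum_boole] at h1
        exact_mod_cast h1.symm
      have hSo : S ⊆ sup o := by
        intro i hi
        rw [hS, Finset.mem_filter] at hi
        by_contra h
        have h1 := h0 i h
        rw [hw i] at h1
        exact hi.2 (by omega)
      right; left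
      refine ⟨S, hScard, hSo, ?_, ?_⟩
      · intro k hk
        rw [hS, Finset.mem_filter] at hk
        rcases hc' k with h | h | h
        · exact absurd h hk.2
        · left; rw [hw k, h]; norm_num
        · right; rw [hw k, h]; norm_num
      · intro k hk
        rw [hS, Finset.mem_filter, not_and, not_not] at hk
        rw [hw k, hk (Finset.mem_univ k)]; norm_num
  · have hTeq : T = sup o := Finset.eq_of_subset_of_card_le hTo (by rw [hT8, hoc])
    have hodd : ∀ i ∈ sup o, ∃ f : ℤ, 0 ≤ f ∧ y i ^ 2 = 8 * f + 1 := by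
      intro i hi
      rw [← hTeq, hTdef, Finset.mem_filter] at hi
      have h1 := hi.2
      rw [← hx, hy i] at h1
      unfold Int.ModEq at h1
      obtain ⟨k, hk'⟩ : ∃ k, y i = 2 * k + 1 := ⟨y i / 2, by omega⟩
      have h2 : 2 ∣ k * (k + 1) := (Int.even_mul_succ_self k).two_dvd
      obtain ⟨f, hf⟩ := h2
      refine ⟨f, ?_, ?_⟩
      · rcases le_or_gt 0 k with hk0 | hk0
        · nlinarith
        · nlinarith
      · rw [hk']; linear_combination 4 * hf
    choose! f hf0 hf using hodd
    have hsf : ∑ i ∈ sup o, f i = 1 := by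
      have h1 : ∑ i, x i ^ 2 = ∑ i ∈ sup o, x i ^ 2 := by
        symm
        apply Finset.sum_subset (Finset.subset_univ _)
        intro i _ hi
        rw [h0 i hi]; norm_num
      have h2 : ∑ i ∈ sup o, x i ^ 2 = ∑ i ∈ sup o, (32 * f i + 4) := by
        refine Finset.sum_congr rfl fun i hi => ?_
        rw [hy i]
        have := hf i hi
        linear_combination 4 * this
      rw [h1, h2, Finset.sum_add_distrib, ← Finset.mul_sum, Finset.sum_const, hoc] at hnorm
      have h3 : (8 : ℕ) • (4 : ℤ) = 32 := by norm_num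
      rw [h3] at hnorm
      omega
    obtain ⟨i, hi, hfi, hfj⟩ : ∃ i ∈ sup o, f i = 1 ∧ ∀ j ∈ sup o, j ≠ i → f j = 0 := by
      have h1 : ∃ i ∈ sup o, f i ≠ 0 := by
        by_contra hne
        push Not at hne
        rw [Finset.sum_eq_zero hne] at hsf
        exact absurd hsf (by norm_num)
      obtain ⟨i, hi, hfi⟩ := h1
      have h2 := Finset.add_sum_erase (sup o) f hi
      have h3 : 0 ≤ ∑ j ∈ (sup o).erase i, f j :=
        Finset.sum_nonneg fun j hj => hf0 j (Finset.mem_of_mem_erase hj)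
      have h4 := hf0 i hi
      have h5 : ∑ j ∈ (sup o).erase i, f j = 0 := by omega
      refine ⟨i, hi, by omega, fun j hj hji => ?_⟩
      exact (Finset.sum_eq_zero_iff_of_nonneg fun j hj => hf0 j (Finset.mem_of_mem_erase hj)).1 h5
        j (Finset.mem_erase.2 ⟨hji, hj⟩)
    right; right
    refine ⟨i, hi, ?_, ?_⟩
    · have h1 := hf i hi
      rw [hfi] at h1
      have h2 : (y i - 3) * (y i + 3) = 0 := by linear_combination h1
      rcases mul_eq_zero.1 h2 with h | h
      · left; rw [hy i]; omega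
      · right; rw [hy i]; omega
    · intro j hj hji
      have h1 := hf j hj
      rw [hfj j hj hji] at h1
      have h2 : (y j - 1) * (y j + 1) = 0 := by linear_combination h1
      rcases mul_eq_zero.1 h2 with h | h
      · left; rw [hy j]; omega
      · right; rw [hy j]; omega

/-- A nonzero multiple image criterion for monomial elements. -/
theorem mem_N_of_map {g : Co0} {i j : GolayPt} (h : g • e8 i = e8 j ∨ g • e8 i = -e8 j) :
    g ∈ N := by
  obtain ⟨u, hu⟩ := e8_sub i j
  -- `e8 i = e8 j + 2 u`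
  have key : ∀ g : Co0, g • e8 i = e8 j → g ∈ N := by
    intro g hg
    apply mem_N_of_e8
    intro k
    obtain ⟨w, hw⟩ := e8_sub k i
    refine mem_crossSet_of_congr _ (g • w) j ?_ ?_
    · rw [sqNorm_smul]; exact sqNorm_e8 k
    · rw [hw, Co0Mono.smul_add, Co0Mono.smul_nsmul, hg]
  rcases h with h | h
  · exact key g h
  · have h1 := key (signCo0 allOne * g) (by
      rw [mul_smul, h, Co0Mono.smul_neg, sign_smul_e8_of_mem (c := allOne) (i := j) (by
        rw [mem_sup]; rfl), neg_neg])
    have h2 : g = signCo0 allOne * (signCo0 allOne * g) := by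
      rw [← mul_assoc, signCo0_mul_self, one_mul]
    rw [h2]
    exact N.mul_mem (sign_mem_N _) h1

/-- The image of `8 e_i`, `i ∈ o`, under an element of `C0 o` is supported on `o`. -/
theorem supp_of_mem {g : Co0} (hg : g ∈ C0 o) {i : GolayPt} (hi : i ∈ sup o) :
    ∀ k, k ∉ sup o → ((g • e8 i : leechLattice) : GolayPt → ℤ) k = 0 := by
  apply (sign_neg_iff _ _).1
  rw [← mul_smul, ← mem_C0.1 hg, mul_smul, sign_smul_e8_of_mem hi, Co0Mono.smul_neg]

/-- `So o` is transitive on the 4-subsets of `o`. -/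
theorem so_four (ho : wt o = 8) {S S' : Finset GolayPt} (hS : S.card = 4) (hSo : S ⊆ sup o)
    (hS' : S'.card = 4) (hSo' : S' ⊆ sup o) :
    ∃ σ ∈ So o, ∀ k, (σ : Equiv.Perm GolayPt) k ∈ S' ↔ k ∈ S := by
  classical
  obtain ⟨p, hp⟩ := exists_notMem o (by omega)
  obtain ⟨e, he, heo, -⟩ := exists_meet ho hS hSo hp
  obtain ⟨e', he', heo', -⟩ := exists_meet ho hS' hSo' hp
  obtain ⟨σ, hσ, h⟩ := word_trans ho he he' (by
    rw [Finset.inter_comm, heo, Finset.inter_comm, heo', hS, hS'])
  refine ⟨σ, hσ, fun k => ?_⟩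
  rw [← heo, ← heo', Finset.mem_inter, Finset.mem_inter, So_apply hσ, ← h, mem_sup_wordPerm]

/-- The vectors of shape `(±4)^4` on 4-subsets of `o` are conjugate under the monomial elements. -/
theorem isB_trans {H : Subgroup Co0} (hs : ∀ c : golayCode, signCo0 c ∈ H)
    (hp : ∀ σ ∈ So o, permCo0 σ ∈ H) (ho : wt o = 8) {S S' : Finset GolayPt} (hS : S.card = 4)
    (hSo : S ⊆ sup o) (hS' : S'.card = 4) (hSo' : S' ⊆ sup o) {v w : leechLattice}
    (hv : IsB S (v : GolayPt → ℤ)) (hw : IsB S' (w : GolayPt → ℤ)) :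
    ∃ n ∈ H ⊓ C0 o, n • v = w := by
  classical
  obtain ⟨σ, hσ, hσS⟩ := so_four ho hS hSo hS' hSo'
  set u : leechLattice := permCo0 σ • v with hu
  have hucoe : ∀ k, (u : GolayPt → ℤ) k = (v : GolayPt → ℤ) ((σ : Equiv.Perm GolayPt).symm k) :=
    fun k => rfl
  have huB : IsB S' (u : GolayPt → ℤ) := by
    constructor
    · intro k hk
      rw [hucoe]
      apply hv.1
      rw [← hσS, Equiv.apply_symm_apply]
      exact hk
    · intro k hk
      rw [hucoe]
      apply hv.2
      rw [← hσS, Equiv.apply_symm_apply]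
      exact hk
  obtain ⟨d, hd, hdS⟩ := GolayInterp.exists_word_interp S' (by omega)
    (fun k => if (u : GolayPt → ℤ) k = (w : GolayPt → ℤ) k then 0 else 1)
  refine ⟨signCo0 ⟨d, hd⟩ * permCo0 σ, (H ⊓ C0 o).mul_mem ⟨hs _, sign_mem o _⟩
    ⟨hp σ hσ, perm_mem hσ⟩, ?_⟩
  rw [mul_smul]
  apply Subtype.ext
  funext k
  rw [signCo0_smul, signMap_apply, ← hu]
  show sgn (d k) * (u : GolayPt → ℤ) k = (w : GolayPt → ℤ) k
  by_cases hk : k ∈ S'
  · rw [hdS k hk]
    split_ifs with h
    · rw [sgn_zero, one_mul, h]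
    · rw [sgn_one]
      rcases huB.1 k hk with h1 | h1 <;> rcases hw.1 k hk with h2 | h2
      · exact absurd (h1.trans h2.symm) h
      · rw [h1, h2]; norm_num
      · rw [h1, h2]; norm_num
      · exact absurd (h1.trans h2.symm) h
  · rw [huB.2 k hk, hw.2 k hk, mul_zero]

theorem xi_isB {T : GolayPt → Fin 6} (i : GolayPt) :
    IsB (Xi.fib T (T i)) (Xi.xiFun T (Pi.single i 8)) := by
  constructor
  · intro k hk
    rw [Xi.mem_fib] at hk
    have hs : ∑ l ∈ Xi.fib T (T k), (Pi.single i 8 : GolayPt → ℤ) l = 8 := by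
      rw [sum_single, if_pos (Xi.mem_fib.2 hk.symm)]
    rw [Xi.xiFun_apply, hs, Pi.single_apply]
    split_ifs <;> norm_num
  · intro k hk
    rw [Xi.mem_fib] at hk
    have hs : ∑ l ∈ Xi.fib T (T k), (Pi.single i 8 : GolayPt → ℤ) l = 0 := by
      rw [sum_single, if_neg (fun h => hk (Xi.mem_fib.1 h).symm)]
    have hki : k ≠ i := by rintro rfl; exact hk rfl
    rw [Xi.xiFun_apply, hs, Pi.single_apply, if_neg hki]
    norm_num

/-- A monomial element of `C0 o` lies in every subgroup containing the sign changes and the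
permutations preserving `o`. -/
theorem mem_of_N {H : Subgroup Co0} (hs : ∀ c : golayCode, signCo0 c ∈ H)
    (hp : ∀ σ ∈ So o, permCo0 σ ∈ H) {g : Co0} (hN : g ∈ N) (hC : g ∈ C0 o) : g ∈ H := by
  obtain ⟨c, σ, hσ, rfl⟩ := mem_inf_iff.1 (⟨hN, hC⟩ : g ∈ N ⊓ C0 o)
  exact H.mul_mem (hs c) (hp σ hσ)

/-- A subgroup containing the monomial part of `C0 o` and an element mapping some `8 e_i`, `i ∈ o`,
to a vector of shape `(±4)^4` contains `C0 o`. -/
theorem le_of_isB {H : Subgroup Co0} (hs : ∀ c : golayCode, signCo0 c ∈ H)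
    (hp : ∀ σ ∈ So o, permCo0 σ ∈ H) (ho : wt o = 8) {g : Co0} (hg : g ∈ H) (hgC : g ∈ C0 o)
    {i : GolayPt} (hi : i ∈ sup o) {S : Finset GolayPt} (hS : S.card = 4) (hSo : S ⊆ sup o)
    (hB : IsB S ((g • e8 i : leechLattice) : GolayPt → ℤ)) : C0 o ≤ H := by
  apply le_of_cl _ ho
  refine ⟨hs, fun σ hσ => hp σ hσ, ?_⟩
  intro T hT hTo
  have hξ := xi_mem (o := o) hT hTo
  have hS' : Xi.fib T (T i) ⊆ sup o := by
    intro k hk
    rw [Xi.mem_fib] at hk
    rw [mem_sup, hTo k i hk, ← mem_sup]
    exact hi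
  have hB' : IsB (Xi.fib T (T i)) ((Xi.xiCo0 T hT • e8 i : leechLattice) : GolayPt → ℤ) := by
    rw [Xi.xiCo0_smul, e8_coe]
    exact xi_isB i
  obtain ⟨n, hn, hne⟩ := isB_trans hs hp ho hS hSo (hT.card _) hS' hB hB'
  have h1 : (Xi.xiCo0 T hT)⁻¹ * (n * g) ∈ N := by
    apply mem_N_of_map (i := i) (j := i)
    left
    rw [mul_smul, mul_smul, hne, inv_smul_smul]
  have h2 : (Xi.xiCo0 T hT)⁻¹ * (n * g) ∈ C0 o :=
    (C0 o).mul_mem ((C0 o).inv_mem hξ) ((C0 o).mul_mem hn.2 hgC)
  have h3 := mem_of_N hs hp h1 h2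
  have h4 : Xi.xiCo0 T hT = (n * g) * ((Xi.xiCo0 T hT)⁻¹ * (n * g))⁻¹ := by group
  rw [h4]
  exact H.mul_mem (H.mul_mem hn.1 hg) (H.inv_mem h3)

/-- **Maximality**: a subgroup containing the monomial part of `C0 o` and a nonmonomial element of
`C0 o` contains `C0 o`. -/
theorem le_of_nonmonomial {H : Subgroup Co0} (hs : ∀ c : golayCode, signCo0 c ∈ H)
    (hp : ∀ σ ∈ So o, permCo0 σ ∈ H) (ho : wt o = 8) {g : Co0} (hg : g ∈ H) (hgC : g ∈ C0 o)
    (hgN : g ∉ N) : C0 o ≤ H := by
  classical
  obtain ⟨i, hi⟩ := nonempty_sup ho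
  have hnorm : ∀ g : Co0, sqNorm ((g • e8 i : leechLattice) : GolayPt → ℤ) = 64 := fun g => by
    rw [sqNorm_smul]; exact sqNorm_e8 i
  rcases shape ho (g • e8 i) (hnorm g) (supp_of_mem hgC hi) with ⟨j, h⟩ | ⟨S, hS, hSo, hB⟩ |
    ⟨j, hj, h6, h2⟩
  · exact absurd (mem_N_of_map h) hgN
  · exact le_of_isB hs hp ho hg hgC hi hS hSo hB
  · -- a sign change on four points other than `j`
    obtain ⟨S, hS, hS4⟩ := Finset.exists_subset_card_eq (s := (sup o).erase j) (n := 4) (by
      rw [Finset.card_erase_of_mem hj]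
      show 4 ≤ wt o - 1
      omega)
    have hSo : S ⊆ sup o := hS.trans (Finset.erase_subset _ _)
    have hjS : j ∉ S := fun h => (Finset.mem_erase.1 (hS h)).1 rfl
    obtain ⟨p, hp'⟩ := exists_notMem o (by omega)
    obtain ⟨e, he, heo, -⟩ := exists_meet ho hS4 hSo hp'
    have hmemC : g⁻¹ * signCo0 e * g ∈ C0 o :=
      (C0 o).mul_mem ((C0 o).mul_mem ((C0 o).inv_mem hgC) (sign_mem o e)) hgC
    have hmemH : g⁻¹ * signCo0 e * g ∈ H := H.mul_mem (H.mul_mem (H.inv_mem hg) (hs e)) hg
    set y : leechLattice := g • e8 i with hy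
    set w : leechLattice := (g⁻¹ * signCo0 e * g) • e8 i with hw
    have hwi : (w : GolayPt → ℤ) i = 4 := by
      have h1 : dotInt (w : GolayPt → ℤ) ((e8 i : leechLattice) : GolayPt → ℤ) =
          8 * (w : GolayPt → ℤ) i := by
        unfold dotInt
        rw [e8_coe, Finset.sum_eq_single i]
        · rw [Pi.single_eq_same]; ring
        · intro k _ hk; rw [Pi.single_eq_of_ne hk, mul_zero]
        · intro h; exact absurd (Finset.mem_univ _) h
      have h3 : dotInt (w : GolayPt → ℤ) ((e8 i : leechLattice) : GolayPt → ℤ) =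
          dotInt ((signCo0 e • y : leechLattice) : GolayPt → ℤ) (y : GolayPt → ℤ) := by
        rw [← Cfsg.Agent.Leech.Co0Elts.dotInt_smul g, hw, ← mul_smul, ← mul_assoc, ← mul_assoc,
          mul_inv_cancel, one_mul, mul_smul]
      have h4 : dotInt ((signCo0 e • y : leechLattice) : GolayPt → ℤ) (y : GolayPt → ℤ) =
          ∑ k ∈ sup o, sgn ((e : GolayPt → ZMod 2) k) * (y : GolayPt → ℤ) k ^ 2 := by
        unfold dotInt
        rw [signCo0_smul]
        symm
        rw [← Finset.sum_subset (Finset.subset_univ (sup o))]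
        · refine Finset.sum_congr rfl fun k _ => ?_
          rw [signMap_apply]; ring
        · intro k _ hk
          rw [signMap_apply, hy, supp_of_mem hgC hi k hk]; ring
      have h5 : ∑ k ∈ sup o, sgn ((e : GolayPt → ZMod 2) k) * (y : GolayPt → ℤ) k ^ 2 = 32 := by
        have hsplit : sup o = insert j ((sup o).erase j) := (Finset.insert_erase hj).symm
        rw [hsplit, Finset.sum_insert (Finset.notMem_erase j _),
          ← Finset.sum_sdiff hS]
        have hej : j ∉ sup e := fun h => hjS (by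
          rw [← heo]; exact Finset.mem_inter.2 ⟨h, hj⟩)
        have hy2 : ∀ k ∈ sup o, k ≠ j → (y : GolayPt → ℤ) k ^ 2 = 4 := by
          intro k hk hkj
          rcases h2 k hk hkj with h | h <;> rw [h] <;> norm_num
        have s1 : ∑ k ∈ ((sup o).erase j) \ S, sgn ((e : GolayPt → ZMod 2) k) *
            (y : GolayPt → ℤ) k ^ 2 = ∑ k ∈ ((sup o).erase j) \ S, (4 : ℤ) := by
          refine Finset.sum_congr rfl fun k hk => ?_
          rw [Finset.mem_sdiff, Finset.mem_erase] at hk
          have hke : k ∉ sup e := fun h => hk.2 (by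
            rw [← heo]; exact Finset.mem_inter.2 ⟨h, hk.1.2⟩)
          rw [(notMem_sup e k).1 hke, sgn_zero, one_mul, hy2 k hk.1.2 hk.1.1]
        have s2 : ∑ k ∈ S, sgn ((e : GolayPt → ZMod 2) k) *
            (y : GolayPt → ℤ) k ^ 2 = ∑ k ∈ S, (-4 : ℤ) := by
          refine Finset.sum_congr rfl fun k hk => ?_
          have hk' : k ∈ sup e ∩ sup o := by rw [heo]; exact hk
          rw [Finset.mem_inter] at hk'
          have hkj : k ≠ j := fun h => hjS (h ▸ hk)
          rw [(mem_sup e k).1 hk'.1, sgn_one, hy2 k hk'.2 hkj]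
          norm_num
        have hc1 : (((sup o).erase j) \ S).card = 3 := by
          rw [Finset.card_sdiff_of_subset hS, hS4, Finset.card_erase_of_mem hj]
          show wt o - 1 - 4 = 3
          omega
        rw [s1, s2, Finset.sum_const, Finset.sum_const, hc1, hS4, (notMem_sup e j).1 hej, sgn_zero]
        rcases h6 with h | h <;> rw [h] <;> norm_num
      rw [h3, h4, h5] at h1
      omega
    rcases shape ho w (hnorm _) (supp_of_mem hmemC hi) with ⟨k, h | h⟩ | ⟨S', hS', hSo', hB⟩ |
      ⟨k, hk, h6', h2'⟩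
    · exfalso
      rw [h, e8_coe, Pi.single_apply] at hwi
      split_ifs at hwi
      · exact absurd hwi (by norm_num)
      · exact absurd hwi (by norm_num)
    · exfalso
      rw [h] at hwi
      have h7 : -(((e8 k : leechLattice) : GolayPt → ℤ) i) = 4 := hwi
      rw [e8_coe, Pi.single_apply] at h7
      split_ifs at h7
      · exact absurd h7 (by norm_num)
    · exact le_of_isB hs hp ho hmemH hmemC hi hS' hSo' hB
    · exfalso
      by_cases hik : i = k
      · rw [← hik, hwi] at h6'
        rcases h6' with h | h <;> exact absurd h (by norm_num)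
      · have h8 := h2' i hi hik
        rw [hwi] at h8
        rcases h8 with h | h <;> exact absurd h (by norm_num)

end Cfsg.Agent.KFacts.Co1.Maxi
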