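import Cfsg.Agent.CoOneType.CentOctad

/-!
# The centraliser in `Co0` of the sign change on an octad: generators (helper899)

`Cl o H`: `H ≤ Co0` contains all sign changes, the permutations preserving the octad word `o` and
the maps `ξ_T` for the sextets `T` refining `o`. `le_of_cl`: then the centraliser of the sign change
on `o` is contained in `H`.
-/

set_option autoImplicit false
open Cfsg
open scoped Pointwise

namespace Cfsg.Agent.KFacts.Co1.OctGen

open Cfsg.Agent.SporadicA.Co0Mono Cfsg.Agent.SporadicA.Co1Simple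
open Cfsg.Agent.SporadicStructure.Co0Base (e8 e8_coe)
open Cfsg.Agent.SporadicStructure.LeechBase (zmod2_cases mem_support₂)
open Cfsg.Agent.CoOneType.SignFacts (sup mem_sup notMem_sup wt sup_mem)
open Cfsg.Agent.CoOneType.CentOctad (C0 mem_C0 vecB sum_single exists_four exists_sextet)
open Cfsg.Agent.SporadicA
open Cfsg.Agent.SporadicStructure

/-- `H` contains the standard elements commuting with the sign change on `o`. -/
structure Cl (o : golayCode) (H : Subgroup Co0) : Prop where
  sign : ∀ c : golayCode, signCo0 c ∈ H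
  perm : ∀ σ : M24, wordPerm σ o = o → permCo0 σ ∈ H
  xi : ∀ (T : GolayPt → Fin 6) (hT : Xi.IsSextet T),
    (∀ i j, T i = T j → (o : GolayPt → ZMod 2) i = (o : GolayPt → ZMod 2) j) →
    Xi.xiCo0 T hT ∈ H

/-! ### The orbit of `8 e_i` -/

/-- The vectors in the orbit of `8 e_{i₀}` under the centraliser. -/
def InO (H : Subgroup Co0) (i₀ : GolayPt) (u : GolayPt → ℤ) : Prop :=
  ∃ g ∈ H, ((g • e8 i₀ : leechLattice) : GolayPt → ℤ) = u

theorem InO.sign {o : golayCode} {H : Subgroup Co0} {i₀ : GolayPt} {u : GolayPt → ℤ}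
    (h : InO H i₀ u) (hH : Cl o H)
    (c : golayCode) : InO H i₀ (signMap c u) := by
  obtain ⟨g, hg, rfl⟩ := h
  refine ⟨signCo0 c * g, H.mul_mem (hH.sign c) hg, ?_⟩
  rw [mul_smul, signCo0_smul]

theorem InO.xi {o : golayCode} {H : Subgroup Co0} {i₀ : GolayPt} {u : GolayPt → ℤ}
    (h : InO H i₀ u) (hH : Cl o H)
    {T : GolayPt → Fin 6} (hT : Xi.IsSextet T)
    (hTo : ∀ i j, T i = T j → (o : GolayPt → ZMod 2) i = (o : GolayPt → ZMod 2) j) :
    InO H i₀ (Xi.xiFun T u) := by
  obtain ⟨g, hg, rfl⟩ := h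
  refine ⟨Xi.xiCo0 T hT * g, H.mul_mem (hH.xi T hT hTo) hg, ?_⟩
  rw [mul_smul, Xi.xiCo0_smul]

/-- Change the signs of an orbit vector on at most seven points as wanted. -/
theorem InO.signs {o : golayCode} {H : Subgroup Co0} {i₀ : GolayPt} {u : GolayPt → ℤ}
    (h : InO H i₀ u) (hH : Cl o H)
    (S : Finset GolayPt) (hS : S.card ≤ 7) (x : GolayPt → ℤ)
    (hx : ∀ i ∈ S, x i = u i ∨ x i = -u i) :
    ∃ u', InO H i₀ u' ∧ (∀ i ∈ S, u' i = x i) ∧ ∀ i, u' i = u i ∨ u' i = -u i := by
  classical
  obtain ⟨w, hw, hwt⟩ := Cfsg.Agent.SporadicStructure.GolayInterp.exists_word_interp S hS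
    (fun i => if x i = u i then 0 else 1)
  refine ⟨_, h.sign hH ⟨w, hw⟩, fun i hi => ?_, fun i => ?_⟩
  · rw [signMap_apply]
    show sgn (w i) * _ = _
    rw [hwt i hi]
    by_cases h : x i = u i
    · rw [if_pos h, sgn_zero, one_mul, h]
    · rw [if_neg h, sgn_one, (hx i hi).resolve_left h]
      ring
  · rw [signMap_apply]
    show sgn (w i) * _ = _ ∨ sgn (w i) * _ = _
    rcases zmod2_cases (w i) with h | h
    · left; rw [h, sgn_zero, one_mul]
    · right; rw [h, sgn_one]; ring

/-- From `8 e_j` to the vectors `(±4)^4` on a tetrad through `j`. -/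
theorem to_vecB {o : golayCode} {H : Subgroup Co0} (hH : Cl o H) (ho : wt o = 8) {i₀ : GolayPt} {S : Finset GolayPt}
    (hS : S.card = 4) (hSo : S ⊆ sup o) {j : GolayPt} (hj : j ∈ S)
    (h : InO H i₀ (Pi.single j 8)) (s : Finset GolayPt) : InO H i₀ (vecB S s) := by
  obtain ⟨T, hT, hT0, hTo, -⟩ := exists_sextet ho hS hSo
  have h1 := h.xi hH hT hTo
  have hform : ∀ i, Xi.xiFun T (Pi.single j 8) i = if i ∈ S then (if i = j then 4 else -4) else 0 := by
    intro i
    have hs : ∑ k ∈ Xi.fib T (T i), (Pi.single j 8 : GolayPt → ℤ) k =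
        if T j = T i then 8 else 0 := by
      rw [sum_single]
      by_cases h : T j = T i
      · rw [if_pos h, if_pos (Xi.mem_fib.2 h)]
      · rw [if_neg h, if_neg (fun h' => h (Xi.mem_fib.1 h'))]
    rw [Xi.xiFun_apply, hs, Pi.single_apply]
    have hTj : T j = 0 := by rw [← Xi.mem_fib, hT0]; exact hj
    by_cases hi : i ∈ S
    · have hTi : T i = 0 := by rw [← Xi.mem_fib, hT0]; exact hi
      rw [if_pos hTi, hTj, hTi, if_pos rfl, if_pos hi]
      by_cases hij : i = j
      · rw [if_pos hij, if_pos hij]; norm_num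
      · rw [if_neg hij, if_neg hij]; norm_num
    · have hTi : T i ≠ 0 := by
        intro h0
        apply hi
        rw [← hT0, Xi.mem_fib, h0]
      have hij : i ≠ j := by rintro rfl; exact hi hj
      rw [if_neg hTi, hTj, if_neg (Ne.symm hTi), if_neg hi, if_neg hij]
      norm_num
  obtain ⟨u', hu', h2, h3⟩ := h1.signs hH S (by rw [hS]; norm_num) (vecB S s) (fun i hi => by
    rw [hform, vecB, if_pos hi, if_pos hi]
    split_ifs <;> simp)
  convert hu' using 1
  funext i
  by_cases hi : i ∈ S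
  · exact (h2 i hi).symm
  · have h4 := h3 i
    rw [hform, if_neg hi] at h4
    rw [vecB, if_neg hi]
    rcases h4 with h4 | h4 <;> rw [h4]
    simp

/-- From `(±4)^4` on a tetrad through `j` to `8 e_j`. -/
theorem of_vecB {o : golayCode} {H : Subgroup Co0} (hH : Cl o H) (ho : wt o = 8) {i₀ : GolayPt} {S : Finset GolayPt}
    (hS : S.card = 4) (hSo : S ⊆ sup o) {j : GolayPt} (hj : j ∈ S)
    (h : InO H i₀ (vecB S (S.erase j))) : InO H i₀ (Pi.single j 8) := by
  obtain ⟨T, hT, hT0, hTo, -⟩ := exists_sextet ho hS hSo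
  have h1 := h.xi hH hT hTo
  convert h1 using 1
  funext i
  have hsum : ∑ k ∈ S, vecB S (S.erase j) k = -8 := by
    rw [← Finset.add_sum_erase _ _ hj]
    have e1 : vecB S (S.erase j) j = 4 := by
      rw [vecB, if_pos hj, if_neg (by simp)]
    have e2 : ∀ k ∈ S.erase j, vecB S (S.erase j) k = -4 := fun k hk => by
      rw [vecB, if_pos (Finset.mem_of_mem_erase hk), if_pos hk]
    rw [e1, Finset.sum_congr rfl e2, Finset.sum_const, Finset.card_erase_of_mem hj, hS]
    norm_num
  rw [Xi.xiFun_apply, Pi.single_apply]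
  by_cases hi : i ∈ S
  · have hTi : T i = 0 := by rw [← Xi.mem_fib, hT0]; exact hi
    rw [if_pos hTi, hTi, hT0, hsum, vecB, if_pos hi]
    by_cases hij : i = j
    · rw [if_pos hij, if_neg (by simp [hij])]; norm_num
    · rw [if_neg hij, if_pos (Finset.mem_erase.2 ⟨hij, hi⟩)]; norm_num
  · have hTi : T i ≠ 0 := by
      intro h0
      apply hi
      rw [← hT0, Xi.mem_fib, h0]
    have hij : i ≠ j := by rintro rfl; exact hi hj
    have e3 : ∑ k ∈ Xi.fib T (T i), vecB S (S.erase j) k = 0 := by
      apply Finset.sum_eq_zero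
      intro k hk
      rw [vecB, if_neg]
      intro hkS
      rw [← hT0, Xi.mem_fib] at hkS
      rw [Xi.mem_fib, hkS] at hk
      exact hTi hk.symm
    rw [if_neg hij, if_neg hTi, e3, vecB, if_neg hi]
    norm_num

theorem orb_single {o : golayCode} {H : Subgroup Co0} (hH : Cl o H) (ho : wt o = 8) {i₀ : GolayPt} (hi₀ : i₀ ∈ sup o)
    {j : GolayPt} (hj : j ∈ sup o) : InO H i₀ (Pi.single j 8) := by
  obtain ⟨S, hSo, hS, h1, h2⟩ := exists_four (O := sup o) ho hi₀ hj
  have h3 : InO H i₀ (Pi.single i₀ 8) := ⟨1, H.one_mem, by rw [one_smul, e8_coe]⟩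
  exact of_vecB hH ho hS hSo h2 (to_vecB hH ho hS hSo h1 h3 _)

theorem orb_single_neg {o : golayCode} {H : Subgroup Co0} (hH : Cl o H) (ho : wt o = 8) {i₀ : GolayPt} (hi₀ : i₀ ∈ sup o)
    {j : GolayPt} (hj : j ∈ sup o) : InO H i₀ (Pi.single j (-8)) := by
  have h := (orb_single hH ho hi₀ hj).sign hH allOne
  convert h using 1
  funext i
  rw [signMap_apply]
  show _ = sgn 1 * _
  rw [sgn_one, Pi.single_apply, Pi.single_apply]
  split_ifs <;> norm_num

theorem orb_vecB {o : golayCode} {H : Subgroup Co0} (hH : Cl o H) (ho : wt o = 8) {i₀ : GolayPt} (hi₀ : i₀ ∈ sup o)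
    {S : Finset GolayPt} (hS : S.card = 4) (hSo : S ⊆ sup o) (s : Finset GolayPt) :
    InO H i₀ (vecB S s) := by
  obtain ⟨j, hj⟩ : S.Nonempty := by rw [← Finset.card_pos, hS]; norm_num
  exact to_vecB hH ho hS hSo hj (orb_single hH ho hi₀ (hSo hj)) s

theorem orb_six {o : golayCode} {H : Subgroup Co0} (hH : Cl o H) (ho : wt o = 8) {i₀ : GolayPt} (hi₀ : i₀ ∈ sup o)
    {i : GolayPt} (hi : i ∈ sup o) (s : Finset GolayPt) :
    ∃ u, InO H i₀ u ∧ (∀ j ∈ (sup o).erase i, u j = if j ∈ s then -2 else 2) ∧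
      (u i = 6 ∨ u i = -6) ∧ ∀ j, j ∉ sup o → u j = 0 := by
  obtain ⟨S', hSo', hS', hi', -⟩ := exists_four (O := sup o) ho hi hi
  obtain ⟨d, hd⟩ : (sup o \ S').Nonempty := by
    rw [← Finset.card_pos, Finset.card_sdiff_of_subset hSo', hS']
    have : (sup o).card = 8 := ho
    omega
  rw [Finset.mem_sdiff] at hd
  have hdi : d ∉ S'.erase i := fun h => hd.2 (Finset.mem_of_mem_erase h)
  set S := insert d (S'.erase i) with hS
  have hcard : S.card = 4 := by
    rw [hS, Finset.card_insert_of_notMem hdi, Finset.card_erase_of_mem hi', hS']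
  have hSo : S ⊆ sup o := by
    intro x hx
    rw [hS, Finset.mem_insert] at hx
    rcases hx with rfl | hx
    · exact hd.1
    · exact hSo' (Finset.mem_of_mem_erase hx)
  have hiS : i ∉ S := by
    rw [hS, Finset.mem_insert, not_or]
    exact ⟨fun h => hd.2 (h ▸ hi'), by simp⟩
  have h0 := orb_vecB hH ho hi₀ hcard hSo ∅
  obtain ⟨T, hT, hT0, hTo, k, hk0, hTk⟩ := exists_sextet ho hS' hSo'
  have h1 := h0.xi hH hT hTo
  have hB : ∀ j, vecB S ∅ j = if j ∈ S then 4 else 0 := fun j => by
    rw [vecB]; simp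
  have hsum0 : ∑ j ∈ S', vecB S ∅ j = 12 := by
    rw [← Finset.add_sum_erase _ _ hi', hB, if_neg hiS]
    have e2 : ∀ j ∈ S'.erase i, vecB S ∅ j = 4 := fun j hj => by
      rw [hB, if_pos (by rw [hS]; exact Finset.mem_insert_of_mem hj)]
    rw [Finset.sum_congr rfl e2, Finset.sum_const, Finset.card_erase_of_mem hi', hS']
    norm_num
  have hsumk : ∑ j ∈ sup o \ S', vecB S ∅ j = 4 := by
    rw [Finset.sum_eq_single d]
    · rw [hB, if_pos (by rw [hS]; exact Finset.mem_insert_self _ _)]
    · intro j hj hjd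
      rw [hB, if_neg]
      rw [hS, Finset.mem_insert, not_or]
      exact ⟨hjd, fun h => (Finset.mem_sdiff.1 hj).2 (Finset.mem_of_mem_erase h)⟩
    · intro h; exact absurd (Finset.mem_sdiff.2 hd) h
  have hui : Xi.xiFun T (vecB S ∅) i = -6 := by
    have hTi : T i = 0 := by rw [← Xi.mem_fib, hT0]; exact hi'
    rw [Xi.xiFun_apply, if_pos hTi, hTi, hT0, hsum0, hB, if_neg hiS]
    norm_num
  have huj : ∀ j ∈ (sup o).erase i, Xi.xiFun T (vecB S ∅) j = 2 ∨
      Xi.xiFun T (vecB S ∅) j = -2 := by
    intro j hj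
    rw [Finset.mem_erase] at hj
    by_cases hjS : j ∈ S'
    · right
      have hTj : T j = 0 := by rw [← Xi.mem_fib, hT0]; exact hjS
      rw [Xi.xiFun_apply, if_pos hTj, hTj, hT0, hsum0, hB, if_pos]
      · norm_num
      · rw [hS]; exact Finset.mem_insert_of_mem (Finset.mem_erase.2 ⟨hj.1, hjS⟩)
    · have hTj : T j = k := by
        rw [← Xi.mem_fib, hTk]; exact Finset.mem_sdiff.2 ⟨hj.2, hjS⟩
      rw [Xi.xiFun_apply, hTj, if_neg hk0, hTk, hsumk, hB]
      by_cases h : j ∈ S
      · rw [if_pos h]; right; norm_num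
      · rw [if_neg h]; left; norm_num
  have huo : ∀ j, j ∉ sup o → Xi.xiFun T (vecB S ∅) j = 0 := by
    intro j hj
    have e1 : ∑ x ∈ Xi.fib T (T j), vecB S ∅ x = 0 := by
      apply Finset.sum_eq_zero
      intro x hx
      rw [hB, if_neg]
      intro hxS
      apply hj
      rw [Xi.mem_fib] at hx
      have h2 := hTo x j hx
      rw [mem_sup, ← h2, ← mem_sup]
      exact hSo hxS
    rw [Xi.xiFun_apply, e1, hB, if_neg (fun h => hj (hSo h))]
    split_ifs <;> norm_num
  obtain ⟨u', hu', h2, h3⟩ := h1.signs hH ((sup o).erase i) (by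
      rw [Finset.card_erase_of_mem hi]
      have : (sup o).card = 8 := ho
      omega) (fun j => if j ∈ s then -2 else 2) (fun j hj => by
    show (if j ∈ s then (-2 : ℤ) else 2) = _ ∨ (if j ∈ s then (-2 : ℤ) else 2) = _
    rcases huj j hj with h | h <;> rw [h] <;> split_ifs <;> simp)
  refine ⟨u', hu', h2, ?_, fun j hj => ?_⟩
  · rcases h3 i with h | h <;> rw [h, hui]
    · right; rfl
    · left; norm_num
  · rcases h3 j with h | h <;> rw [h, huo j hj]
    norm_num


/-! ### Lattice vectors of norm 64 supported on an octad -/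

theorem not_single12 (i : GolayPt) {a : ℤ} (ha : a = 12 ∨ a = -12) :
    (Pi.single i a : GolayPt → ℤ) ∉ leechLattice := by
  rw [LeechBase.mem_leechLattice_iff_mem_leechSet]
  rintro ⟨m, hm, hsum, -⟩
  obtain ⟨j, hj⟩ : ∃ j, j ≠ i := exists_ne i
  have h1 := hm j
  rw [Pi.single_eq_of_ne hj] at h1
  have h2 := sum_single Finset.univ i a
  rw [if_pos (Finset.mem_univ i)] at h2
  rw [h2] at hsum
  unfold Int.ModEq at h1 hsum
  rcases ha with rfl | rfl <;> omega

theorem even_of_zero {x : GolayPt → ℤ} (hx : x ∈ leechLattice) {j : GolayPt} (hj : x j = 0) :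
    ∀ i, ∃ y, x i = 2 * y := by
  intro i
  rcases MinShapes.parity_cases hx with h | h
  · have h1 := h i
    unfold Int.ModEq at h1
    exact ⟨x i / 2, by omega⟩
  · have h1 := h j
    unfold Int.ModEq at h1
    rw [hj] at h1
    omega

theorem sq_cases {w : ℤ} (h : w ^ 2 ≤ 4) : w = 0 ∨ w = 1 ∨ w = -1 ∨ w = 2 ∨ w = -2 := by
  have h1 : w ≤ 2 := by nlinarith
  have h2 : -2 ≤ w := by nlinarith
  omega

/-- The lattice vectors of norm 64 supported on the octad `o` are in the orbit. -/
theorem inO_of_norm {o : golayCode} {H : Subgroup Co0} (hH : Cl o H) (ho : wt o = 8)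
    {i₀ : GolayPt} (hi₀ : i₀ ∈ sup o) (v : leechLattice)
    (hn : sqNorm (v : GolayPt → ℤ) = 64) (h0 : ∀ i, i ∉ sup o → (v : GolayPt → ℤ) i = 0) :
    InO H i₀ (v : GolayPt → ℤ) := by
  classical
  set x : GolayPt → ℤ := (v : GolayPt → ℤ) with hx
  have hoc : (sup o).card = 8 := ho
  obtain ⟨j₀, hj₀⟩ : ∃ j, j ∉ sup o := by
    by_contra hne
    push Not at hne
    have : sup o = Finset.univ := Finset.eq_univ_iff_forall.2 hne
    rw [this, MinShapes.card_pt] at hoc
    omega
  have hmem := v.2
  rw [LeechBase.mem_leechLattice_iff_mem_leechSet] at hmem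
  obtain ⟨m, hm, hsum, hk⟩ := hmem
  have heven := even_of_zero v.2 (h0 j₀ hj₀)
  choose y hy using heven
  replace hy : ∀ i, x i = 2 * y i := hy
  have hT := hk 2
  set T : Finset GolayPt := Finset.univ.filter fun i => (v : GolayPt → ℤ) i ≡ 2 [ZMOD 4] with hTdef
  have hTo : T ⊆ sup o := by
    intro i hi
    by_contra hio
    rw [hTdef, Finset.mem_filter] at hi
    have h1 := hi.2
    rw [← hx, h0 i hio] at h1
    unfold Int.ModEq at h1
    omega
  have hTcard := GolayBase.card_of_mem_supports hT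
  have hTle := Finset.card_le_card hTo
  have hnorm : ∑ i, x i ^ 2 = 64 := hn
  rcases (by omega : T.card = 0 ∨ T.card = 8) with hT0 | hT8
  · -- all coordinates are divisible by 4
    have h4 : ∀ i, ∃ w, x i = 4 * w := by
      intro i
      have h1 : i ∉ T := by
        rw [Finset.card_eq_zero.1 hT0]; exact Finset.notMem_empty i
      rw [hTdef, Finset.mem_filter, not_and] at h1
      have h2 := h1 (Finset.mem_univ i)
      rw [← hx] at h2
      have h3 := hy i
      unfold Int.ModEq at h2
      exact ⟨x i / 4, by omega⟩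
    choose w hw using h4
    have hsq : ∑ i, w i ^ 2 = 4 := by
      have h1 : ∑ i, x i ^ 2 = 16 * ∑ i, w i ^ 2 := by
        rw [Finset.mul_sum]
        exact Finset.sum_congr rfl fun i _ => by rw [hw i]; ring
      omega
    have hle : ∀ i, w i ^ 2 ≤ 4 := fun i => by
      rw [← hsq]
      exact Finset.single_le_sum (f := fun i => w i ^ 2) (fun j _ => sq_nonneg _)
        (Finset.mem_univ i)
    have hc := fun i => sq_cases (hle i)
    by_cases hbig : ∃ j, w j = 2 ∨ w j = -2
    · obtain ⟨j, hj⟩ := hbig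
      have hjo : j ∈ sup o := by
        by_contra h
        have h1 := h0 j h
        rw [hw j] at h1
        omega
      have hother : ∀ k, k ≠ j → w k = 0 := by
        intro k hkj
        have h1 := Finset.add_sum_erase Finset.univ (fun i => w i ^ 2) (Finset.mem_univ j)
        have h2 : w k ^ 2 ≤ ∑ i ∈ Finset.univ.erase j, w i ^ 2 :=
          Finset.single_le_sum (f := fun i => w i ^ 2) (fun j _ => sq_nonneg _)
            (Finset.mem_erase.2 ⟨hkj, Finset.mem_univ k⟩)
        have h3 : w j ^ 2 = 4 := by rcases hj with h | h <;> rw [h] <;> norm_num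
        have h4 : w k ^ 2 ≤ 0 := by
          have h5 : w j ^ 2 + ∑ i ∈ Finset.univ.erase j, w i ^ 2 = 4 := by rw [h1, hsq]
          omega
        have h6 : w k ^ 2 = 0 := le_antisymm h4 (sq_nonneg _)
        exact pow_eq_zero_iff two_ne_zero |>.1 h6
      rcases hj with hj | hj
      · convert orb_single hH ho hi₀ hjo using 1
        funext k
        rw [Pi.single_apply]
        by_cases hkj : k = j
        · rw [if_pos hkj, hkj, hw, hj]; norm_num
        · rw [if_neg hkj, hw, hother k hkj]; norm_num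
      · convert orb_single_neg hH ho hi₀ hjo using 1
        funext k
        rw [Pi.single_apply]
        by_cases hkj : k = j
        · rw [if_pos hkj, hkj, hw, hj]; norm_num
        · rw [if_neg hkj, hw, hother k hkj]; norm_num
    · push Not at hbig
      have hc' : ∀ i, w i = 0 ∨ w i = 1 ∨ w i = -1 := fun i => by
        rcases hc i with h | h | h | h | h
        · exact Or.inl h
        · exact Or.inr (Or.inl h)
        · exact Or.inr (Or.inr h)
        · exact absurd h (hbig i).1
        · exact absurd h (hbig i).2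
      set S : Finset GolayPt := Finset.univ.filter fun i => w i ≠ 0 with hS
      have hScard : S.card = 4 := by
        have h1 : ∑ i, w i ^ 2 = ∑ i, (if w i ≠ 0 then (1 : ℤ) else 0) := by
          refine Finset.sum_congr rfl fun i _ => ?_
          rcases hc' i with h | h | h <;> rw [h] <;> norm_num
        rw [hsq, Finset.sum_boole] at h1
        exact_mod_cast h1.symm
      have hSo : S ⊆ sup o := by
        intro i hi
        rw [hS, Finset.mem_filter] at hi
        by_contra h
        have h1 := h0 i h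
        rw [hw i] at h1
        exact hi.2 (by omega)
      convert orb_vecB hH ho hi₀ hScard hSo (Finset.univ.filter fun i => w i = -1) using 1
      funext i
      rw [hw i, vecB]
      have hiS : i ∈ S ↔ w i ≠ 0 := by rw [hS, Finset.mem_filter]; simp
      have his : i ∈ (Finset.univ.filter fun i => w i = -1) ↔ w i = -1 := by
        rw [Finset.mem_filter]; simp
      simp only [hiS, his]
      rcases hc' i with h | h | h <;> rw [h] <;> norm_num
  · have hTeq : T = sup o := Finset.eq_of_subset_of_card_le hTo (by rw [hT8, hoc])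
    have hodd : ∀ i ∈ sup o, ∃ f : ℤ, 0 ≤ f ∧ y i ^ 2 = 8 * f + 1 := by
      intro i hi
      rw [← hTeq, hTdef, Finset.mem_filter] at hi
      have h1 := hi.2
      rw [← hx, hy i] at h1
      unfold Int.ModEq at h1
      obtain ⟨k, hk'⟩ : ∃ k, y i = 2 * k + 1 := ⟨y i / 2, by omega⟩
      have h2 : 2 ∣ k * (k + 1) := (Int.even_mul_succ_self k).two_dvd
      obtain ⟨f, hf⟩ := h2
      refine ⟨f, ?_, ?_⟩
      · rcases le_or_gt 0 k with hk0 | hk0
        · nlinarith
        · nlinarith
      · rw [hk']; linear_combination 4 * hf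
    choose! f hf0 hf using hodd
    have hsf : ∑ i ∈ sup o, f i = 1 := by
      have h1 : ∑ i, x i ^ 2 = ∑ i ∈ sup o, x i ^ 2 := by
        symm
        apply Finset.sum_subset (Finset.subset_univ _)
        intro i _ hi
        rw [h0 i hi]; norm_num
      have h2 : ∑ i ∈ sup o, x i ^ 2 = ∑ i ∈ sup o, (32 * f i + 4) := by
        refine Finset.sum_congr rfl fun i hi => ?_
        rw [hy i]
        have := hf i hi
        linear_combination 4 * this
      rw [h1, h2, Finset.sum_add_distrib, ← Finset.mul_sum, Finset.sum_const, hoc] at hnorm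
      have h3 : (8 : ℕ) • (4 : ℤ) = 32 := by norm_num
      rw [h3] at hnorm
      omega
    obtain ⟨i, hi, hfi, hfj⟩ : ∃ i ∈ sup o, f i = 1 ∧ ∀ j ∈ sup o, j ≠ i → f j = 0 := by
      have h1 : ∃ i ∈ sup o, f i ≠ 0 := by
        by_contra hne
        push Not at hne
        rw [Finset.sum_eq_zero hne] at hsf
        exact absurd hsf (by norm_num)
      obtain ⟨i, hi, hfi⟩ := h1
      have h2 := Finset.add_sum_erase (sup o) f hi
      have h3 : 0 ≤ ∑ j ∈ (sup o).erase i, f j :=
        Finset.sum_nonneg fun j hj => hf0 j (Finset.mem_of_mem_erase hj)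
      have h4 := hf0 i hi
      have h5 : ∑ j ∈ (sup o).erase i, f j = 0 := by omega
      refine ⟨i, hi, by omega, fun j hj hji => ?_⟩
      exact (Finset.sum_eq_zero_iff_of_nonneg fun j hj => hf0 j (Finset.mem_of_mem_erase hj)).1 h5
        j (Finset.mem_erase.2 ⟨hji, hj⟩)
    have hxi : x i = 6 ∨ x i = -6 := by
      have h1 := hf i hi
      rw [hfi] at h1
      have h2 : (y i - 3) * (y i + 3) = 0 := by linear_combination h1
      rcases mul_eq_zero.1 h2 with h | h
      · left; rw [hy i]; omega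
      · right; rw [hy i]; omega
    have hxj : ∀ j ∈ sup o, j ≠ i → x j = 2 ∨ x j = -2 := by
      intro j hj hji
      have h1 := hf j hj
      rw [hfj j hj hji] at h1
      have h2 : (y j - 1) * (y j + 1) = 0 := by linear_combination h1
      rcases mul_eq_zero.1 h2 with h | h
      · left; rw [hy j]; omega
      · right; rw [hy j]; omega
    obtain ⟨u, hu, hu1, hu2, hu3⟩ := orb_six hH ho hi₀ hi (Finset.univ.filter fun j => x j = -2)
    have hux : ∀ j, j ≠ i → u j = x j := by
      intro j hji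
      by_cases hj : j ∈ sup o
      · rw [hu1 j (Finset.mem_erase.2 ⟨hji, hj⟩)]
        have : j ∈ (Finset.univ.filter fun j => x j = -2) ↔ x j = -2 := by
          rw [Finset.mem_filter]; simp
        simp only [this]
        rcases hxj j hj hji with h | h <;> rw [h] <;> norm_num
      · rw [hu3 j hj, h0 j hj]
    have hui : u i = x i := by
      by_contra hne
      obtain ⟨g, -, hg⟩ := id hu
      have h1 : (((g • e8 i₀ : leechLattice) - v : leechLattice) : GolayPt → ℤ) =
          Pi.single i (u i - x i) := by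
        funext j
        show ((g • e8 i₀ : leechLattice) : GolayPt → ℤ) j - (v : GolayPt → ℤ) j = _
        rw [hg, ← hx, Pi.single_apply]
        by_cases hji : j = i
        · rw [if_pos hji, hji]
        · rw [if_neg hji, hux j hji]; ring
      have h2 : (Pi.single i (u i - x i) : GolayPt → ℤ) ∈ leechLattice := by
        rw [← h1]; exact Subtype.property _
      refine not_single12 i ?_ h2
      rcases hu2 with h | h <;> rcases hxi with h' | h'
      · exact absurd (h.trans h'.symm) hne
      · rw [h, h']; norm_num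
      · rw [h, h']; norm_num
      · exact absurd (h.trans h'.symm) hne
    have : x = u := by
      funext j
      by_cases hji : j = i
      · rw [hji]; exact hui.symm
      · exact (hux j hji).symm
    rw [this]
    exact hu

/-- An element of `Co0` fixing `8 e_i` is monomial. -/
theorem mem_N_of_smul_e8 {g : Co0} {i : GolayPt} (h : g • e8 i = e8 i) : g ∈ N := by
  apply mem_N_of_e8
  intro j
  obtain ⟨u, hu⟩ := e8_sub j i
  refine mem_crossSet_of_congr _ (g • u) i ?_ ?_
  · rw [Co0Mono.sqNorm_smul]; exact sqNorm_e8 j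
  · rw [hu, Co0Mono.smul_add, Co0Mono.smul_nsmul, h]

theorem sign_inj {c d : golayCode} (h : signCo0 c = signCo0 d) : c = d := by
  have h1 : signCo0 c * permCo0 1 = signCo0 d * permCo0 1 := by rw [h]
  exact (CoOneType.InvMain.sp_inj h1).1

/-- The centraliser of the sign change on an octad is generated by the standard elements. -/
theorem le_of_cl {o : golayCode} {H : Subgroup Co0} (hH : Cl o H) (ho : wt o = 8) : C0 o ≤ H := by
  intro g hg
  rw [mem_C0] at hg
  obtain ⟨i₀, hi₀⟩ : (sup o).Nonempty := by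
    rw [← Finset.card_pos]
    have : (sup o).card = 8 := ho
    omega
  have hsupp : ∀ i, i ∉ sup o → ((g • e8 i₀ : leechLattice) : GolayPt → ℤ) i = 0 := by
    intro i hi
    have h1 : signCo0 o • e8 i₀ = -e8 i₀ := by
      apply Subtype.ext
      funext k
      show ((signCo0 o • e8 i₀ : leechLattice) : GolayPt → ℤ) k =
        -((e8 i₀ : leechLattice) : GolayPt → ℤ) k
      rw [signCo0_smul, signMap_apply, e8_coe, Pi.single_apply]
      by_cases hk : k = i₀
      · rw [if_pos hk, hk, (mem_sup o i₀).1 hi₀, sgn_one]; norm_num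
      · rw [if_neg hk]; norm_num
    have h2 : signCo0 o • (g • e8 i₀) = -(g • e8 i₀) := by
      rw [← mul_smul, ← hg, mul_smul, h1, Co0Mono.smul_neg]
    have h3 := congrArg (fun v : leechLattice => (v : GolayPt → ℤ) i) h2
    have h4 : ((signCo0 o • (g • e8 i₀) : leechLattice) : GolayPt → ℤ) i =
        -((g • e8 i₀ : leechLattice) : GolayPt → ℤ) i := h3
    rw [signCo0_smul, signMap_apply, (notMem_sup o i).1 hi, sgn_zero, one_mul] at h4
    omega
  have hH' : Cl o (H ⊓ C0 o) :=
    ⟨fun c => ⟨hH.sign c, CoOneType.CentOctad.sign_mem o c⟩, fun σ hσ => ⟨hH.perm σ hσ, CoOneType.CentOctad.perm_mem hσ⟩,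
      fun T hT hTo => ⟨hH.xi T hT hTo, CoOneType.CentOctad.xi_mem hT hTo⟩⟩
  obtain ⟨h, hh, he⟩ := inO_of_norm hH' ho hi₀ (g • e8 i₀)
    (by rw [Co0Mono.sqNorm_smul]; exact sqNorm_e8 i₀) hsupp
  have hfix : (h⁻¹ * g) • e8 i₀ = e8 i₀ := by
    rw [mul_smul, ← Subtype.ext he, inv_smul_smul]
  obtain ⟨c, σ, hcσ⟩ := exists_sign_perm (mem_N_of_smul_e8 hfix)
  have key : (h⁻¹ * g) ∈ H → g ∈ H := fun h1 => by
    have := H.mul_mem hh.1 h1
    rwa [mul_inv_cancel_left] at this
  apply key
  have hC : h⁻¹ * g ∈ C0 o := (C0 o).mul_mem ((C0 o).inv_mem hh.2) (mem_C0.2 hg)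
  rw [hcσ] at hC ⊢
  refine H.mul_mem (hH.sign c) (hH.perm σ ?_)
  have hP : permCo0 σ ∈ C0 o := by
    have := (C0 o).mul_mem ((C0 o).inv_mem (CoOneType.CentOctad.sign_mem o c)) hC
    rwa [inv_mul_cancel_left] at this
  rw [mem_C0, perm_mul_sign] at hP
  exact sign_inj (mul_right_cancel hP)

end Cfsg.Agent.KFacts.Co1.OctGen
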