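import Cfsg.Agent.KFacts.Co1.OctGen
import Cfsg.Agent.SporadicStructure.OctadStabFinal
import Cfsg.Agent.SporadicA.OctadFix
import Cfsg.Agent.S1556
import Cfsg.Agent.S0363

/-!
# Code words and permutations relative to a fixed octad word (helper899)

`Fo o`: the permutations of `M24` fixing the octad pointwise; `So o`: those preserving it.
Transitivity of `So o` on ordered pairs of points off the octad (`two_trans`), the octads meeting
`o` in four points, and `fo_word`: an element of `Fo o` maps an octad word disjoint from `o` to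
itself or to its complement off `o`.
-/

set_option autoImplicit false
open Cfsg
open scoped Pointwise

namespace Cfsg.Agent.KFacts.Co1.OctPts

open Cfsg.Agent.SporadicA.Co0Mono Cfsg.Agent.SporadicA.Co1Simple
open Cfsg.Agent.SporadicStructure.LeechBase (zmod2_cases mem_support₂)
open Cfsg.Agent.CoOneType.SignFacts (sup mem_sup notMem_sup wt sup_mem wt_cases sup_add_allOne
  wt_add_allOne)
open Cfsg.Agent.CoOneType.ClosingFacts (eq_zero_of_wt)
open Cfsg.Agent.CoOneType.InvMain (word_ext support_wordPerm)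
open Cfsg.Agent.SporadicA
open Cfsg.Agent.SporadicStructure

/-! ### Supports -/

theorem sup_ext {c d : golayCode} (h : sup c = sup d) : c = d := word_ext h

theorem sup_add (c d : golayCode) : sup (c + d) = symmDiff (sup c) (sup d) := by
  ext i
  rw [Finset.mem_symmDiff, mem_sup, mem_sup, mem_sup]
  show (c : GolayPt → ZMod 2) i + (d : GolayPt → ZMod 2) i = 1 ↔ _
  generalize (c : GolayPt → ZMod 2) i = a
  generalize (d : GolayPt → ZMod 2) i = b
  revert a b
  decide

theorem wt_add (c d : golayCode) : wt (c + d) + 2 * (sup c ∩ sup d).card = wt c + wt d := by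
  unfold wt
  rw [sup_add, symmDiff_def, Finset.sup_eq_union, Finset.card_union_of_disjoint
    (disjoint_sdiff_sdiff)]
  have h1 := Finset.card_sdiff_add_card_inter (sup c) (sup d)
  have h2 := Finset.card_sdiff_add_card_inter (sup d) (sup c)
  rw [Finset.inter_comm (sup d)] at h2
  omega

theorem add_self (c : golayCode) : c + c = 0 := by
  apply Subtype.ext
  funext i
  show (c : GolayPt → ZMod 2) i + (c : GolayPt → ZMod 2) i = 0
  generalize (c : GolayPt → ZMod 2) i = a
  revert a
  decide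

theorem eq_of_add {c d : golayCode} (h : c + d = 0) : c = d := by
  have h1 : c + d + d = d := by rw [h, zero_add]
  rw [add_assoc, add_self, add_zero] at h1
  exact h1

theorem inter_cases {c d : golayCode} (hc : wt c = 8) (hd : wt d = 8) :
    (sup c ∩ sup d).card = 0 ∨ (sup c ∩ sup d).card = 2 ∨ (sup c ∩ sup d).card = 4 ∨ c = d := by
  have h := wt_add c d
  rcases wt_cases (c + d) with h1 | h1 | h1 | h1 | h1
  · exact Or.inr (Or.inr (Or.inr (eq_of_add (eq_zero_of_wt h1))))
  · omega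
  · omega
  · omega
  · omega

theorem eq_of_five {c d : golayCode} (hc : wt c = 8) (hd : wt d = 8)
    (h : 5 ≤ (sup c ∩ sup d).card) : c = d := by
  rcases inter_cases hc hd with h1 | h1 | h1 | h1
  · omega
  · omega
  · omega
  · exact h1

/-! ### Permutations -/

theorem mem_sup_wordPerm (σ : M24) (c : golayCode) (i : GolayPt) :
    (σ : Equiv.Perm GolayPt) i ∈ sup (wordPerm σ c) ↔ i ∈ sup c := by
  rw [mem_sup, mem_sup, wordPerm_apply, Equiv.symm_apply_apply]

theorem mem_sup_wordPerm' (σ : M24) (c : golayCode) (i : GolayPt) :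
    i ∈ sup (wordPerm σ c) ↔ (σ : Equiv.Perm GolayPt).symm i ∈ sup c := by
  rw [mem_sup, mem_sup, wordPerm_apply]

theorem sup_wordPerm (σ : M24) (c : golayCode) :
    sup (wordPerm σ c) = (σ : Equiv.Perm GolayPt) • sup c := support_wordPerm σ c

theorem wt_wordPerm (σ : M24) (c : golayCode) : wt (wordPerm σ c) = wt c := by
  unfold wt
  rw [sup_wordPerm, Finset.card_smul_finset]

theorem wordPerm_add (σ : M24) (c d : golayCode) :
    wordPerm σ (c + d) = wordPerm σ c + wordPerm σ d := rfl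

theorem wordPerm_mul (σ τ : M24) (c : golayCode) :
    wordPerm (σ * τ) c = wordPerm σ (wordPerm τ c) := rfl

theorem wordPerm_one (c : golayCode) : wordPerm 1 c = c := rfl

theorem wordPerm_zero (σ : M24) : wordPerm σ 0 = 0 := rfl

theorem wordPerm_inv_eq {σ : M24} {c d : golayCode} (h : wordPerm σ c = d) :
    wordPerm σ⁻¹ d = c := by
  rw [← h, ← wordPerm_mul, inv_mul_cancel, wordPerm_one]

theorem wordPerm_inj {σ : M24} {c d : golayCode} (h : wordPerm σ c = wordPerm σ d) : c = d := by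
  rw [← wordPerm_one c, ← inv_mul_cancel σ, wordPerm_mul, h, ← wordPerm_mul, inv_mul_cancel,
    wordPerm_one]

theorem wordPerm_eq_iff (σ : M24) (c d : golayCode) :
    wordPerm σ c = d ↔ ∀ i, (σ : Equiv.Perm GolayPt) i ∈ sup d ↔ i ∈ sup c := by
  constructor
  · rintro rfl i
    exact mem_sup_wordPerm σ c i
  · intro h
    apply sup_ext
    ext i
    rw [mem_sup_wordPerm', ← h, Equiv.apply_symm_apply]

theorem coe_mul_apply (σ τ : M24) (i : GolayPt) :
    ((σ * τ : M24) : Equiv.Perm GolayPt) i =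
      (σ : Equiv.Perm GolayPt) ((τ : Equiv.Perm GolayPt) i) := rfl

theorem inv_apply_eq {σ : M24} {i j : GolayPt} (h : (σ : Equiv.Perm GolayPt) i = j) :
    ((σ⁻¹ : M24) : Equiv.Perm GolayPt) j = i := by
  rw [← h, ← coe_mul_apply, inv_mul_cancel]
  rfl

variable {o : golayCode}

/-- The permutations preserving the word `o`. -/
def So (o : golayCode) : Subgroup M24 where
  carrier := {σ | wordPerm σ o = o}
  one_mem' := rfl
  mul_mem' := fun {a b} ha hb => by
    show wordPerm (a * b) o = o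
    rw [wordPerm_mul, show wordPerm b o = o from hb]
    exact ha
  inv_mem' := fun {a} ha => wordPerm_inv_eq ha

theorem mem_So {σ : M24} : σ ∈ So o ↔ wordPerm σ o = o := Iff.rfl

theorem So_apply {σ : M24} (h : σ ∈ So o) (i : GolayPt) :
    (σ : Equiv.Perm GolayPt) i ∈ sup o ↔ i ∈ sup o := by
  have h1 := mem_sup_wordPerm σ o i
  rwa [mem_So.1 h] at h1

/-- The permutations fixing the support of `o` pointwise. -/
def Fo (o : golayCode) : Subgroup M24 where
  carrier := {σ | ∀ i ∈ sup o, (σ : Equiv.Perm GolayPt) i = i}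
  one_mem' := fun _ _ => rfl
  mul_mem' := fun {a b} ha hb i hi => by
    show ((a * b : M24) : Equiv.Perm GolayPt) i = i
    rw [coe_mul_apply, hb i hi, ha i hi]
  inv_mem' := fun {a} ha i hi => inv_apply_eq (ha i hi)

theorem mem_Fo {σ : M24} : σ ∈ Fo o ↔ ∀ i ∈ sup o, (σ : Equiv.Perm GolayPt) i = i := Iff.rfl

theorem Fo_le_So : Fo o ≤ So o := by
  intro σ hσ
  rw [mem_So, wordPerm_eq_iff]
  have h1 : ∀ i, i ∈ sup o → (σ : Equiv.Perm GolayPt) i ∈ sup o := fun i hi => by
    rw [mem_Fo.1 hσ i hi]; exact hi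
  intro i
  refine ⟨fun h => ?_, h1 i⟩
  have h2 := mem_Fo.1 ((Fo o).inv_mem hσ) _ h
  rw [← coe_mul_apply, inv_mul_cancel] at h2
  have h3 : i = (σ : Equiv.Perm GolayPt) i := h2
  rw [h3]; exact h

theorem Fo_notMem {σ : M24} (hσ : σ ∈ Fo o) {i : GolayPt} (hi : i ∉ sup o) :
    (σ : Equiv.Perm GolayPt) i ∉ sup o := by
  rwa [So_apply (Fo_le_So hσ)]

/-- `Fo o` is normal in `So o`. -/
theorem Fo_conj {σ τ : M24} (hσ : σ ∈ So o) (hτ : τ ∈ Fo o) : σ * τ * σ⁻¹ ∈ Fo o := by
  intro i hi
  have h1 : ((σ⁻¹ : M24) : Equiv.Perm GolayPt) i ∈ sup o := (So_apply ((So o).inv_mem hσ) i).2 hi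
  rw [coe_mul_apply, coe_mul_apply, mem_Fo.1 hτ _ h1, ← coe_mul_apply, mul_inv_cancel]
  rfl

theorem isOctad (ho : wt o = 8) : sup o ∈ octads := ⟨sup_mem o, ho⟩

/-- `Fo o` is transitive on the points off `o`. -/
theorem fo_trans (ho : wt o = 8) {p q : GolayPt} (hp : p ∉ sup o) (hq : q ∉ sup o) :
    ∃ σ ∈ Fo o, (σ : Equiv.Perm GolayPt) p = q := by
  obtain ⟨g, hg, h1, h2⟩ := M24Frame.exists_fix_octad_map (isOctad ho) hp hq
  exact ⟨⟨g, hg⟩, h1, h2⟩

/-- `Fo o` acts semiregularly off `o`. -/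
theorem fo_eq_one (ho : wt o = 8) {σ : M24} (hσ : σ ∈ Fo o) {p : GolayPt} (hp : p ∉ sup o)
    (h : (σ : Equiv.Perm GolayPt) p = p) : σ = 1 := by
  have H := OctadStabFinal.hyp (isOctad ho) hp
  obtain ⟨s, hs, h6⟩ := Finset.exists_subset_card_eq (s := sup o) (n := 6)
    (by show 6 ≤ wt o; omega)
  exact Subtype.ext (H.hR σ σ.2 (fun x => So_apply (Fo_le_So hσ) x) h s hs h6
    (fun z hz => mem_Fo.1 hσ z (hs hz)))

theorem fo_eq (ho : wt o = 8) {σ τ : M24} (hσ : σ ∈ Fo o) (hτ : τ ∈ Fo o) {p : GolayPt}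
    (hp : p ∉ sup o) (h : (σ : Equiv.Perm GolayPt) p = (τ : Equiv.Perm GolayPt) p) : σ = τ := by
  have h1 : τ⁻¹ * σ = 1 := fo_eq_one ho ((Fo o).mul_mem ((Fo o).inv_mem hτ) hσ) hp (by
    rw [coe_mul_apply, h, ← coe_mul_apply, inv_mul_cancel]
    rfl)
  rw [inv_mul_eq_one] at h1
  exact h1.symm

/-- The elements of `Fo o` are involutions. -/
theorem fo_sq (ho : wt o = 8) {σ : M24} (hσ : σ ∈ Fo o) : σ * σ = 1 := by
  have h := OctadFix.fixOct_sq (isOctad ho) (g := (σ : Equiv.Perm GolayPt))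
    (OctadFix.mem_fixOct.2 ⟨σ.2, mem_Fo.1 hσ⟩)
  exact Subtype.ext h

theorem fo_comm (ho : wt o = 8) {σ τ : M24} (hσ : σ ∈ Fo o) (hτ : τ ∈ Fo o) :
    σ * τ = τ * σ := by
  have h1 := fo_sq ho ((Fo o).mul_mem hσ hτ)
  have h2 := fo_sq ho hσ
  have h3 := fo_sq ho hτ
  calc σ * τ = σ * (σ * τ * (σ * τ)) * τ := by rw [h1, mul_one]
    _ = (σ * σ) * τ * σ * (τ * τ) := by group
    _ = τ * σ := by rw [h2, h3, one_mul, mul_one]

theorem card_fo (ho : wt o = 8) : Nat.card (Fo o) = 16 := by
  rw [← OctadFix.card_fixOct (isOctad ho)]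
  refine Nat.card_congr (Equiv.ofBijective
    (fun σ : Fo o => (⟨((σ : M24) : Equiv.Perm GolayPt),
      OctadFix.mem_fixOct.2 ⟨(σ : M24).2, mem_Fo.1 σ.2⟩⟩ : OctadFix.fixOct (sup o))) ⟨?_, ?_⟩)
  · intro a b hab
    have h1 := congrArg (fun x : OctadFix.fixOct (sup o) => (x : Equiv.Perm GolayPt)) hab
    exact Subtype.ext (Subtype.ext h1)
  · rintro ⟨g, hg⟩
    obtain ⟨h1, h2⟩ := OctadFix.mem_fixOct.1 hg
    exact ⟨⟨⟨g, h1⟩, h2⟩, rfl⟩

/-! ### Octads meeting `o` -/

/-- An octad meeting `o` in a given 4-set and containing a given point off `o`. -/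
theorem exists_meet (ho : wt o = 8) {S : Finset GolayPt} (hS : S.card = 4) (hSo : S ⊆ sup o)
    {p : GolayPt} (hp : p ∉ sup o) : ∃ e : golayCode, wt e = 8 ∧ sup e ∩ sup o = S ∧ p ∈ sup e := by
  have hpS : p ∉ S := fun h => hp (hSo h)
  obtain ⟨b, ⟨hb, hsb⟩, -⟩ := Cfsg.Agent.S0363.result.2 (insert p S) (by
    rw [Finset.card_insert_of_notMem hpS, hS])
  obtain ⟨⟨w, hw, hwb⟩, hb8⟩ := hb
  let e : golayCode := ⟨w, hw⟩
  have he : sup e = b := hwb
  have h8 : wt e = 8 := by unfold wt; rw [he]; exact hb8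
  have hSe : S ⊆ sup e ∩ sup o := by
    rw [he]
    exact Finset.subset_inter ((Finset.subset_insert p S).trans hsb) hSo
  have hpe : p ∈ sup e := by rw [he]; exact hsb (Finset.mem_insert_self p S)
  refine ⟨e, h8, ?_, hpe⟩
  have h4 := Finset.card_le_card hSe
  have hle : (sup e ∩ sup o).card ≤ 4 := by
    rcases inter_cases h8 ho with h | h | h | h
    · omega
    · omega
    · omega
    · exact absurd (h ▸ hpe) hp
  exact (Finset.eq_of_subset_of_card_le hSe (by omega)).symm

/-- Two octads meeting `o` in the same 4-set and sharing a point off `o` are equal. -/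
theorem eq_of_meet {S : Finset GolayPt} (hS : S.card = 4) {e e' : golayCode} (he : wt e = 8)
    (he' : wt e' = 8) (h1 : sup e ∩ sup o = S) (h2 : sup e' ∩ sup o = S) {p : GolayPt}
    (hp : p ∉ sup o) (h3 : p ∈ sup e) (h4 : p ∈ sup e') : e = e' := by
  apply eq_of_five he he'
  have hSo : S ⊆ sup o := h1 ▸ Finset.inter_subset_right
  have hpS : p ∉ S := fun h => hp (hSo h)
  have h5 : insert p S ⊆ sup e ∩ sup e' := by
    intro x hx
    rw [Finset.mem_insert] at hx
    rcases hx with rfl | hx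
    · exact Finset.mem_inter.2 ⟨h3, h4⟩
    · refine Finset.mem_inter.2 ⟨?_, ?_⟩
      · rw [← h1] at hx; exact (Finset.mem_inter.1 hx).1
      · rw [← h2] at hx; exact (Finset.mem_inter.1 hx).1
  have h6 := Finset.card_le_card h5
  rw [Finset.card_insert_of_notMem hpS, hS] at h6
  exact h6

theorem exists_sub_four (ho : wt o = 8) : ∃ S ⊆ sup o, S.card = 4 :=
  Finset.exists_subset_card_eq (by show 4 ≤ wt o; omega)

/-- `So o` is transitive on the ordered pairs of distinct points off `o`. -/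
theorem two_trans (ho : wt o = 8) {p q p' q' : GolayPt} (hp : p ∉ sup o) (hq : q ∉ sup o)
    (hp' : p' ∉ sup o) (hq' : q' ∉ sup o) (hpq : p ≠ q) (hpq' : p' ≠ q') :
    ∃ σ ∈ So o, (σ : Equiv.Perm GolayPt) p = p' ∧ (σ : Equiv.Perm GolayPt) q = q' := by
  classical
  -- a 4-subset of `o` whose octad through `p` contains `q`
  have key : ∀ p q : GolayPt, p ∉ sup o → q ∉ sup o → p ≠ q → ∃ e : golayCode, wt e = 8 ∧
      (sup e ∩ sup o).card = 4 ∧ p ∈ sup e ∧ q ∈ sup e := by
    intro p q hp hq hpq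
    obtain ⟨s, hs, h3⟩ := Finset.exists_subset_card_eq (s := sup o) (n := 3)
      (by show 3 ≤ wt o; omega)
    have hps : p ∉ s := fun h => hp (hs h)
    have hqs : q ∉ s := fun h => hq (hs h)
    obtain ⟨b, ⟨hb, hsb⟩, -⟩ := Cfsg.Agent.S0363.result.2 (insert p (insert q s)) (by
      rw [Finset.card_insert_of_notMem (by
        rw [Finset.mem_insert, not_or]; exact ⟨hpq, hps⟩), Finset.card_insert_of_notMem hqs, h3])
    obtain ⟨⟨w, hw, hwb⟩, hb8⟩ := hb
    let e : golayCode := ⟨w, hw⟩
    have he : sup e = b := hwb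
    have h8 : wt e = 8 := by unfold wt; rw [he]; exact hb8
    have hpe : p ∈ sup e := by rw [he]; exact hsb (Finset.mem_insert_self _ _)
    have hqe : q ∈ sup e := by
      rw [he]; exact hsb (Finset.mem_insert_of_mem (Finset.mem_insert_self _ _))
    have hse : s ⊆ sup e ∩ sup o := by
      rw [he]
      refine Finset.subset_inter ?_ hs
      exact (Finset.subset_insert q s).trans ((Finset.subset_insert p _).trans hsb)
    refine ⟨e, h8, ?_, hpe, hqe⟩
    have h4 := Finset.card_le_card hse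
    rcases inter_cases h8 ho with h | h | h | h
    · omega
    · omega
    · exact h
    · exact absurd (h ▸ hpe) hp
  obtain ⟨e, he, he4, hpe, hqe⟩ := key p q hp hq hpq
  obtain ⟨e', he', he4', hpe', hqe'⟩ := key p' q' hp' hq' hpq'
  -- enumerations
  let f : Fin 4 ≃ ↥(sup e ∩ sup o) := (Fintype.equivFinOfCardEq (by
    rw [Fintype.card_coe, he4])).symm
  let f' : Fin 4 ≃ ↥(sup e' ∩ sup o) := (Fintype.equivFinOfCardEq (by
    rw [Fintype.card_coe, he4'])).symm
  let a : Fin 6 → GolayPt := Fin.append (fun i => (f i : GolayPt)) ![p, q]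
  let a' : Fin 6 → GolayPt := Fin.append (fun i => (f' i : GolayPt)) ![p', q']
  have hinj : ∀ (e : golayCode) (f : Fin 4 ≃ ↥(sup e ∩ sup o)) (p q : GolayPt), p ∉ sup o →
      q ∉ sup o → p ≠ q → Function.Injective
        (Fin.append (fun i => (f i : GolayPt)) ![p, q] : Fin 6 → GolayPt) := by
    intro e f p q hp hq hpq
    have hfo : ∀ i, (f i : GolayPt) ∈ sup o := fun i => (Finset.mem_inter.1 (f i).2).2
    have hpq' : ∀ k : Fin 2, (![p, q] k) ∉ sup o := by
      intro k; fin_cases k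
      · exact hp
      · exact hq
    rw [Fin.append_injective_iff]
    refine ⟨fun i j h => f.injective (Subtype.ext h), ?_, ?_⟩
    · intro i j h
      fin_cases i <;> fin_cases j
      · rfl
      · exact absurd h hpq
      · exact absurd h.symm hpq
      · rfl
    · intro i j h
      exact hpq' j (h ▸ hfo i)
  have hmem : ∀ (e : golayCode) (f : Fin 4 ≃ ↥(sup e ∩ sup o)) (p q : GolayPt), p ∈ sup e →
      q ∈ sup e → ∀ i : Fin 6, (Fin.append (fun i => (f i : GolayPt)) ![p, q] : Fin 6 → GolayPt) i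
        ∈ sup e := by
    intro e f p q hp hq i
    refine Fin.addCases (m := 4) (n := 2) (fun i => ?_) (fun i => ?_) i
    · rw [Fin.append_left]
      exact (Finset.mem_inter.1 (f i).2).1
    · rw [Fin.append_right]
      fin_cases i
      · exact hp
      · exact hq
  -- points of `o` off `e`
  have hex : ∀ e : golayCode, (sup e ∩ sup o).card = 4 → ∃ r ∈ sup o, r ∉ sup e := by
    intro e h4
    by_contra hcon
    push Not at hcon
    have h5 : sup o ⊆ sup e ∩ sup o := fun x hx => Finset.mem_inter.2 ⟨hcon x hx, hx⟩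
    have h6 := Finset.card_le_card h5
    rw [h4] at h6
    have h7 : (sup o).card = 8 := ho
    omega
  obtain ⟨r, hr, hre⟩ := hex e he4
  obtain ⟨r', hr', hre'⟩ := hex e' he4'
  obtain ⟨g, ⟨hg, hga, hgr⟩, -⟩ := M24Frame.exists_unique_frame_map (isOctad he) (isOctad he')
    (hinj e f p q hp hq hpq) (hinj e' f' p' q' hp' hq' hpq') (hmem e f p q hpe hqe)
    (hmem e' f' p' q' hpe' hqe') hre hre'
  let σ : M24 := ⟨g, hg⟩
  have hgf : ∀ i, g (f i) = f' i := by
    intro i
    have h := hga (Fin.castAdd 2 i)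
    rwa [Fin.append_left, Fin.append_left] at h
  have hgp : g p = p' := by
    have h := hga (Fin.natAdd 4 (0 : Fin 2))
    rwa [Fin.append_right, Fin.append_right] at h
  have hgq : g q = q' := by
    have h := hga (Fin.natAdd 4 (1 : Fin 2))
    rwa [Fin.append_right, Fin.append_right] at h
  refine ⟨σ, ?_, hgp, hgq⟩
  rw [mem_So]
  apply eq_of_five (by rw [wt_wordPerm]; exact ho) ho
  have h5 : insert r' (sup e' ∩ sup o) ⊆ sup (wordPerm σ o) ∩ sup o := by
    intro x hx
    rw [Finset.mem_insert] at hx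
    rcases hx with rfl | hx
    · refine Finset.mem_inter.2 ⟨?_, hr'⟩
      rw [← hgr]
      exact (mem_sup_wordPerm σ o r).2 hr
    · refine Finset.mem_inter.2 ⟨?_, (Finset.mem_inter.1 hx).2⟩
      obtain ⟨i, hi⟩ := f'.surjective ⟨x, hx⟩
      have h6 : x = g (f i) := by rw [hgf, hi]
      rw [h6]
      exact (mem_sup_wordPerm σ o _).2 (Finset.mem_inter.1 (f i).2).2
  have h6 := Finset.card_le_card h5
  rw [Finset.card_insert_of_notMem (fun h => hre' (Finset.mem_inter.1 h).1), he4'] at h6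
  exact h6

/-! ### The words disjoint from `o` -/

/-- A nontrivial element of `Fo o` moves an octad meeting `o` in four points. -/
theorem exists_moved (ho : wt o = 8) {σ : M24} (hσ : σ ∈ Fo o) (h1 : σ ≠ 1) :
    ∃ e : golayCode, wt e = 8 ∧ (sup e ∩ sup o).card = 4 ∧ wordPerm σ e ≠ e := by
  classical
  obtain ⟨p, hp⟩ : ∃ p, p ∉ sup o := by
    by_contra hcon
    push Not at hcon
    have h2 : sup o = Finset.univ := Finset.eq_univ_iff_forall.2 hcon
    have h3 : (sup o).card = 8 := ho
    rw [h2, MinShapes.card_pt] at h3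
    omega
  have hq : (σ : Equiv.Perm GolayPt) p ≠ p := fun h => h1 (fo_eq_one ho hσ hp h)
  have hqo : (σ : Equiv.Perm GolayPt) p ∉ sup o := Fo_notMem hσ hp
  obtain ⟨s, hs, h3⟩ := Finset.exists_subset_card_eq (s := sup o) (n := 3)
    (by show 3 ≤ wt o; omega)
  have hd : (sup o \ s).card = 5 := by
    rw [Finset.card_sdiff_of_subset hs, h3]
    show wt o - 3 = 5
    omega
  obtain ⟨x, hx, y, hy, hxy⟩ := Finset.one_lt_card.1 (show 1 < (sup o \ s).card by omega)
  rw [Finset.mem_sdiff] at hx hy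
  have hS : ∀ x ∈ sup o, x ∉ s → (insert x s).card = 4 ∧ insert x s ⊆ sup o := fun x hx hxs =>
    ⟨by rw [Finset.card_insert_of_notMem hxs, h3], Finset.insert_subset hx hs⟩
  obtain ⟨hSx, hSxo⟩ := hS x hx.1 hx.2
  obtain ⟨hSy, hSyo⟩ := hS y hy.1 hy.2
  obtain ⟨e, he, heo, hpe⟩ := exists_meet ho hSx hSxo hp
  obtain ⟨e', he', heo', hpe'⟩ := exists_meet ho hSy hSyo hp
  by_cases hm : wordPerm σ e = e
  · by_cases hm' : wordPerm σ e' = e'
    · exfalso
      have hqe : (σ : Equiv.Perm GolayPt) p ∈ sup e := by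
        rw [← hm]; exact (mem_sup_wordPerm σ e p).2 hpe
      have hqe' : (σ : Equiv.Perm GolayPt) p ∈ sup e' := by
        rw [← hm']; exact (mem_sup_wordPerm σ e' p).2 hpe'
      have hse : s ⊆ sup e := fun z hz => by
        have : z ∈ sup e ∩ sup o := by rw [heo]; exact Finset.mem_insert_of_mem hz
        exact (Finset.mem_inter.1 this).1
      have hse' : s ⊆ sup e' := fun z hz => by
        have : z ∈ sup e' ∩ sup o := by rw [heo']; exact Finset.mem_insert_of_mem hz
        exact (Finset.mem_inter.1 this).1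
      have h5 : insert p (insert ((σ : Equiv.Perm GolayPt) p) s) ⊆ sup e ∩ sup e' := by
        refine Finset.subset_inter ?_ ?_
        · exact Finset.insert_subset hpe (Finset.insert_subset hqe hse)
        · exact Finset.insert_subset hpe' (Finset.insert_subset hqe' hse')
      have h6 := Finset.card_le_card h5
      rw [Finset.card_insert_of_notMem (by
        rw [Finset.mem_insert, not_or]; exact ⟨fun h => hq h.symm, fun h => hp (hs h)⟩),
        Finset.card_insert_of_notMem (fun h => hqo (hs h)), h3] at h6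
      have h7 : e = e' := eq_of_five he he' h6
      have h8 : insert x s = insert y s := by rw [← heo, ← heo', h7]
      have h9 : x ∈ insert y s := by rw [← h8]; exact Finset.mem_insert_self _ _
      rw [Finset.mem_insert] at h9
      rcases h9 with h9 | h9
      · exact hxy h9
      · exact hx.2 h9
    · exact ⟨e', he', by rw [heo', hSy], hm'⟩
  · exact ⟨e, he, by rw [heo, hSx], hm⟩

/-- `e + σ e` is an octad disjoint from `o` when `σ ∈ Fo o` moves the octad `e` meeting `o` in
four points. -/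
theorem moved_sum {σ : M24} (hσ : σ ∈ Fo o) {e : golayCode} (he : wt e = 8)
    (h4 : (sup e ∩ sup o).card = 4) (hm : wordPerm σ e ≠ e) :
    wt (e + wordPerm σ e) = 8 ∧ Disjoint (sup (e + wordPerm σ e)) (sup o) := by
  have hiff : ∀ i ∈ sup o, (i ∈ sup (wordPerm σ e) ↔ i ∈ sup e) := by
    intro i hi
    have h := mem_sup_wordPerm σ e i
    rwa [mem_Fo.1 hσ i hi] at h
  have hdis : Disjoint (sup (e + wordPerm σ e)) (sup o) := by
    rw [Finset.disjoint_left]
    intro i hi hio
    rw [sup_add, Finset.mem_symmDiff] at hi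
    rcases hi with ⟨h1, h2⟩ | ⟨h1, h2⟩
    · exact h2 ((hiff i hio).2 h1)
    · exact h2 ((hiff i hio).1 h1)
  refine ⟨?_, hdis⟩
  have hw := wt_add e (wordPerm σ e)
  rw [wt_wordPerm] at hw
  have hsub : sup e ∩ sup o ⊆ sup e ∩ sup (wordPerm σ e) := by
    intro i hi
    rw [Finset.mem_inter] at hi ⊢
    exact ⟨hi.1, (hiff i hi.2).2 hi.1⟩
  have hcard := Finset.card_le_card hsub
  rcases inter_cases he (by rw [wt_wordPerm]; exact he : wt (wordPerm σ e) = 8) with h | h | h | h
  · omega
  · omega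
  · omega
  · exact absurd h.symm hm

/-- `So o` is transitive on the octad words with given intersection with `o`. -/
theorem word_trans (ho : wt o = 8) {c d : golayCode} (hc : wt c = 8) (hd : wt d = 8)
    (h : (sup o ∩ sup c).card = (sup o ∩ sup d).card) : ∃ σ ∈ So o, wordPerm σ c = d := by
  obtain ⟨g, hg, h1, h2⟩ := Cfsg.Agent.S1556.result (sup o) (sup c) (sup d) (isOctad ho)
    (isOctad hc) (isOctad hd) h
  refine ⟨⟨g, hg⟩, ?_, ?_⟩
  · exact sup_ext ((sup_wordPerm _ _).trans h1)
  · exact sup_ext ((sup_wordPerm _ _).trans h2)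

theorem word_trans_disj (ho : wt o = 8) {c d : golayCode} (hc : wt c = 8) (hd : wt d = 8)
    (hco : Disjoint (sup c) (sup o)) (hdo : Disjoint (sup d) (sup o)) :
    ∃ σ ∈ So o, wordPerm σ c = d := by
  refine word_trans ho hc hd ?_
  rw [Finset.disjoint_iff_inter_eq_empty.1 hco.symm, Finset.disjoint_iff_inter_eq_empty.1 hdo.symm]

theorem exists_notMem (c : golayCode) (hc : wt c < 24) : ∃ p, p ∉ sup c := by
  by_contra hcon
  push Not at hcon
  have h2 : sup c = Finset.univ := Finset.eq_univ_iff_forall.2 hcon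
  have h3 : wt c = 24 := by
    unfold wt
    rw [h2, MinShapes.card_pt]
  omega

/-- There is an octad disjoint from `o` of the form `e + ρ e`, with all the information. -/
theorem exists_special (ho : wt o = 8) : ∃ (S : Finset GolayPt) (e : golayCode) (ρ : M24),
    S.card = 4 ∧ S ⊆ sup o ∧ wt e = 8 ∧ sup e ∩ sup o = S ∧ ρ ∈ Fo o ∧ wordPerm ρ e ≠ e := by
  classical
  obtain ⟨S, hSo, hS⟩ := exists_sub_four ho
  obtain ⟨p, hp⟩ := exists_notMem o (by omega)
  obtain ⟨e, he, heo, hpe⟩ := exists_meet ho hS hSo hp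
  obtain ⟨q, hq⟩ : ∃ q, q ∉ sup e ∪ sup o := by
    by_contra hcon
    push Not at hcon
    have h2 : sup e ∪ sup o = Finset.univ := Finset.eq_univ_iff_forall.2 hcon
    have h3 := Finset.card_union_le (sup e) (sup o)
    rw [h2, MinShapes.card_pt] at h3
    have h4 : (sup e).card = 8 := he
    have h5 : (sup o).card = 8 := ho
    omega
  rw [Finset.mem_union, not_or] at hq
  obtain ⟨ρ, hρ, hρp⟩ := fo_trans ho hp hq.2
  refine ⟨S, e, ρ, hS, hSo, he, heo, hρ, fun h => hq.1 ?_⟩
  rw [← h, ← hρp]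
  exact (mem_sup_wordPerm ρ e p).2 hpe

/-- An octad disjoint from `o`. -/
theorem exists_disj (ho : wt o = 8) : ∃ d : golayCode, wt d = 8 ∧ Disjoint (sup d) (sup o) := by
  obtain ⟨S, e, ρ, hS, hSo, he, heo, hρ, hm⟩ := exists_special ho
  exact ⟨_, moved_sum hρ he (by rw [heo, hS]) hm⟩

/-- An element of `Fo o` maps an octad disjoint from `o` to itself or to its complement off `o`. -/
theorem fo_word (ho : wt o = 8) {τ : M24} (hτ : τ ∈ Fo o) {c : golayCode} (hc : wt c = 8)
    (hco : Disjoint (sup c) (sup o)) :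
    wordPerm τ c = c ∨ wordPerm τ c = c + (o + allOne) := by
  classical
  obtain ⟨S, e, ρ, hS, hSo, he, heo, hρ, hm⟩ := exists_special ho
  have h4 : (sup e ∩ sup o).card = 4 := by rw [heo, hS]
  obtain ⟨hd8, hdo⟩ := moved_sum hρ he h4 hm
  set d := e + wordPerm ρ e with hd
  -- the claim for `d`
  have hclaim : ∀ τ ∈ Fo o, wordPerm τ d = d ∨ wordPerm τ d = d + (o + allOne) := by
    intro τ hτ
    have hcomm : wordPerm τ (wordPerm ρ e) = wordPerm ρ (wordPerm τ e) := by
      rw [← wordPerm_mul, ← wordPerm_mul, fo_comm ho hτ hρ]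
    have hτd : wordPerm τ d = wordPerm τ e + wordPerm ρ (wordPerm τ e) := by
      rw [hd, wordPerm_add, hcomm]
    have hρρ : ∀ c : golayCode, wordPerm ρ (wordPerm ρ c) = c := fun c => by
      rw [← wordPerm_mul, fo_sq ho hρ, wordPerm_one]
    by_cases h1 : wordPerm τ e = e
    · left; rw [hτd, h1]
    by_cases h2 : wordPerm τ e = wordPerm ρ e
    · left; rw [hτd, h2, hρρ, add_comm]
    right
    -- intersections with `o`
    have hSσ : ∀ σ ∈ Fo o, ∀ c : golayCode, sup c ∩ sup o = S → sup (wordPerm σ c) ∩ sup o = S := by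
      intro σ hσ c hc
      rw [← hc]
      ext i
      rw [Finset.mem_inter, Finset.mem_inter]
      refine and_congr_left fun hi => ?_
      have h := mem_sup_wordPerm σ c i
      rwa [mem_Fo.1 hσ i hi] at h
    have hs2 := hSσ ρ hρ e heo
    have hs3 := hSσ τ hτ e heo
    have hs4 := hSσ ρ hρ _ hs3
    have hm' : wordPerm ρ (wordPerm τ e) ≠ wordPerm τ e := by
      intro h
      rw [← hcomm] at h
      exact hm (wordPerm_inj h)
    have h5 : wordPerm ρ (wordPerm τ e) ≠ e := by
      intro h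
      apply h2
      rw [← hρρ (wordPerm τ e), h]
    have h6 : wordPerm ρ (wordPerm τ e) ≠ wordPerm ρ e := fun h => h1 (wordPerm_inj h)
    have hd' := moved_sum hρ (e := wordPerm τ e) (by rw [wt_wordPerm]; exact he)
      (by rw [hs3, hS]) hm'
    rw [← hτd] at hd'
    have hne : ∀ a b : golayCode, wt a = 8 → wt b = 8 → sup a ∩ sup o = S → sup b ∩ sup o = S →
        a ≠ b → ∀ i, i ∉ sup o → i ∈ sup a → i ∈ sup b → False :=
      fun a b ha hb ha' hb' hab i hi hia hib => hab (eq_of_meet hS ha hb ha' hb' hi hia hib)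
    have w2 : wt (wordPerm ρ e) = 8 := by rw [wt_wordPerm]; exact he
    have w3 : wt (wordPerm τ e) = 8 := by rw [wt_wordPerm]; exact he
    have w4 : wt (wordPerm ρ (wordPerm τ e)) = 8 := by rw [wt_wordPerm]; exact w3
    have hdd : sup d ∩ sup (wordPerm τ d) = ∅ := by
      rw [Finset.eq_empty_iff_forall_notMem]
      intro i hi
      rw [Finset.mem_inter] at hi
      have hio : i ∉ sup o := Finset.disjoint_left.1 hdo hi.1
      have hi1 := hi.1
      have hi2 := hi.2
      rw [hd, sup_add, Finset.mem_symmDiff] at hi1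
      rw [hτd, sup_add, Finset.mem_symmDiff] at hi2
      rcases hi1 with ⟨a1, -⟩ | ⟨a1, -⟩ <;> rcases hi2 with ⟨a2, -⟩ | ⟨a2, -⟩
      · exact hne _ _ he w3 heo hs3 (fun h => h1 h.symm) i hio a1 a2
      · exact hne _ _ he w4 heo hs4 (fun h => h5 h.symm) i hio a1 a2
      · exact hne _ _ w2 w3 hs2 hs3 (fun h => h2 h.symm) i hio a1 a2
      · exact hne _ _ w2 w4 hs2 hs4 (fun h => h6 h.symm) i hio a1 a2
    have hw := wt_add d (wordPerm τ d)
    rw [hdd, Finset.card_empty, hd'.1, hd8] at hw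
    have hsum : d + wordPerm τ d = o + allOne := by
      apply sup_ext
      apply Finset.eq_of_subset_of_card_le
      · rw [sup_add_allOne]
        intro i hi
        rw [Finset.mem_compl]
        rw [sup_add, Finset.mem_symmDiff] at hi
        rcases hi with ⟨a1, -⟩ | ⟨a1, -⟩
        · exact Finset.disjoint_left.1 hdo a1
        · exact Finset.disjoint_left.1 hd'.2 a1
      · have h7 := wt_add_allOne o
        show wt (o + allOne) ≤ wt (d + wordPerm τ d)
        omega
    rw [← hsum, ← add_assoc, add_self, zero_add]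
  obtain ⟨σ, hσ, hσd⟩ := word_trans_disj ho hd8 hc hdo hco
  have hconj : σ⁻¹ * τ * σ ∈ Fo o := by
    have := Fo_conj ((So o).inv_mem hσ) hτ
    rwa [inv_inv] at this
  have hτc : wordPerm τ c = wordPerm σ (wordPerm (σ⁻¹ * τ * σ) d) := by
    rw [← hσd, ← wordPerm_mul, ← wordPerm_mul]
    congr 1
    group
  rcases hclaim _ hconj with h | h
  · left; rw [hτc, h, hσd]
  · right
    rw [hτc, h, wordPerm_add, hσd, wordPerm_add, mem_So.1 hσ]
    rfl

/-- The nonzero words disjoint from `o`. -/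
theorem disj_cases (ho : wt o = 8) {c : golayCode} (hco : Disjoint (sup c) (sup o)) :
    c = 0 ∨ c = o + allOne ∨ wt c = 8 := by
  have hw := wt_add c o
  rw [Finset.disjoint_iff_inter_eq_empty.1 hco, Finset.card_empty, ho] at hw
  rcases wt_cases c with h | h | h | h | h
  · exact Or.inl (eq_zero_of_wt h)
  · exact Or.inr (Or.inr h)
  · rcases wt_cases (c + o) with h1 | h1 | h1 | h1 | h1 <;> omega
  · right; left
    have h1 : wt (c + o) = 24 := by omega
    have h2 := Cfsg.Agent.CoOneType.ClosingFacts.eq_allOne_of_wt h1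
    rw [← h2, ← add_assoc, add_comm o c, add_assoc, add_self, add_zero]
  · rcases wt_cases (c + o) with h1 | h1 | h1 | h1 | h1 <;> omega

theorem fo_word' (ho : wt o = 8) {τ : M24} (hτ : τ ∈ Fo o) {c : golayCode}
    (hco : Disjoint (sup c) (sup o)) :
    c + wordPerm τ c = 0 ∨ c + wordPerm τ c = o + allOne := by
  rcases disj_cases ho hco with rfl | rfl | h
  · left; rw [wordPerm_zero, add_zero]
  · left
    rw [wordPerm_add, mem_So.1 (Fo_le_So hτ)]
    exact add_self _
  · rcases fo_word ho hτ h hco with h1 | h1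
    · left; rw [h1, add_self]
    · right; rw [h1, ← add_assoc, add_self, zero_add]

/-- Octads disjoint from `o` separate the points off `o`. -/
theorem exists_sep (ho : wt o = 8) {p q : GolayPt} (hp : p ∉ sup o) (hq : q ∉ sup o)
    (hpq : p ≠ q) : ∃ c : golayCode, wt c = 8 ∧ Disjoint (sup c) (sup o) ∧ p ∈ sup c ∧
      q ∉ sup c := by
  classical
  obtain ⟨d, hd, hdo⟩ := exists_disj ho
  obtain ⟨p0, hp0⟩ : (sup d).Nonempty := by
    rw [← Finset.card_pos]; show 0 < wt d; omega
  obtain ⟨q0, hq0⟩ := exists_notMem (d + o) (by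
    have h := wt_add d o
    rw [Finset.disjoint_iff_inter_eq_empty.1 hdo, Finset.card_empty] at h
    omega)
  rw [sup_add, Finset.mem_symmDiff, not_or, not_and_not_right, not_and_not_right] at hq0
  have hp0o : p0 ∉ sup o := Finset.disjoint_left.1 hdo hp0
  have hq0d : q0 ∉ sup d := fun h => Finset.disjoint_left.1 hdo h (hq0.1 h)
  have hq0o : q0 ∉ sup o := fun h => hq0d (hq0.2 h)
  obtain ⟨σ, hσ, h1, h2⟩ := two_trans ho hp0o hq0o hp hq (fun h => hq0d (h ▸ hp0)) hpq
  refine ⟨wordPerm σ d, by rw [wt_wordPerm]; exact hd, ?_, ?_, ?_⟩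
  · rw [Finset.disjoint_left]
    intro i hi hio
    rw [mem_sup_wordPerm'] at hi
    have h3 := Finset.disjoint_left.1 hdo hi
    apply h3
    rw [← So_apply hσ, Equiv.apply_symm_apply]
    exact hio
  · rw [← h1, mem_sup_wordPerm]; exact hp0
  · rw [← h2, mem_sup_wordPerm]; exact hq0d

end Cfsg.Agent.KFacts.Co1.OctPts
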