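import Cfsg.Agent.KFacts.Co1.OctPts
import Cfsg.Agent.J2.ExtQuot

/-!
# The extraspecial group `2^{1+8}` in the centraliser of an octad sign change (helper899)

`Rh o` is the pointwise stabiliser in `Co0` of the lattice vectors supported on the octad `o`. It
consists of the monomial elements `ε_c σ` with `c` disjoint from `o` and `σ` fixing `o` pointwise.
We show: `Rh o` is normalised by `C0 o`, is extraspecial, its centraliser in `Co0` is
`{1, -1, ε_o, -ε_o}`, and a subgroup of `Rh o` normalised by `C0 o` is `Rh o` or is contained in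
the centre `⟨-ε_o⟩`.
-/

set_option autoImplicit false
open Cfsg
open scoped Pointwise

namespace Cfsg.Agent.KFacts.Co1.RHat

open Cfsg.Agent.SporadicA.Co0Mono Cfsg.Agent.SporadicA.Co1Simple
open Cfsg.Agent.SporadicStructure.Co0Base (e8 e8_coe)
open Cfsg.Agent.SporadicStructure.LeechBase (zmod2_cases mem_support₂)
open Cfsg.Agent.CoOneType.SignFacts (sup mem_sup notMem_sup wt sup_mem wt_cases sup_add_allOne
  wt_add_allOne sign_allOne_comm)
open Cfsg.Agent.CoOneType.CentOctad (C0 mem_C0 sign_mem perm_mem xi_mem exists_sextet)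
open Cfsg.Agent.CoOneType.InvMain (sp_inj sp_mul conj_by_perm conj_by_sign)
open Cfsg.Agent.CoOneType.ClosingFacts (eq_zero_of_wt eq_allOne_of_wt)
open Cfsg.Agent.KFacts.Co1.OctGen (mem_N_of_smul_e8 sign_inj)
open Cfsg.Agent.KFacts.Co1.OctPts
open Cfsg.Agent.SporadicA
open Cfsg.Agent.SporadicStructure

variable {o : golayCode}

/-- The pointwise stabiliser of the lattice vectors supported on `o`. -/
def Rh (o : golayCode) : Subgroup Co0 where
  carrier := {g | ∀ x : leechLattice, signCo0 o • x = -x → g • x = x}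
  one_mem' := fun _ _ => one_smul _ _
  mul_mem' := fun {a b} ha hb x hx => by
    show (a * b) • x = x
    rw [mul_smul, hb x hx, ha x hx]
  inv_mem' := fun {a} ha x hx => by
    show a⁻¹ • x = x
    rw [inv_smul_eq_iff]
    exact (ha x hx).symm

theorem mem_Rh {g : Co0} : g ∈ Rh o ↔ ∀ x : leechLattice, signCo0 o • x = -x → g • x = x :=
  Iff.rfl

theorem sign_smul_e8_of_mem {c : golayCode} {i : GolayPt} (hi : i ∈ sup c) :
    signCo0 c • e8 i = -e8 i := by
  apply Subtype.ext
  funext j
  rw [signCo0_smul, signMap_apply]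
  show _ = -((e8 i : leechLattice) : GolayPt → ℤ) j
  rw [e8_coe]
  by_cases hj : j = i
  · subst hj
    rw [(mem_sup c j).1 hi, sgn_one]
    ring
  · rw [Pi.single_eq_of_ne hj]
    ring

theorem sign_smul_e8_of_notMem {c : golayCode} {i : GolayPt} (hi : i ∉ sup c) :
    signCo0 c • e8 i = e8 i := by
  apply Subtype.ext
  funext j
  rw [signCo0_smul, signMap_apply, e8_coe]
  by_cases hj : j = i
  · subst hj
    rw [(notMem_sup c j).1 hi, sgn_zero, one_mul]
  · rw [Pi.single_eq_of_ne hj]
    ring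

/-- The vectors negated by `ε_c` are those supported on `c`. -/
theorem sign_neg_iff (c : golayCode) (x : leechLattice) :
    signCo0 c • x = -x ↔ ∀ i, i ∉ sup c → (x : GolayPt → ℤ) i = 0 := by
  constructor
  · intro h i hi
    have h1 : ((signCo0 c • x : leechLattice) : GolayPt → ℤ) i = -(x : GolayPt → ℤ) i :=
      congrArg (fun u : leechLattice => (u : GolayPt → ℤ) i) h
    rw [signCo0_smul, signMap_apply, (notMem_sup c i).1 hi, sgn_zero] at h1
    omega
  · intro h
    apply Subtype.ext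
    funext i
    rw [signCo0_smul, signMap_apply]
    show _ = -(x : GolayPt → ℤ) i
    by_cases hi : i ∈ sup c
    · rw [(mem_sup c i).1 hi, sgn_one]; ring
    · rw [h i hi]; ring

theorem eight_nsmul (x : leechLattice) :
    (8 : ℕ) • x = ∑ i, (x : GolayPt → ℤ) i • e8 i := by
  apply Subtype.ext
  funext j
  have h1 : ((∑ i, (x : GolayPt → ℤ) i • e8 i : leechLattice) : GolayPt → ℤ) j =
      ∑ i, (x : GolayPt → ℤ) i * ((e8 i : leechLattice) : GolayPt → ℤ) j := by
    have h2 : ∀ (s : Finset GolayPt), ((∑ i ∈ s, (x : GolayPt → ℤ) i • e8 i : leechLattice) :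
        GolayPt → ℤ) j = ∑ i ∈ s, (x : GolayPt → ℤ) i * ((e8 i : leechLattice) : GolayPt → ℤ) j := by
      intro s
      classical
      induction s using Finset.induction_on with
      | empty => simp
      | insert a s ha ih =>
        rw [Finset.sum_insert ha, Finset.sum_insert ha]
        show ((x : GolayPt → ℤ) a • ((e8 a : leechLattice) : GolayPt → ℤ)) j + _ = _
        rw [ih, Pi.smul_apply, smul_eq_mul]
    exact h2 Finset.univ
  rw [h1]
  show (8 : ℕ) • (x : GolayPt → ℤ) j = _
  rw [Finset.sum_eq_single j]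
  · rw [e8_coe, Pi.single_eq_same, nsmul_eq_mul]
    ring
  · intro i _ hij
    rw [e8_coe, Pi.single_eq_of_ne (Ne.symm hij), mul_zero]
  · intro h; exact absurd (Finset.mem_univ _) h

theorem nsmul_inj {x y : leechLattice} (h : (8 : ℕ) • x = (8 : ℕ) • y) : x = y := by
  apply Subtype.ext
  funext j
  have h1 := congrArg (fun u : leechLattice => (u : GolayPt → ℤ) j) h
  have h2 : (8 : ℕ) • (x : GolayPt → ℤ) j = (8 : ℕ) • (y : GolayPt → ℤ) j := h1
  rw [nsmul_eq_mul, nsmul_eq_mul] at h2
  have h3 : ((8 : ℕ) : ℤ) = 8 := rfl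
  rw [h3] at h2
  omega

theorem mem_Rh_iff {g : Co0} : g ∈ Rh o ↔ ∀ i ∈ sup o, g • e8 i = e8 i := by
  constructor
  · intro h i hi
    exact h _ (sign_smul_e8_of_mem hi)
  · intro h x hx
    rw [sign_neg_iff] at hx
    apply nsmul_inj
    rw [← smul_nsmul, eight_nsmul]
    have h1 : g • (∑ i, (x : GolayPt → ℤ) i • e8 i : leechLattice) =
        toHom g (∑ i, (x : GolayPt → ℤ) i • e8 i) := rfl
    rw [h1, map_sum]
    refine Finset.sum_congr rfl fun i _ => ?_
    rw [map_zsmul, toHom_apply]
    by_cases hi : i ∈ sup o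
    · rw [h i hi]
    · rw [hx i hi, zero_smul, zero_smul]

/-- `C0 o` normalises `Rh o`. -/
theorem Rh_conj {g r : Co0} (hg : g ∈ C0 o) (hr : r ∈ Rh o) : g * r * g⁻¹ ∈ Rh o := by
  intro x hx
  have hg' : g⁻¹ ∈ C0 o := (C0 o).inv_mem hg
  rw [mem_C0] at hg'
  have h1 : signCo0 o • (g⁻¹ • x) = -(g⁻¹ • x) := by
    rw [← mul_smul, ← hg', mul_smul, hx, Co0Mono.smul_neg]
  rw [mul_smul, mul_smul, mem_Rh.1 hr _ h1, smul_inv_smul]

/-- The elements of `Rh o`. -/
theorem mem_Rh_sp {c : golayCode} {σ : M24} (hc : Disjoint (sup c) (sup o)) (hσ : σ ∈ Fo o) :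
    signCo0 c * permCo0 σ ∈ Rh o := by
  rw [mem_Rh_iff]
  intro i hi
  rw [mul_smul, perm_smul_e8, mem_Fo.1 hσ i hi]
  exact sign_smul_e8_of_notMem (fun h => Finset.disjoint_left.1 hc h hi)

theorem exists_of_mem_Rh (ho : wt o = 8) {g : Co0} (hg : g ∈ Rh o) :
    ∃ (c : golayCode) (σ : M24), Disjoint (sup c) (sup o) ∧ σ ∈ Fo o ∧
      g = signCo0 c * permCo0 σ := by
  have h := mem_Rh_iff.1 hg
  obtain ⟨i₀, hi₀⟩ : (sup o).Nonempty := by
    rw [← Finset.card_pos]; show 0 < wt o; omega
  obtain ⟨c, σ, rfl⟩ := exists_sign_perm (mem_N_of_smul_e8 (h i₀ hi₀))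
  have h1 : ∀ i ∈ sup o, (σ : Equiv.Perm GolayPt) i = i ∧ i ∉ sup c := by
    intro i hi
    have h2 := h i hi
    rw [mul_smul, perm_smul_e8] at h2
    by_cases hc : (σ : Equiv.Perm GolayPt) i ∈ sup c
    · rw [sign_smul_e8_of_mem hc] at h2
      exact absurd h2.symm (e8_ne_neg _ _)
    · rw [sign_smul_e8_of_notMem hc] at h2
      have h3 := e8_inj h2
      exact ⟨h3, h3 ▸ hc⟩
  refine ⟨c, σ, ?_, fun i hi => (h1 i hi).1, rfl⟩
  rw [Finset.disjoint_right]
  exact fun i hi => (h1 i hi).2

theorem sign_mem_Rh {c : golayCode} (hc : Disjoint (sup c) (sup o)) : signCo0 c ∈ Rh o := by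
  have h := mem_Rh_sp hc (Fo o).one_mem
  rwa [map_one, mul_one] at h

theorem perm_mem_Rh {σ : M24} (hσ : σ ∈ Fo o) : permCo0 σ ∈ Rh o := by
  have h := mem_Rh_sp (o := o) (c := 0) (by
    rw [Finset.disjoint_left]
    intro i hi
    rw [mem_sup] at hi
    have h0 : (0 : ZMod 2) = 1 := hi
    exact absurd h0 (by decide)) hσ
  rwa [signCo0_zero, one_mul] at h

/-- The complement of `o`. -/
theorem disj_compl (o : golayCode) : Disjoint (sup (o + allOne)) (sup o) := by
  rw [sup_add_allOne]
  exact disjoint_compl_left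

theorem Rh_le_C0 (ho : wt o = 8) : Rh o ≤ C0 o := by
  intro g hg
  obtain ⟨c, σ, hc, hσ, rfl⟩ := exists_of_mem_Rh ho hg
  exact (C0 o).mul_mem (sign_mem o c) (perm_mem (Fo_le_So hσ))

/-- Two elements of `Rh o` commute or their commutator is `ε` of the complement of `o`. -/
theorem Rh_mul (ho : wt o = 8) {r s : Co0} (hr : r ∈ Rh o) (hs : s ∈ Rh o) :
    r * s = s * r ∨ r * s = signCo0 (o + allOne) * (s * r) := by
  obtain ⟨c, σ, hc, hσ, rfl⟩ := exists_of_mem_Rh ho hr
  obtain ⟨d, τ, hd, hτ, rfl⟩ := exists_of_mem_Rh ho hs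
  rw [sp_mul, sp_mul, fo_comm ho hσ hτ]
  have key : c + wordPerm σ d = (c + wordPerm τ c) + (d + wordPerm σ d) + (d + wordPerm τ c) := by
    have : (c + wordPerm τ c) + (d + wordPerm σ d) + (d + wordPerm τ c) =
        c + wordPerm σ d + (d + d) + (wordPerm τ c + wordPerm τ c) := by abel
    rw [this, add_self, add_self, add_zero, add_zero]
  rw [key, signCo0_add, mul_assoc]
  rcases fo_word' ho hτ hc with h1 | h1 <;> rcases fo_word' ho hσ hd with h2 | h2
  · left; rw [h1, h2, add_zero, signCo0_zero, one_mul]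
  · right; rw [h1, h2, zero_add]
  · right; rw [h1, h2, add_zero]
  · left; rw [h1, h2, add_self, signCo0_zero, one_mul]

theorem Rh_sq (ho : wt o = 8) {r : Co0} (hr : r ∈ Rh o) :
    r * r = 1 ∨ r * r = signCo0 (o + allOne) := by
  obtain ⟨c, σ, hc, hσ, rfl⟩ := exists_of_mem_Rh ho hr
  rw [sp_mul, fo_sq ho hσ, map_one, mul_one]
  rcases fo_word' ho hσ hc with h1 | h1
  · left; rw [h1, signCo0_zero]
  · right; rw [h1]

/-- An element of `Co0` mapping some `8 e_j` to `± 8 e_j` is monomial. -/
theorem mem_N_of_smul_e8' {g : Co0} {i : GolayPt} (h : g • e8 i = e8 i ∨ g • e8 i = -e8 i) :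
    g ∈ N := by
  rcases h with h | h
  · exact mem_N_of_smul_e8 h
  · have h1 : signCo0 allOne * g ∈ N := by
      apply mem_N_of_smul_e8 (i := i)
      rw [mul_smul, h, Co0Mono.smul_neg, sign_smul_e8_of_mem (c := allOne) (i := i) (by
        rw [mem_sup]; rfl), neg_neg]
    have h2 : g = signCo0 allOne * (signCo0 allOne * g) := by
      rw [← mul_assoc, signCo0_mul_self, one_mul]
    rw [h2]
    exact N.mul_mem (sign_mem_N _) h1

/-- The centraliser of `Rh o` in `Co0`. -/
theorem centralizer_Rh (ho : wt o = 8) {g : Co0} (hg : ∀ r ∈ Rh o, g * r = r * g) :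
    g = 1 ∨ g = signCo0 allOne ∨ g = signCo0 o ∨ g = signCo0 (o + allOne) := by
  classical
  -- `g` maps `8 e_j` to `± 8 e_j` for `j` off `o`
  have hline : ∀ j, j ∉ sup o → g • e8 j = e8 j ∨ g • e8 j = -e8 j := by
    intro j hj
    set x : leechLattice := g • e8 j with hx
    have hsep : ∀ c : golayCode, Disjoint (sup c) (sup o) → j ∈ sup c → signCo0 c • x = -x := by
      intro c hc hjc
      rw [hx, ← mul_smul, ← hg _ (sign_mem_Rh hc), mul_smul, sign_smul_e8_of_mem hjc,
        Co0Mono.smul_neg]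
    have hzero : ∀ k, k ≠ j → (x : GolayPt → ℤ) k = 0 := by
      intro k hk
      by_cases hko : k ∈ sup o
      · exact (sign_neg_iff _ _).1 (hsep (o + allOne) (disj_compl o) (by
          rw [sup_add_allOne, Finset.mem_compl]; exact hj)) k (by
          rw [sup_add_allOne, Finset.mem_compl, not_not]; exact hko)
      · obtain ⟨c, -, hc, hjc, hkc⟩ := exists_sep ho hj hko (Ne.symm hk)
        exact (sign_neg_iff _ _).1 (hsep c hc hjc) k hkc
    have hn : sqNorm (x : GolayPt → ℤ) = 64 := by
      rw [hx, sqNorm_smul]; exact sqNorm_e8 j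
    have hn' : sqNorm (x : GolayPt → ℤ) = (x : GolayPt → ℤ) j ^ 2 := by
      show ∑ i, (x : GolayPt → ℤ) i ^ 2 = _
      rw [Finset.sum_eq_single j]
      · intro k _ hk; rw [hzero k hk]; ring
      · intro h; exact absurd (Finset.mem_univ _) h
    have h8 : (x : GolayPt → ℤ) j = 8 ∨ (x : GolayPt → ℤ) j = -8 := by
      have : (x : GolayPt → ℤ) j ^ 2 = 8 ^ 2 := by rw [← hn', hn]; norm_num
      exact sq_eq_sq_iff_eq_or_eq_neg.1 this
    rcases h8 with h8 | h8
    · left
      apply Subtype.ext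
      funext k
      rw [e8_coe, Pi.single_apply]
      by_cases hk : k = j
      · rw [if_pos hk, hk, h8]
      · rw [if_neg hk, hzero k hk]
    · right
      apply Subtype.ext
      funext k
      show _ = -((e8 j : leechLattice) : GolayPt → ℤ) k
      rw [e8_coe, Pi.single_apply]
      by_cases hk : k = j
      · rw [if_pos hk, hk, h8]
      · rw [if_neg hk, hzero k hk, neg_zero]
  obtain ⟨p, hp⟩ := exists_notMem o (by omega)
  obtain ⟨d, σ, rfl⟩ := exists_sign_perm (mem_N_of_smul_e8' (hline p hp))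
  have hσ : ∀ j, j ∉ sup o → (σ : Equiv.Perm GolayPt) j = j := by
    intro j hj
    have h1 := hline j hj
    rw [mul_smul, perm_smul_e8] at h1
    rcases sgn_smul_e8 d ((σ : Equiv.Perm GolayPt) j) with h2 | h2
    · rw [h2] at h1
      exact e8_inj' h1
    · rw [h2, neg_inj] at h1
      rcases h1 with h1 | h1
      · exact absurd h1.symm (e8_ne_neg _ _)
      · exact e8_inj h1
  have hσ1 : σ = 1 := by
    obtain ⟨c, hc, hco⟩ := exists_disj ho
    obtain ⟨q, hq⟩ := exists_notMem (c + o) (by
      have h := OctPts.wt_add c o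
      rw [Finset.disjoint_iff_inter_eq_empty.1 hco, Finset.card_empty] at h
      omega)
    rw [sup_add, Finset.mem_symmDiff, not_or, not_and_not_right, not_and_not_right] at hq
    have hqc : q ∉ sup c := fun h => Finset.disjoint_left.1 hco h (hq.1 h)
    have hqo : q ∉ sup o := fun h => hqc (hq.2 h)
    exact fo_eq_one hc (σ := σ) (fun i hi => hσ i (Finset.disjoint_left.1 hco hi)) hqc (hσ q hqo)
  subst hσ1
  rw [map_one, mul_one] at hg ⊢
  have hd : ∀ τ ∈ Fo o, wordPerm τ d = d := by
    intro τ hτ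
    have h1 := hg _ (perm_mem_Rh hτ)
    rw [perm_mul_sign] at h1
    exact (sign_inj (mul_right_cancel h1)).symm
  by_cases hdo : ∃ i ∈ sup d, i ∉ sup o
  · obtain ⟨i, hi, hio⟩ := hdo
    have hall : ∀ j, j ∉ sup o → j ∈ sup d := by
      intro j hj
      obtain ⟨τ, hτ, hτi⟩ := fo_trans ho hio hj
      rw [← hd τ hτ, ← hτi, mem_sup_wordPerm]
      exact hi
    have hsub : sup (d + allOne) ⊆ sup o := by
      intro j hj
      rw [sup_add_allOne, Finset.mem_compl] at hj
      by_contra hcon
      exact hj (hall j hcon)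
    have hc := Finset.card_le_card hsub
    have hc' : wt (d + allOne) ≤ wt o := hc
    rcases wt_cases (d + allOne) with h | h | h | h | h
    · right; left
      have h1 := eq_zero_of_wt h
      rw [eq_of_add h1]
    · right; right; right
      have h1 : sup (d + allOne) = sup o := Finset.eq_of_subset_of_card_le hsub (by
        show wt o ≤ wt (d + allOne); omega)
      have h2 := sup_ext h1
      rw [← h2, add_assoc, add_self, add_zero]
    · omega
    · omega
    · omega
  · push Not at hdo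
    have hc : wt d ≤ wt o := Finset.card_le_card hdo
    rcases wt_cases d with h | h | h | h | h
    · left
      rw [eq_zero_of_wt h, signCo0_zero]
    · right; right; left
      have h1 : sup d = sup o := Finset.eq_of_subset_of_card_le hdo (by
        show wt o ≤ wt d; omega)
      rw [sup_ext h1]
    · omega
    · omega
    · omega

end Cfsg.Agent.KFacts.Co1.RHat
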