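import Cfsg.Agent.KFacts.Co1.RHat

/-!
# The group `Rh o` is extraspecial and its central quotient is irreducible (helper899)
-/

set_option autoImplicit false
open Cfsg
open scoped Pointwise

namespace Cfsg.Agent.KFacts.Co1.RIrr

open Cfsg.Agent.SporadicA.Co0Mono Cfsg.Agent.SporadicA.Co1Simple
open Cfsg.Agent.SporadicStructure.Co0Base (e8 e8_coe)
open Cfsg.Agent.SporadicStructure.LeechBase (zmod2_cases mem_support₂)
open Cfsg.Agent.CoOneType.SignFacts (sup mem_sup notMem_sup wt sup_mem wt_cases sup_add_allOne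
  wt_add_allOne sign_allOne_comm)
open Cfsg.Agent.CoOneType.CentOctad (C0 mem_C0 sign_mem perm_mem xi_mem exists_sextet sum_single)
open Cfsg.Agent.CoOneType.InvMain (sp_inj sp_mul conj_by_perm conj_by_sign)
open Cfsg.Agent.CoOneType.ClosingFacts (eq_zero_of_wt eq_allOne_of_wt)
open Cfsg.Agent.KFacts.Co1.OctGen (mem_N_of_smul_e8 sign_inj)
open Cfsg.Agent.KFacts.Co1.OctPts Cfsg.Agent.KFacts.Co1.RHat
open Cfsg.Agent.SporadicA
open Cfsg.Agent.SporadicStructure

variable {o : golayCode}

theorem nonempty_sup (ho : wt o = 8) : (sup o).Nonempty := by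
  rw [← Finset.card_pos]; show 0 < wt o; omega

theorem allOne_notMem (ho : wt o = 8) : signCo0 allOne ∉ Rh o := by
  intro h
  obtain ⟨i, hi⟩ := nonempty_sup ho
  have h1 := mem_Rh_iff.1 h i hi
  rw [sign_smul_e8_of_mem (c := allOne) (i := i) (by rw [mem_sup]; rfl)] at h1
  exact e8_ne_neg i i h1.symm

theorem sign_notMem (ho : wt o = 8) : signCo0 o ∉ Rh o := by
  intro h
  obtain ⟨i, hi⟩ := nonempty_sup ho
  have h1 := mem_Rh_iff.1 h i hi
  rw [sign_smul_e8_of_mem hi] at h1
  exact e8_ne_neg i i h1.symm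

theorem omega_mem : signCo0 (o + allOne) ∈ Rh o := sign_mem_Rh (disj_compl o)

theorem omega_ne_one (ho : wt o = 8) : signCo0 (o + allOne) ≠ 1 := by
  intro h
  rw [← signCo0_zero] at h
  have h1 := sign_inj h
  have h2 := wt_add_allOne o
  have h3 : wt (0 : golayCode) = 0 := by
    unfold wt
    rw [Finset.card_eq_zero, Finset.eq_empty_iff_forall_notMem]
    intro i hi
    rw [mem_sup] at hi
    have h0 : (0 : ZMod 2) = 1 := hi
    exact absurd h0 (by decide)
  rw [h1, h3] at h2
  omega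

theorem omega_comm {g : Co0} (hg : g ∈ C0 o) :
    signCo0 (o + allOne) * g = g * signCo0 (o + allOne) := by
  rw [signCo0_add, mul_assoc, ← sign_allOne_comm, ← mul_assoc, ← mem_C0.1 hg, mul_assoc]

/-- There is a noncommuting pair in `Rh o`. -/
theorem exists_noncomm (ho : wt o = 8) : ∃ r ∈ Rh o, ∃ s ∈ Rh o, r * s ≠ s * r := by
  obtain ⟨p, hp⟩ := exists_notMem o (by omega)
  obtain ⟨q, hq⟩ := exists_notMem (o : golayCode) (by omega)
  -- two distinct points off `o`
  obtain ⟨d, hd, hdo⟩ := exists_disj ho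
  obtain ⟨p, hp⟩ := nonempty_sup hd
  obtain ⟨q, hq⟩ := exists_notMem (d + o) (by
    have h := OctPts.wt_add d o
    rw [Finset.disjoint_iff_inter_eq_empty.1 hdo, Finset.card_empty] at h
    omega)
  rw [sup_add, Finset.mem_symmDiff, not_or, not_and_not_right, not_and_not_right] at hq
  have hqd : q ∉ sup d := fun h => Finset.disjoint_left.1 hdo h (hq.1 h)
  have hqo : q ∉ sup o := fun h => hqd (hq.2 h)
  obtain ⟨σ, hσ, hσp⟩ := fo_trans ho (Finset.disjoint_left.1 hdo hp) hqo
  refine ⟨_, sign_mem_Rh hdo, _, perm_mem_Rh hσ, ?_⟩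
  rw [perm_mul_sign]
  intro h
  have h1 := sign_inj (mul_right_cancel h)
  apply hqd
  rw [h1, ← hσp, mem_sup_wordPerm]
  exact hp

theorem center_iff (ho : wt o = 8) (r : Rh o) :
    r ∈ Subgroup.center (Rh o) ↔ (r : Co0) = 1 ∨ (r : Co0) = signCo0 (o + allOne) := by
  rw [Subgroup.mem_center_iff]
  constructor
  · intro h
    have h1 : ∀ s ∈ Rh o, (r : Co0) * s = s * r := fun s hs =>
      (congrArg Subtype.val (h ⟨s, hs⟩)).symm
    rcases centralizer_Rh ho h1 with h2 | h2 | h2 | h2
    · exact Or.inl h2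
    · exact absurd (h2 ▸ r.2) (allOne_notMem ho)
    · exact absurd (h2 ▸ r.2) (sign_notMem ho)
    · exact Or.inr h2
  · intro h s
    apply Subtype.ext
    show (s : Co0) * r = r * s
    rcases h with h | h
    · rw [h, one_mul, mul_one]
    · rw [h, omega_comm (Rh_le_C0 ho s.2)]

/-- `Rh o` is extraspecial. -/
theorem isExtraspecial (ho : wt o = 8) : IsExtraspecial 2 (Rh o) := by
  have : Finite Co0 := Cfsg.Agent.CoOneType.FrameFix.finite_co0
  have hsq : ∀ x : Rh o, x ^ 2 ∈ Subgroup.center (Rh o) := by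
    intro x
    rw [center_iff ho, pow_two]
    exact Rh_sq ho x.2
  apply Cfsg.Agent.J2.ExtQuot.isExtraspecial_two
  · intro x
    refine ⟨2, Subtype.ext ?_⟩
    show (x : Co0) ^ (2 ^ 2) = 1
    rw [pow_two 2, pow_mul, pow_two, pow_two]
    rcases Rh_sq ho x.2 with h | h
    · rw [h, one_mul]
    · rw [h, signCo0_mul_self]
  · rw [Nat.card_eq_two_iff]
    refine ⟨⟨1, Subgroup.one_mem _⟩, ⟨⟨signCo0 (o + allOne), omega_mem⟩,
      (center_iff ho _).2 (Or.inr rfl)⟩, ?_, ?_⟩
    · intro h
      have h1 := congrArg (fun x : Subgroup.center (Rh o) => ((x : Rh o) : Co0)) h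
      exact omega_ne_one ho h1.symm
    · rw [Set.eq_univ_iff_forall]
      rintro ⟨x, hx⟩
      rcases (center_iff ho x).1 hx with h | h
      · left; exact Subtype.ext (Subtype.ext h)
      · right; exact Subtype.ext (Subtype.ext h)
  · exact hsq
  · obtain ⟨r, hr, s, hs, hne⟩ := exists_noncomm ho
    exact ⟨⟨r, hr⟩, ⟨s, hs⟩, fun h => hne (congrArg Subtype.val h)⟩

/-- The image of `8 e_p` under `ξ_T` has nonzero coordinates on the tetrad of `p`. -/
theorem xi_e8_ne {T : GolayPt → Fin 6} {p j : GolayPt} (h : T j = T p) :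
    Xi.xiFun T (Pi.single p 8) j ≠ 0 := by
  have hs : ∑ k ∈ Xi.fib T (T j), (Pi.single p 8 : GolayPt → ℤ) k = 8 := by
    rw [sum_single, if_pos (Xi.mem_fib.2 h.symm)]
  rw [Xi.xiFun_apply, hs, Pi.single_apply]
  split_ifs <;> norm_num

/-- The subgroups of `Rh o` normalised by `C0 o`. -/
theorem irr (ho : wt o = 8) (W : Subgroup Co0) (hW : W ≤ Rh o)
    (hn : ∀ g ∈ C0 o, ∀ w ∈ W, g * w * g⁻¹ ∈ W)
    (hne : ∃ w ∈ W, w ≠ 1 ∧ w ≠ signCo0 (o + allOne)) : Rh o ≤ W := by
  classical
  -- an octad sign change in `W`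
  obtain ⟨c, hc, hco, hcW⟩ : ∃ c : golayCode, wt c = 8 ∧ Disjoint (sup c) (sup o) ∧
      signCo0 c ∈ W := by
    obtain ⟨w, hw, hw1, hw2⟩ := hne
    obtain ⟨c, σ, hc, hσ, rfl⟩ := exists_of_mem_Rh ho (hW hw)
    by_cases hσ1 : σ = 1
    · subst hσ1
      rw [map_one, mul_one] at hw hw1 hw2
      refine ⟨c, ?_, hc, hw⟩
      rcases disj_cases ho hc with h | h | h
      · exact absurd (by rw [h, signCo0_zero]) hw1
      · exact absurd (by rw [h]) hw2
      · exact h
    · obtain ⟨e, he, he4, hem⟩ := exists_moved ho hσ hσ1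
      obtain ⟨h8, hdis⟩ := moved_sum hσ he he4 hem
      refine ⟨_, h8, hdis, ?_⟩
      have h1 := hn _ (sign_mem o e) _ hw
      rw [conj_by_sign] at h1
      have h2 := W.mul_mem h1 (W.inv_mem hw)
      have h3 : signCo0 (c + (e + wordPerm σ e)) * permCo0 σ * (signCo0 c * permCo0 σ)⁻¹ =
          signCo0 (e + wordPerm σ e) := by
        rw [mul_inv_rev, mul_assoc, ← mul_assoc (permCo0 σ), mul_inv_cancel, one_mul,
          signCo0_inv, ← signCo0_add]
        congr 1
        rw [add_comm c, add_assoc, add_self, add_zero]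
      rwa [h3] at h2
  have hoct : ∀ d : golayCode, wt d = 8 → Disjoint (sup d) (sup o) → signCo0 d ∈ W := by
    intro d hd hdo
    obtain ⟨σ, hσ, rfl⟩ := word_trans_disj ho hc hd hco hdo
    have h1 := hn _ (perm_mem hσ) _ hcW
    rwa [perm_mul_sign_mul_inv] at h1
  have hsign : ∀ d : golayCode, Disjoint (sup d) (sup o) → signCo0 d ∈ W := by
    intro d hdo
    rcases disj_cases ho hdo with h | h | h
    · rw [h, signCo0_zero]; exact W.one_mem
    · have h1 : Disjoint (sup (c + (o + allOne))) (sup o) := by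
        rw [Finset.disjoint_left]
        intro i hi hio
        rw [sup_add, Finset.mem_symmDiff] at hi
        rcases hi with ⟨h1, -⟩ | ⟨h1, -⟩
        · exact Finset.disjoint_left.1 hco h1 hio
        · exact Finset.disjoint_left.1 (disj_compl o) h1 hio
      have h2 : wt (c + (o + allOne)) = 8 := by
        rcases disj_cases ho h1 with h3 | h3 | h3
        · have h4 := eq_of_add h3
          have h5 := wt_add_allOne o
          rw [← h4] at h5
          omega
        · exfalso
          have h4 : c = 0 := by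
            have h5 : c + (o + allOne) + (o + allOne) = (o + allOne) + (o + allOne) := by rw [h3]
            rw [add_assoc, add_self, add_zero] at h5
            exact h5
          have h5 := omega_ne_one ho
          have h6 := wt_add_allOne (0 : golayCode)
          have h7 : wt (0 : golayCode) = 8 := h4 ▸ hc
          rcases wt_cases ((0 : golayCode) + allOne) with h8 | h8 | h8 | h8 | h8
          · omega
          · omega
          · omega
          · have h9 : wt (0 : golayCode) = 0 := by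
              unfold wt
              rw [Finset.card_eq_zero, Finset.eq_empty_iff_forall_notMem]
              intro i hi
              rw [mem_sup] at hi
              have h0 : (0 : ZMod 2) = 1 := hi
              exact absurd h0 (by decide)
            omega
          · omega
        · exact h3
      have h3 := W.mul_mem hcW (hoct _ h2 h1)
      rw [← signCo0_add, ← add_assoc, add_self, zero_add] at h3
      rw [h]; exact h3
    · exact hoct d h hdo
  -- a nontrivial permutation part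
  obtain ⟨w, hw, σ, hσ, hσ1, d, hdo, hwd⟩ : ∃ w ∈ W, ∃ σ ∈ Fo o, σ ≠ 1 ∧ ∃ d : golayCode,
      Disjoint (sup d) (sup o) ∧ w = signCo0 d * permCo0 σ := by
    by_contra hcon
    push Not at hcon
    have hall : ∀ w ∈ W, ∃ d : golayCode, w = signCo0 d := by
      intro w hw
      obtain ⟨d, σ, hd, hσ, h⟩ := exists_of_mem_Rh ho (hW hw)
      by_cases h1 : σ = 1
      · refine ⟨d, ?_⟩
        rw [h, h1, map_one, mul_one]
      · exact absurd h (hcon w hw σ hσ h1 d hd)
    obtain ⟨S, hSo, hS⟩ := exists_sub_four ho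
    obtain ⟨T, hT, hT0, hTo, -⟩ := exists_sextet ho hS hSo
    obtain ⟨p, hp⟩ := exists_notMem o (by omega)
    obtain ⟨j, hj, hjp⟩ : ∃ j ∈ Xi.fib T (T p), j ≠ p :=
      Finset.exists_mem_ne (by rw [hT.card]; norm_num) p
    rw [Xi.mem_fib] at hj
    have hjo : j ∉ sup o := by
      rw [notMem_sup, hTo j p hj, ← notMem_sup]; exact hp
    obtain ⟨e, he, heo, hpe, hje⟩ := exists_sep ho hp hjo (Ne.symm hjp)
    have hξ := xi_mem (o := o) hT hTo
    obtain ⟨d, hd⟩ := hall _ (hn _ ((C0 o).inv_mem hξ) _ (hsign e heo))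
    rw [inv_inv] at hd
    have hmul : signCo0 e * Xi.xiCo0 T hT = Xi.xiCo0 T hT * signCo0 d := by
      rw [← hd]; group
    have hx : signCo0 e • (Xi.xiCo0 T hT • e8 p) = Xi.xiCo0 T hT • e8 p ∨
        signCo0 e • (Xi.xiCo0 T hT • e8 p) = -(Xi.xiCo0 T hT • e8 p) := by
      rw [← mul_smul, hmul, mul_smul]
      rcases sgn_smul_e8 d p with h | h
      · left; rw [h]
      · right; rw [h, Co0Mono.smul_neg]
    have hcoord : ∀ k, ((signCo0 e • (Xi.xiCo0 T hT • e8 p) : leechLattice) : GolayPt → ℤ) k =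
        sgn ((e : GolayPt → ZMod 2) k) * Xi.xiFun T (Pi.single p 8) k := by
      intro k
      rw [signCo0_smul, signMap_apply, Xi.xiCo0_smul, e8_coe]
    have hp' : Xi.xiFun T (Pi.single p 8) p ≠ 0 := xi_e8_ne rfl
    have hj' : Xi.xiFun T (Pi.single p 8) j ≠ 0 := xi_e8_ne hj
    rcases hx with h | h
    · have h1 := hcoord p
      rw [h, (mem_sup e p).1 hpe, sgn_one, Xi.xiCo0_smul, e8_coe] at h1
      apply hp'
      linarith
    · have h1 := hcoord j
      rw [h, (notMem_sup e j).1 hje, sgn_zero] at h1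
      have h2 : -(Xi.xiFun T (Pi.single p 8) j) = 1 * Xi.xiFun T (Pi.single p 8) j := by
        rw [← h1]
        show _ = -((Xi.xiCo0 T hT • e8 p : leechLattice) : GolayPt → ℤ) j
        rw [Xi.xiCo0_smul, e8_coe]
      apply hj'
      linarith
  have hperm : permCo0 σ ∈ W := by
    have h1 := W.mul_mem (hsign d hdo) hw
    rwa [hwd, ← mul_assoc, signCo0_mul_self, one_mul] at h1
  have hperms : ∀ τ ∈ Fo o, permCo0 τ ∈ W := by
    intro τ hτ
    by_cases hτ1 : τ = 1
    · rw [hτ1, map_one]; exact W.one_mem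
    obtain ⟨p, hp⟩ := exists_notMem o (by omega)
    have hσp : (σ : Equiv.Perm GolayPt) p ≠ p := fun h => hσ1 (fo_eq_one ho hσ hp h)
    have hτp : (τ : Equiv.Perm GolayPt) p ≠ p := fun h => hτ1 (fo_eq_one ho hτ hp h)
    obtain ⟨ρ, hρ, h1, h2⟩ := two_trans ho hp (Fo_notMem hσ hp) hp (Fo_notMem hτ hp)
      (Ne.symm hσp) (Ne.symm hτp)
    have h3 : ρ * σ * ρ⁻¹ = τ := by
      apply fo_eq ho (Fo_conj hρ hσ) hτ hp
      rw [coe_mul_apply, coe_mul_apply, inv_apply_eq h1, h2]
    have h4 := hn _ (perm_mem hρ) _ hperm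
    rw [← map_mul, ← map_inv, ← map_mul, h3] at h4
    exact h4
  intro g hg
  obtain ⟨d, τ, hd, hτ, rfl⟩ := exists_of_mem_Rh ho hg
  exact W.mul_mem (hsign d hd) (hperms τ hτ)

end Cfsg.Agent.KFacts.Co1.RIrr
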