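import Cfsg.Agent.KFacts.Co1.Maxi

/-!
# The normal subgroups of `C0 o` above `Rh o` (helper899)

`simple`: a subgroup `M` of `C0 o` containing `Rh o` and normalised by `C0 o` is contained in
`Rh o ⟨-1⟩` or is `C0 o`.
-/

set_option autoImplicit false
open Cfsg
open scoped Pointwise commutatorElement

namespace Cfsg.Agent.KFacts.Co1.Simp

open Cfsg.Agent.SporadicA.Co0Mono Cfsg.Agent.SporadicA.Co1Simple
open Cfsg.Agent.SporadicStructure.Co0Base (e8 e8_coe)
open Cfsg.Agent.SporadicStructure.LeechBase (zmod2_cases mem_support₂)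
open Cfsg.Agent.CoOneType.SignFacts (sup mem_sup notMem_sup wt sup_mem wt_cases sup_add_allOne
  wt_add_allOne sign_allOne_comm)
open Cfsg.Agent.CoOneType.CentOctad (C0 mem_C0 sign_mem perm_mem xi_mem exists_sextet sum_single)
open Cfsg.Agent.KFacts.Co1.OctGen (mem_N_of_smul_e8 sign_inj even_of_zero sq_cases Cl le_of_cl)
open Cfsg.Agent.KFacts.Co1.OctPts Cfsg.Agent.KFacts.Co1.RHat Cfsg.Agent.KFacts.Co1.RIrr
open Cfsg.Agent.KFacts.Co1.Perf Cfsg.Agent.KFacts.Co1.Maxi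
open Cfsg.Agent.SporadicA
open Cfsg.Agent.SporadicStructure

variable {o : golayCode}

/-! ### The image of `8 e_j` under `ξ_T`, `j` in the tetrad `0` -/

theorem xi_apply {T : GolayPt → Fin 6} (hT : Xi.IsSextet T) {i j : GolayPt} (hj : T j = 0)
    (hi : T i = 0) :
    ((Xi.xiCo0 T hT • e8 j : leechLattice) : GolayPt → ℤ) i = if i = j then 4 else -4 := by
  rw [Xi.xiCo0_smul, e8_coe]
  have hs : ∑ k ∈ Xi.fib T (T i), (Pi.single j 8 : GolayPt → ℤ) k = 8 := by
    rw [sum_single, if_pos (Xi.mem_fib.2 (hj.trans hi.symm))]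
  rw [Xi.xiFun_apply, hs, Pi.single_apply, if_pos hi]
  split_ifs <;> norm_num

theorem xi_apply_ne {T : GolayPt → Fin 6} (hT : Xi.IsSextet T) {i j : GolayPt} (h : T i ≠ T j) :
    ((Xi.xiCo0 T hT • e8 j : leechLattice) : GolayPt → ℤ) i = 0 := by
  rw [Xi.xiCo0_smul, e8_coe]
  exact (xi_isB (T := T) j).2 i (fun h' => h (Xi.mem_fib.1 h'))

theorem xi_apply_eq {T : GolayPt → Fin 6} (hT : Xi.IsSextet T) {i j : GolayPt} (h : T i = T j) :
    ((Xi.xiCo0 T hT • e8 j : leechLattice) : GolayPt → ℤ) i ≠ 0 := by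
  rw [Xi.xiCo0_smul, e8_coe]
  rcases (xi_isB (T := T) j).1 i (Xi.mem_fib.2 h) with h' | h' <;> rw [h'] <;> norm_num

/-- An element of `N` maps `8 e_i` to some `±8 e_j`. -/
theorem exists_of_mem_N {n : Co0} (hn : n ∈ N) (i : GolayPt) :
    ∃ j, n • e8 i = e8 j ∨ n • e8 i = -e8 j := by
  obtain ⟨d, τ, rfl⟩ := exists_sign_perm hn
  refine ⟨(τ : Equiv.Perm GolayPt) i, ?_⟩
  rw [mul_smul, perm_smul_e8]
  by_cases h : (τ : Equiv.Perm GolayPt) i ∈ sup d
  · right; exact sign_smul_e8_of_mem h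
  · left; exact sign_smul_e8_of_notMem h

/-- Coordinates of `ε_c σ v`. -/
theorem sp_apply (c : golayCode) (σ : M24) (v : leechLattice) (k : GolayPt) :
    ((((signCo0 c * permCo0 σ) • v : leechLattice)) : GolayPt → ℤ) ((σ : Equiv.Perm GolayPt) k) =
      sgn ((c : GolayPt → ZMod 2) ((σ : Equiv.Perm GolayPt) k)) * (v : GolayPt → ℤ) k := by
  rw [mul_smul, signCo0_smul, signMap_apply]
  congr 1
  show (v : GolayPt → ℤ) ((σ : Equiv.Perm GolayPt).symm ((σ : Equiv.Perm GolayPt) k)) = _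
  rw [Equiv.symm_apply_apply]

/-- If `ξ⁻¹ (ε_c σ) ξ` is monomial then `ε_c σ` maps `ξ (8 e_i)` to some `± ξ (8 e_j)`. -/
theorem map_xi {T : GolayPt → Fin 6} (hT : Xi.IsSextet T) {m : Co0}
    (hm : (Xi.xiCo0 T hT)⁻¹ * m * Xi.xiCo0 T hT ∈ N) (i : GolayPt) :
    ∃ j, m • (Xi.xiCo0 T hT • e8 i) = Xi.xiCo0 T hT • e8 j ∨
      m • (Xi.xiCo0 T hT • e8 i) = -(Xi.xiCo0 T hT • e8 j) := by
  obtain ⟨j, h | h⟩ := exists_of_mem_N hm i
  · refine ⟨j, Or.inl ?_⟩
    rw [← h, mul_smul, mul_smul, smul_inv_smul]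
  · refine ⟨j, Or.inr ?_⟩
    rw [← Co0Mono.smul_neg, ← h, mul_smul, mul_smul, smul_inv_smul]

theorem neg_coe (v : leechLattice) (k : GolayPt) :
    ((-v : leechLattice) : GolayPt → ℤ) k = -(v : GolayPt → ℤ) k := rfl

/-- `σ` preserves the set of two tetrads. -/
theorem perm_tetrad {T : GolayPt → Fin 6} (hT : Xi.IsSextet T) {c : golayCode} {σ : M24}
    (hm : (Xi.xiCo0 T hT)⁻¹ * (signCo0 c * permCo0 σ) * Xi.xiCo0 T hT ∈ N) {k l : GolayPt}
    (hkl : T k = T l) : T ((σ : Equiv.Perm GolayPt) k) = T ((σ : Equiv.Perm GolayPt) l) := by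
  obtain ⟨j, hj⟩ := map_xi hT hm k
  have key : ∀ q, T q = T k → T ((σ : Equiv.Perm GolayPt) q) = T j := by
    intro q hq
    by_contra hne
    have h1 : (((Xi.xiCo0 T hT • e8 j : leechLattice)) : GolayPt → ℤ)
        ((σ : Equiv.Perm GolayPt) q) = 0 := xi_apply_ne hT hne
    have h2 := sp_apply c σ (Xi.xiCo0 T hT • e8 k) q
    have h3 : ((((signCo0 c * permCo0 σ) • (Xi.xiCo0 T hT • e8 k) : leechLattice)) :
        GolayPt → ℤ) ((σ : Equiv.Perm GolayPt) q) = 0 := by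
      rcases hj with h | h
      · rw [h, h1]
      · rw [h, neg_coe, h1, neg_zero]
    rw [h3] at h2
    have h4 := xi_apply_eq hT hq
    rcases zmod2_cases ((c : GolayPt → ZMod 2) ((σ : Equiv.Perm GolayPt) q)) with h | h
    · rw [h, sgn_zero, one_mul] at h2; exact h4 h2.symm
    · rw [h, sgn_one] at h2; exact h4 (by linarith)
  rw [key k rfl, key l hkl.symm]

/-- A permutation of the octad preserving all the pairs of complementary tetrads is trivial. -/
theorem fo_of_tetrads (ho : wt o = 8) {σ : M24} (hσ : σ ∈ So o)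
    (h : ∀ S : Finset GolayPt, S.card = 4 → S ⊆ sup o → ∀ k ∈ S, ∀ l ∈ S,
      (σ : Equiv.Perm GolayPt) k ∈ S → (σ : Equiv.Perm GolayPt) l ∈ S) : σ ∈ Fo o := by
  classical
  rw [mem_Fo]
  intro a ha
  by_contra hne
  set b := (σ : Equiv.Perm GolayPt) a with hb
  have hbo : b ∈ sup o := (So_apply hσ a).2 ha
  set a' := (σ : Equiv.Perm GolayPt).symm a with ha'
  have hσa' : (σ : Equiv.Perm GolayPt) a' = a := Equiv.apply_symm_apply _ _
  -- a third point
  obtain ⟨c, hc⟩ : ∃ c ∈ sup o, c ∉ ({a, b, a'} : Finset GolayPt) := by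
    by_contra hcon
    push Not at hcon
    have h1 : sup o ⊆ {a, b, a'} := hcon
    have h2 := Finset.card_le_card h1
    have h3 := Finset.card_le_three (a := a) (b := b) (c := a')
    have h4 : (sup o).card = 8 := ho
    omega
  obtain ⟨hco, hc⟩ := hc
  rw [Finset.mem_insert, Finset.mem_insert, Finset.mem_singleton, not_or, not_or] at hc
  obtain ⟨hca, hcb, hca'⟩ := hc
  have hσco : (σ : Equiv.Perm GolayPt) c ∈ sup o := (So_apply hσ c).2 hco
  have hσcb : (σ : Equiv.Perm GolayPt) c ≠ b := fun h' =>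
    hca ((σ : Equiv.Perm GolayPt).injective h')
  -- a tetrad containing `a, c, σ c` and not `b`
  obtain ⟨S, hS1, hS2, hS3⟩ := Finset.exists_subsuperset_card_eq
    (s := {a, c, (σ : Equiv.Perm GolayPt) c}) (t := (sup o).erase b) (n := 4)
    (by
      intro x hx
      rw [Finset.mem_insert, Finset.mem_insert, Finset.mem_singleton] at hx
      rw [Finset.mem_erase]
      rcases hx with rfl | rfl | rfl
      · exact ⟨Ne.symm hne, ha⟩
      · exact ⟨hcb, hco⟩
      · exact ⟨hσcb, hσco⟩)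
    (Finset.card_le_three.trans (by norm_num))
    (by
      rw [Finset.card_erase_of_mem hbo]
      show 4 ≤ wt o - 1
      omega)
  have hSo : S ⊆ sup o := hS2.trans (Finset.erase_subset _ _)
  have h1 := h S hS3 hSo c (hS1 (by simp)) a (hS1 (by simp)) (hS1 (by simp))
  have h2 := hS2 h1
  rw [Finset.mem_erase] at h2
  exact h2.1 rfl

/-- The sign part meets all tetrads in an even set. -/
theorem prod_sgn {T : GolayPt → Fin 6} (hT : Xi.IsSextet T) {c : golayCode} {σ : M24}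
    (hm : (Xi.xiCo0 T hT)⁻¹ * (signCo0 c * permCo0 σ) * Xi.xiCo0 T hT ∈ N)
    (hfix : ∀ k, T k = 0 → (σ : Equiv.Perm GolayPt) k = k) :
    ∏ k ∈ Xi.fib T 0, sgn ((c : GolayPt → ZMod 2) k) = 1 := by
  classical
  obtain ⟨i, hi⟩ : (Xi.fib T 0).Nonempty := by
    rw [← Finset.card_pos, hT.card]; norm_num
  have hi0 : T i = 0 := Xi.mem_fib.1 hi
  obtain ⟨j, hj⟩ := map_xi hT hm i
  have hval : ∀ k ∈ Xi.fib T 0, ∀ l ∈ Xi.fib T 0,
      ((Xi.xiCo0 T hT • e8 l : leechLattice) : GolayPt → ℤ) k = if k = l then 4 else -4 :=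
    fun k hk l hl => xi_apply hT (Xi.mem_fib.1 hl) (Xi.mem_fib.1 hk)
  have hprod : ∀ l ∈ Xi.fib T 0, ∏ k ∈ Xi.fib T 0,
      ((Xi.xiCo0 T hT • e8 l : leechLattice) : GolayPt → ℤ) k = -256 := by
    intro l hl
    rw [Finset.prod_congr rfl fun k hk => hval k hk l hl, ← Finset.mul_prod_erase _ _ hl,
      if_pos rfl, Finset.prod_congr rfl (g := fun _ => (-4 : ℤ)) fun k hk => ?_,
      Finset.prod_const, Finset.card_erase_of_mem hl, hT.card]
    · norm_num
    · rw [if_neg (Finset.ne_of_mem_erase hk)]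
  have hj0 : T j = 0 := by
    by_contra hne
    have h1 : (((Xi.xiCo0 T hT • e8 j : leechLattice)) : GolayPt → ℤ) i = 0 :=
      xi_apply_ne hT (fun h' => hne (h'.symm.trans hi0))
    have h2 := sp_apply c σ (Xi.xiCo0 T hT • e8 i) i
    rw [hfix i hi0] at h2
    have h3 : ((((signCo0 c * permCo0 σ) • (Xi.xiCo0 T hT • e8 i) : leechLattice)) :
        GolayPt → ℤ) i = 0 := by
      rcases hj with h | h
      · rw [h, h1]
      · rw [h, neg_coe, h1, neg_zero]
    rw [h3, hval i hi i hi, if_pos rfl] at h2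
    rcases zmod2_cases ((c : GolayPt → ZMod 2) i) with h | h
    · rw [h, sgn_zero] at h2; norm_num at h2
    · rw [h, sgn_one] at h2; norm_num at h2
  have hjm : j ∈ Xi.fib T 0 := Xi.mem_fib.2 hj0
  have hl : ∏ k ∈ Xi.fib T 0, ((((signCo0 c * permCo0 σ) • (Xi.xiCo0 T hT • e8 i) :
      leechLattice)) : GolayPt → ℤ) k =
      (∏ k ∈ Xi.fib T 0, sgn ((c : GolayPt → ZMod 2) k)) * (-256) := by
    rw [← hprod i hi, ← Finset.prod_mul_distrib]
    refine Finset.prod_congr rfl fun k hk => ?_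
    have h2 := sp_apply c σ (Xi.xiCo0 T hT • e8 i) k
    rw [hfix k (Xi.mem_fib.1 hk)] at h2
    exact h2
  have hr : ∏ k ∈ Xi.fib T 0, ((((signCo0 c * permCo0 σ) • (Xi.xiCo0 T hT • e8 i) :
      leechLattice)) : GolayPt → ℤ) k = -256 := by
    rcases hj with h | h
    · rw [h]; exact hprod j hjm
    · rw [h]
      have e1 : ∏ k ∈ Xi.fib T 0, ((-(Xi.xiCo0 T hT • e8 j) : leechLattice) : GolayPt → ℤ) k =
          ∏ k ∈ Xi.fib T 0, (-1) * ((Xi.xiCo0 T hT • e8 j : leechLattice) : GolayPt → ℤ) k :=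
        Finset.prod_congr rfl fun k _ => by rw [neg_coe]; ring
      rw [e1, Finset.prod_mul_distrib, hprod j hjm, Finset.prod_const, hT.card]
      norm_num
  rw [hr] at hl
  linarith

/-- A word meeting all the 4-subsets of `o` evenly contains `o` or is disjoint from it. -/
theorem const_of_tetrads (ho : wt o = 8) {c : golayCode}
    (h : ∀ S : Finset GolayPt, S.card = 4 → S ⊆ sup o →
      ∏ k ∈ S, sgn ((c : GolayPt → ZMod 2) k) = 1) :
    Disjoint (sup c) (sup o) ∨ Disjoint (sup (c + allOne)) (sup o) := by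
  classical
  have key : ∀ k ∈ sup o, ∀ l ∈ sup o, sgn ((c : GolayPt → ZMod 2) k) =
      sgn ((c : GolayPt → ZMod 2) l) := by
    intro k hk l hl
    by_cases hkl : k = l
    · rw [hkl]
    obtain ⟨S, hS, hS3⟩ := Finset.exists_subset_card_eq (s := ((sup o).erase k).erase l) (n := 3)
      (by
        rw [Finset.card_erase_of_mem (Finset.mem_erase.2 ⟨Ne.symm hkl, hl⟩),
          Finset.card_erase_of_mem hk]
        show 3 ≤ wt o - 1 - 1
        omega)
    have hkS : k ∉ S := fun h' => by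
      have := hS h'
      rw [Finset.mem_erase, Finset.mem_erase] at this
      exact this.2.1 rfl
    have hlS : l ∉ S := fun h' => by
      have := hS h'
      rw [Finset.mem_erase] at this
      exact this.1 rfl
    have hSo : S ⊆ sup o := hS.trans ((Finset.erase_subset _ _).trans (Finset.erase_subset _ _))
    have h1 := h (insert k S) (by rw [Finset.card_insert_of_notMem hkS, hS3])
      (Finset.insert_subset hk hSo)
    have h2 := h (insert l S) (by rw [Finset.card_insert_of_notMem hlS, hS3])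
      (Finset.insert_subset hl hSo)
    rw [Finset.prod_insert hkS] at h1
    rw [Finset.prod_insert hlS] at h2
    have h3 : ∏ x ∈ S, sgn ((c : GolayPt → ZMod 2) x) ≠ 0 := by
      intro h0
      rw [h0, mul_zero] at h1
      exact zero_ne_one h1
    exact mul_right_cancel₀ h3 (h1.trans h2.symm)
  obtain ⟨a, ha⟩ := nonempty_sup ho
  rcases zmod2_cases ((c : GolayPt → ZMod 2) a) with h0 | h0
  · left
    rw [Finset.disjoint_left]
    intro k hk hko
    have h1 := key k hko a ha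
    rw [h0, (mem_sup c k).1 hk, sgn_zero, sgn_one] at h1
    norm_num at h1
  · right
    rw [Finset.disjoint_left]
    intro k hk hko
    rw [sup_add_allOne, Finset.mem_compl] at hk
    have h1 := key k hko a ha
    rw [h0, (notMem_sup c k).1 hk, sgn_zero, sgn_one] at h1
    norm_num at h1

/-- **The kernel of the action on the frames of the octad.** -/
theorem mem_Z (ho : wt o = 8) {m : Co0} (hmC : m ∈ C0 o)
    (h : ∀ g ∈ C0 o, g * m * g⁻¹ ∈ N) : m ∈ Rh o ∨ m * signCo0 allOne ∈ Rh o := by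
  have hmN : m ∈ N := by
    have := h 1 (one_mem _)
    rwa [one_mul, inv_one, mul_one] at this
  obtain ⟨c, σ, hσ, rfl⟩ := mem_inf_iff.1 (⟨hmN, hmC⟩ : m ∈ N ⊓ C0 o)
  have hxi : ∀ (T : GolayPt → Fin 6) (hT : Xi.IsSextet T),
      (∀ i j, T i = T j → (o : GolayPt → ZMod 2) i = (o : GolayPt → ZMod 2) j) →
      (Xi.xiCo0 T hT)⁻¹ * (signCo0 c * permCo0 σ) * Xi.xiCo0 T hT ∈ N := by
    intro T hT hTo
    have := h (Xi.xiCo0 T hT)⁻¹ ((C0 o).inv_mem (xi_mem hT hTo))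
    rwa [inv_inv] at this
  have hFo : σ ∈ Fo o := by
    apply fo_of_tetrads ho hσ
    intro S hS hSo k hk l hl hσk
    obtain ⟨T, hT, hT0, hTo, -⟩ := exists_sextet ho hS hSo
    have hmem : ∀ q, q ∈ S ↔ T q = 0 := fun q => by rw [← hT0, Xi.mem_fib]
    have h1 := perm_tetrad hT (hxi T hT hTo) (((hmem k).1 hk).trans ((hmem l).1 hl).symm)
    rw [hmem, ← h1, ← hmem]
    exact hσk
  have hc : Disjoint (sup c) (sup o) ∨ Disjoint (sup (c + allOne)) (sup o) := by
    apply const_of_tetrads ho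
    intro S hS hSo
    obtain ⟨T, hT, hT0, hTo, -⟩ := exists_sextet ho hS hSo
    rw [← hT0]
    apply prod_sgn hT (hxi T hT hTo)
    intro k hk
    apply mem_Fo.1 hFo
    apply hSo
    rw [← hT0, Xi.mem_fib]
    exact hk
  rcases hc with hc | hc
  · left
    exact mem_Rh_sp hc hFo
  · right
    have h1 : signCo0 c * permCo0 σ * signCo0 allOne = signCo0 (c + allOne) * permCo0 σ := by
      rw [mul_assoc, sign_allOne_comm (permCo0 σ), ← mul_assoc, ← signCo0_add]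
    rw [h1]
    exact mem_Rh_sp hc hFo

/-! ### Simplicity -/

/-- The octad group is generated by `Fo o` and any nontrivial normal part. -/
theorem so_le (ho : wt o = 8) (D : Subgroup M24) (hn : ∀ g ∈ So o, ∀ d ∈ D, g * d * g⁻¹ ∈ D)
    (hF : Fo o ≤ D) {s : M24} (hsD : s ∈ D) (hs : s ∈ So o) (hsF : s ∉ Fo o) : So o ≤ D := by
  obtain ⟨p, hp⟩ := exists_notMem o (by omega)
  have H := OctadStabFinal.hyp (isOctad ho) hp
  obtain ⟨e⟩ := OctadStabAbs.nonempty_mulEquiv H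
  have hsimp : IsSimpleGroup (OctadStabAbs.L M24 (sup o) p) := by
    have : IsSimpleGroup (alternatingGroup (Fin 8)) :=
      alternatingGroup.isSimpleGroup (by simp)
    exact e.isSimpleGroup
  let f : OctadStabAbs.L M24 (sup o) p →* M24 :=
    { toFun := fun a => ⟨a, (OctadStabAbs.mem_L.1 a.2).1⟩
      map_one' := rfl
      map_mul' := fun _ _ => rfl }
  have hfS : ∀ a, f a ∈ So o := by
    intro a
    rw [mem_So, wordPerm_eq_iff]
    exact (OctadStabAbs.mem_L.1 a.2).2.1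
  -- every element of `So o` is in `Fo o * L`
  have hdec : ∀ σ ∈ So o, ∃ u ∈ Fo o, u * σ ∈ f.range := by
    intro σ hσ
    obtain ⟨u, hu, hup⟩ := fo_trans ho ((So_apply hσ p).not.2 hp) hp
    refine ⟨u, hu, ⟨⟨((u * σ : M24) : Equiv.Perm GolayPt), OctadStabAbs.mem_L.2
      ⟨(u * σ : M24).2, So_apply ((So o).mul_mem (Fo_le_So hu) hσ), ?_⟩⟩, rfl⟩⟩
    rw [coe_mul_apply, hup]
  have hnorm : (D.comap f).Normal := by
    constructor
    intro a ha g
    show f (g * a * g⁻¹) ∈ D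
    rw [map_mul, map_mul, map_inv]
    exact hn (f g) (hfS g) (f a) ha
  have htop : D.comap f = ⊤ := by
    rcases hnorm.eq_bot_or_eq_top with h | h
    · exfalso
      obtain ⟨u, hu, a, ha⟩ := hdec s hs
      have h1 : a ∈ D.comap f := by
        show f a ∈ D
        rw [ha]
        exact D.mul_mem (hF hu) hsD
      rw [h, Subgroup.mem_bot] at h1
      rw [h1, map_one] at ha
      apply hsF
      have h2 : s = u⁻¹ := (eq_inv_of_mul_eq_one_right ha.symm)
      rw [h2]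
      exact (Fo o).inv_mem hu
    · exact h
  intro σ hσ
  obtain ⟨u, hu, a, ha⟩ := hdec σ hσ
  have h1 : a ∈ D.comap f := by rw [htop]; exact Subgroup.mem_top _
  have h2 : u * σ ∈ D := by rw [← ha]; exact h1
  have h3 : σ = u⁻¹ * (u * σ) := by rw [inv_mul_cancel_left]
  rw [h3]
  exact D.mul_mem (D.inv_mem (hF hu)) h2

/-- `ξ⁻¹ ε_f ξ` is monomial and moves a point of `o` if `f ∩ o = {a, b}`. -/
theorem exists_move (ho : wt o = 8) : ∃ (g : Co0) (f c : golayCode) (σ : M24), g ∈ C0 o ∧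
    σ ∈ So o ∧ σ ∉ Fo o ∧ g * signCo0 f * g⁻¹ = signCo0 c * permCo0 σ := by
  classical
  obtain ⟨S, hSo, hS⟩ := exists_sub_four ho
  obtain ⟨T, hT, hT0, hTo, -⟩ := exists_sextet ho hS hSo
  obtain ⟨a, ha, b, hb, hab⟩ := Finset.one_lt_card.1 (show 1 < S.card by omega)
  obtain ⟨f, -, hf⟩ := exists_two ho (hSo ha) (hSo hb) hab
  have hmem : ∀ q, q ∈ S ↔ T q = 0 := fun q => by rw [← hT0, Xi.mem_fib]
  have ha0 := (hmem a).1 ha
  have hb0 := (hmem b).1 hb
  have hξ := xi_mem (o := o) hT hTo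
  have hfS : ∀ q ∈ S, (q ∈ sup f ↔ q = a ∨ q = b) := by
    intro q hq
    have h1 : q ∈ sup f ∩ sup o ↔ q ∈ ({a, b} : Finset GolayPt) := by rw [hf]
    rw [Finset.mem_inter, Finset.mem_insert, Finset.mem_singleton] at h1
    exact ⟨fun h => h1.1 ⟨h, hSo hq⟩, fun h => (h1.2 h).1⟩
  have hmap : signCo0 f • (Xi.xiCo0 T hT • e8 a) = Xi.xiCo0 T hT • e8 b := by
    apply Subtype.ext
    funext k
    rw [signCo0_smul, signMap_apply]
    by_cases hk : k ∈ S
    · have hk0 := (hmem k).1 hk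
      rw [xi_apply hT ha0 hk0, xi_apply hT hb0 hk0]
      by_cases hkf : k ∈ sup f
      · rw [(mem_sup f k).1 hkf, sgn_one]
        rcases (hfS k hk).1 hkf with rfl | rfl
        · rw [if_pos rfl, if_neg hab]; norm_num
        · rw [if_neg (Ne.symm hab), if_pos rfl]; norm_num
      · rw [(notMem_sup f k).1 hkf, sgn_zero]
        have h1 := (hfS k hk).not.1 hkf
        rw [not_or] at h1
        rw [if_neg h1.1, if_neg h1.2, one_mul]
    · have hk0 : T k ≠ 0 := fun h => hk ((hmem k).2 h)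
      rw [xi_apply_ne hT (by rw [ha0]; exact hk0), xi_apply_ne hT (by rw [hb0]; exact hk0),
        mul_zero]
  have h1 : (Xi.xiCo0 T hT)⁻¹ * signCo0 f * (Xi.xiCo0 T hT)⁻¹⁻¹ ∈ N ⊓ C0 o := by
    refine ⟨?_, (C0 o).mul_mem ((C0 o).mul_mem ((C0 o).inv_mem hξ) (sign_mem o f))
      ((C0 o).inv_mem ((C0 o).inv_mem hξ))⟩
    apply mem_N_of_map (i := a) (j := b)
    left
    rw [inv_inv, mul_smul, mul_smul, hmap, inv_smul_smul]
  obtain ⟨c, σ, hσ, hcσ⟩ := mem_inf_iff.1 h1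
  refine ⟨(Xi.xiCo0 T hT)⁻¹, f, c, σ, (C0 o).inv_mem hξ, hσ, ?_, hcσ⟩
  intro hF
  have h2 : (signCo0 c * permCo0 σ) • e8 a = e8 b := by
    rw [← hcσ, inv_inv, mul_smul, mul_smul, hmap, inv_smul_smul]
  rw [mul_smul, perm_smul_e8, mem_Fo.1 hF a (hSo ha)] at h2
  have h3 := congrArg (fun v : leechLattice => (v : GolayPt → ℤ) a) h2
  have h4 : ((e8 b : leechLattice) : GolayPt → ℤ) a = 0 := by
    rw [e8_coe, Pi.single_apply, if_neg hab]
  by_cases hac : a ∈ sup c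
  · rw [sign_smul_e8_of_mem hac] at h3
    have h5 : -((e8 a : leechLattice) : GolayPt → ℤ) a = ((e8 b : leechLattice) : GolayPt → ℤ) a := h3
    rw [h4, e8_coe, Pi.single_eq_same] at h5
    norm_num at h5
  · rw [sign_smul_e8_of_notMem hac] at h3
    have h5 : ((e8 a : leechLattice) : GolayPt → ℤ) a = ((e8 b : leechLattice) : GolayPt → ℤ) a := h3
    rw [h4, e8_coe, Pi.single_eq_same] at h5
    norm_num at h5

/-- Product of a subgroup `M` and a subgroup `A` normalising it. -/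
def prodSub (M A : Subgroup Co0) (hA : ∀ a ∈ A, ∀ m ∈ M, a * m * a⁻¹ ∈ M) : Subgroup Co0 where
  carrier := {g | ∃ m ∈ M, ∃ a ∈ A, g = m * a}
  one_mem' := ⟨1, M.one_mem, 1, A.one_mem, (mul_one _).symm⟩
  mul_mem' := by
    rintro _ _ ⟨m, hm, a, ha, rfl⟩ ⟨m', hm', a', ha', rfl⟩
    refine ⟨m * (a * m' * a⁻¹), M.mul_mem hm (hA a ha m' hm'), a * a', A.mul_mem ha ha', ?_⟩
    group
  inv_mem' := by
    rintro _ ⟨m, hm, a, ha, rfl⟩
    refine ⟨a⁻¹ * m⁻¹ * a⁻¹⁻¹, hA a⁻¹ (A.inv_mem ha) m⁻¹ (M.inv_mem hm), a⁻¹, A.inv_mem ha, ?_⟩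
    group

theorem mem_prodSub {M A : Subgroup Co0} (hA : ∀ a ∈ A, ∀ m ∈ M, a * m * a⁻¹ ∈ M) {g : Co0} :
    g ∈ prodSub M A hA ↔ ∃ m ∈ M, ∃ a ∈ A, g = m * a := Iff.rfl

/-- The sign changes. -/
def signs : Subgroup Co0 where
  carrier := Set.range signCo0
  one_mem' := ⟨0, signCo0_zero⟩
  mul_mem' := by
    rintro _ _ ⟨c, rfl⟩ ⟨d, rfl⟩
    exact ⟨c + d, signCo0_add c d⟩
  inv_mem' := by
    rintro _ ⟨c, rfl⟩
    exact ⟨c, (signCo0_inv c).symm⟩

/-- **The normal subgroups of `C0 o` containing `Rh o`.** -/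
theorem simple (ho : wt o = 8) (M : Subgroup Co0) (hMC : M ≤ C0 o)
    (hn : ∀ g ∈ C0 o, ∀ m ∈ M, g * m * g⁻¹ ∈ M) (hR : Rh o ≤ M) :
    (∀ m ∈ M, m ∈ Rh o ∨ m * signCo0 allOne ∈ Rh o) ∨ C0 o ≤ M := by
  by_cases hN : M ≤ N
  · left
    intro m hm
    exact mem_Z ho (hMC hm) fun g hg => hN (hn g hg m hm)
  right
  obtain ⟨m₀, hm₀, hm₀N⟩ := Set.not_subset.1 hN
  have hm₀' : m₀ ∈ M := hm₀
  have hm₀N' : m₀ ∉ N := hm₀N
  -- `C0 o = M N0`
  have hA1 : ∀ a ∈ N ⊓ C0 o, ∀ m ∈ M, a * m * a⁻¹ ∈ M := fun a ha m hm => hn a ha.2 m hm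
  have h1 : C0 o ≤ prodSub M (N ⊓ C0 o) hA1 := by
    apply le_of_nonmonomial (g := m₀)
    · intro c
      exact ⟨1, M.one_mem, signCo0 c, ⟨sign_mem_N c, sign_mem o c⟩, (one_mul _).symm⟩
    · intro σ hσ
      exact ⟨1, M.one_mem, permCo0 σ, ⟨perm_mem_N σ, perm_mem hσ⟩, (one_mul _).symm⟩
    · exact ho
    · exact ⟨m₀, hm₀', 1, one_mem _, (mul_one _).symm⟩
    · exact hMC hm₀'
    · exact hm₀N'
  -- `H = M A` is normalised by `C0 o`
  have hA2 : ∀ a ∈ signs, ∀ m ∈ M, a * m * a⁻¹ ∈ M := by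
    rintro _ ⟨c, rfl⟩ m hm
    exact hn _ (sign_mem o c) m hm
  set H := prodSub M signs hA2 with hH
  have hMH : M ≤ H := fun m hm => ⟨m, hm, 1, one_mem _, (mul_one _).symm⟩
  have hAH : ∀ c : golayCode, signCo0 c ∈ H := fun c =>
    ⟨1, M.one_mem, signCo0 c, ⟨c, rfl⟩, (one_mul _).symm⟩
  have hHn : ∀ g ∈ C0 o, ∀ x ∈ H, g * x * g⁻¹ ∈ H := by
    intro g hg x hx
    obtain ⟨m, hm, n, hn', rfl⟩ := h1 hg
    obtain ⟨m', hm', a, ⟨c, rfl⟩, rfl⟩ := hx
    obtain ⟨d, τ, hτ, rfl⟩ := mem_inf_iff.1 hn'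
    have e1 : (signCo0 d * permCo0 τ) * signCo0 c * (signCo0 d * permCo0 τ)⁻¹ =
        signCo0 (wordPerm τ c) := by
      rw [mul_inv_rev, signCo0_inv]
      calc signCo0 d * permCo0 τ * signCo0 c * ((permCo0 τ)⁻¹ * signCo0 d)
          = signCo0 d * (permCo0 τ * signCo0 c * (permCo0 τ)⁻¹) * signCo0 d := by group
        _ = signCo0 (wordPerm τ c) := by
            rw [perm_mul_sign_mul_inv, ← signCo0_add, ← signCo0_add, add_right_comm, add_self,
              zero_add]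
    have e2 : (m * (signCo0 d * permCo0 τ)) * (m' * signCo0 c) *
        (m * (signCo0 d * permCo0 τ))⁻¹ =
        m * ((signCo0 d * permCo0 τ) * m' * (signCo0 d * permCo0 τ)⁻¹) *
          ((signCo0 d * permCo0 τ) * signCo0 c * (signCo0 d * permCo0 τ)⁻¹) * m⁻¹ := by group
    rw [e2, e1]
    exact H.mul_mem (H.mul_mem (H.mul_mem (hMH hm) (hMH (hA1 _ hn' m' hm'))) (hAH _))
      (hMH (M.inv_mem hm))
  -- the permutations in `H`
  have hperm : ∀ σ ∈ So o, permCo0 σ ∈ H := by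
    obtain ⟨g, f, c, s, hg, hs, hsF, hgs⟩ := exists_move ho
    have hsH : permCo0 s ∈ H := by
      have h2 := hHn g hg _ (hAH f)
      rw [hgs] at h2
      have h3 := H.mul_mem (H.inv_mem (hAH c)) h2
      rwa [inv_mul_cancel_left] at h3
    have h3 : So o ≤ So o ⊓ H.comap permCo0 := by
      apply so_le ho (So o ⊓ H.comap permCo0) _ _ (s := s) ⟨hs, hsH⟩ hs hsF
      · rintro a ha d ⟨hd1, hd2⟩
        refine ⟨(So o).mul_mem ((So o).mul_mem ha hd1) ((So o).inv_mem ha), ?_⟩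
        show permCo0 (a * d * a⁻¹) ∈ H
        rw [map_mul, map_mul, map_inv]
        exact hHn _ (perm_mem ha) _ hd2
      · intro u hu
        exact ⟨Fo_le_So hu, hMH (hR (perm_mem_Rh hu))⟩
    exact fun σ hσ => (h3 hσ).2
  have hCH : C0 o ≤ H := le_of_nonmonomial hAH hperm ho (hMH hm₀') (hMC hm₀') hm₀N'
  -- `H / M` is abelian
  have hcomm : ⁅H, H⁆ ≤ M := by
    rw [Subgroup.commutator_le]
    rintro _ ⟨m, hm, _, ⟨c, rfl⟩, rfl⟩ _ ⟨m', hm', _, ⟨d, rfl⟩, rfl⟩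
    have hcd : signCo0 c * signCo0 d = signCo0 d * signCo0 c := by
      rw [← signCo0_add, ← signCo0_add, add_comm]
    have e3 : signCo0 c * signCo0 d * (signCo0 c)⁻¹ = signCo0 d := by
      rw [hcd, mul_inv_cancel_right]
    have e2 : ⁅m * signCo0 c, m' * signCo0 d⁆ =
        m * (signCo0 c * m' * (signCo0 c)⁻¹) * ((signCo0 c * signCo0 d * (signCo0 c)⁻¹) * m⁻¹ *
          (signCo0 c * signCo0 d * (signCo0 c)⁻¹)⁻¹) *
          ((signCo0 c * signCo0 d * (signCo0 c)⁻¹) * (signCo0 d)⁻¹) * m'⁻¹ := by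
      rw [commutatorElement_def]; group
    rw [e2, e3, mul_inv_cancel, mul_one]
    exact M.mul_mem (M.mul_mem (M.mul_mem hm (hn _ (sign_mem o c) _ hm'))
      (hn _ (sign_mem o d) _ (M.inv_mem hm))) (M.inv_mem hm')
  calc C0 o ≤ ⁅C0 o, C0 o⁆ := le_comm ho
    _ ≤ ⁅H, H⁆ := Subgroup.commutator_mono hCH hCH
    _ ≤ M := hcomm

end Cfsg.Agent.KFacts.Co1.Simp
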