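import Cfsg.Agent.KFacts.M24Two.CentW
import Cfsg.Agent.SporadicA.Norm64
import Cfsg.Agent.SporadicA.Co1Simple
import Cfsg.Agent.CoOneType.InvMain
import Cfsg.Agent.CoOneType.CoOneE
import Cfsg.Agent.Leech.Co0Elts
import Cfsg.Agent.S0394

/-!
# The class 2B of `Co1`: `81` does not divide the order of the centralizer (helper907)

`k ∈ Co0` with `k² = -1`. A nontrivial element of order 3 of `Co0` commuting with `k` fixes no minimal vector `v`
(it fixes `v + k v` and `v - k v`, which lie in one cross, so it is monomial together with `k`; an element of order 3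
of `M24` commuting with an involution without fixed points has no fixed point). As `81` does not divide 196560, the
centralizer of the image of `k` in `Co1` has no subgroup of order 81.
-/

set_option autoImplicit false
open Cfsg
open scoped Pointwise

namespace Cfsg.Agent.KFacts.Co1.TwoBThree

section M24

open Cfsg.Agent.SporadicA.GolayBase Cfsg.Agent.SporadicA.GolayPerm
open Cfsg.Agent.SporadicStructure.M24El Cfsg.Agent.KFacts.M24Two
open Cfsg.Agent.KFacts.M24Two.CentW (w ww w_ne QP TP qe te qe_ok te_ok qe_comm te_comm w_qe card_Cw)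

theorem chk_q : ∀ i < 24, ∃ m < 64, ∃ j < 120, papp (TP.getD j idP) (papp (QP.getD m idP) i) = 0 := by
  decide +kernel

/-- `C(w)` is transitive on the 24 points. -/
theorem trans_w (p : GolayPt) : ∃ c : M24, c * w = w * c ∧ c • p = pt 0 := by
  obtain ⟨m, hm, j, hj, h⟩ := chk_q (idx p) (idx_lt p)
  refine ⟨te j * qe m, ?_, ?_⟩
  · have h1 : qe m * w = w * qe m := by rw [w_qe]; exact qe_comm hm (by norm_num)
    rw [mul_assoc, h1, ← mul_assoc, te_comm hj, mul_assoc]
  · apply idx_injective
    rw [mul_smul]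
    unfold te qe
    rw [idx_el_smul (te_ok j), idx_el_smul (qe_ok m), h, idx_pt (by norm_num)]

/-- An element of order 3 of `C(w)` has no fixed point. -/
theorem three_fix_w {g : M24} (hc : g * w = w * g) (h3 : g ^ 3 = 1) {p : GolayPt} (hp : g • p = p) : g = 1 := by
  by_contra hg
  set C := Subgroup.centralizer ({w} : Set M24) with hC
  have horb : (MulAction.orbit C p) = Set.univ := by
    rw [Set.eq_univ_iff_forall]
    intro q
    obtain ⟨c, hc1, hc2⟩ := trans_w p
    obtain ⟨d, hd1, hd2⟩ := trans_w q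
    have hcC : c ∈ C := Subgroup.mem_centralizer_singleton_iff.2 hc1
    have hdC : d ∈ C := Subgroup.mem_centralizer_singleton_iff.2 hd1
    refine ⟨⟨d, hdC⟩⁻¹ * ⟨c, hcC⟩, ?_⟩
    show (d⁻¹ * c) • p = q
    rw [mul_smul, hc2, ← hd2, inv_smul_smul]
  have h1 := MulAction.index_stabilizer C p
  rw [horb, Set.ncard_univ, Nat.card_eq_fintype_card, Cfsg.Agent.Leech.Code.card_golayPt] at h1
  have h2 := (MulAction.stabilizer C p).card_mul_index
  rw [h1, hC, card_Cw] at h2
  have h4 : orderOf (⟨⟨g, Subgroup.mem_centralizer_singleton_iff.2 hc⟩, hp⟩ : MulAction.stabilizer C p) = 3 := by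
    apply orderOf_eq_prime
    · exact Subtype.ext (Subtype.ext h3)
    · intro h
      exact hg (congrArg (fun x : MulAction.stabilizer C p => ((x : C) : M24)) h)
  have h5 : 3 ∣ Nat.card (MulAction.stabilizer C p) := h4 ▸ orderOf_dvd_natCard _
  have h6 : Nat.card (MulAction.stabilizer C p) = 320 := by
    rw [hC]; omega
  rw [h6] at h5
  omega

/-- An element of order 3 of `M24` commuting with an involution without fixed points has no fixed point. -/
theorem three_fix {g b : M24} (hb : b * b = 1) (hf : ∀ p : GolayPt, b • p ≠ p) (hc : g * b = b * g)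
    (h3 : g ^ 3 = 1) {p : GolayPt} (hp : g • p = p) : g = 1 := by
  have hb1 : b ≠ 1 := by
    rintro rfl
    exact hf p (one_smul _ _)
  obtain ⟨x, hx⟩ : ∃ x : M24, x * b * x⁻¹ = w := by
    obtain ⟨x, hx⟩ := Count.conj_w_of_no_fix hb hb1 hf
    obtain ⟨y, hy⟩ := Count.conj_w_of_no_fix ww w_ne CentW.w_no_fix
    refine ⟨y⁻¹ * x, ?_⟩
    calc y⁻¹ * x * b * (y⁻¹ * x)⁻¹ = y⁻¹ * (x * b * x⁻¹) * y := by group
      _ = y⁻¹ * (y * w * y⁻¹) * y := by rw [hx, hy]
      _ = w := by group
  have h1 : x * g * x⁻¹ = 1 := by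
    refine three_fix_w (p := x • p) ?_ ?_ ?_
    · rw [← hx]
      calc x * g * x⁻¹ * (x * b * x⁻¹) = x * (g * b) * x⁻¹ := by group
        _ = x * (b * g) * x⁻¹ := by rw [hc]
        _ = _ := by group
    · rw [conj_pow, h3]; group
    · rw [mul_smul, mul_smul, inv_smul_smul, hp]
  calc g = x⁻¹ * (x * g * x⁻¹) * x := by group
    _ = 1 := by rw [h1]; group

end M24

open Cfsg.Agent.SporadicA.Co0Mono Cfsg.Agent.SporadicA.Co1Simple
open Cfsg.Agent.SporadicStructure.Co0Base (e8 e8_coe)
open Cfsg.Agent.CoOneType.InvMain (sp_inj sp_mul)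

/-- An element of order 3 commuting with `k`, `k² = -1`, fixes no minimal vector. -/
theorem no_three {k g : Co0} (hk : k * k = signCo0 allOne) (hc : g * k = k * g) (h3 : g ^ 3 = 1)
    {v : leechLattice} (hv : sqNorm (v : GolayPt → ℤ) = 32) (hg : g • v = v) : g = 1 := by
  have hkk : ∀ u : leechLattice, k • k • u = -u := fun u => by rw [← mul_smul, hk, allOne_smul]
  have hgk : g • k • v = k • v := by rw [← mul_smul, hc, mul_smul, hg]
  have hn0 : dotInt (v : GolayPt → ℤ) ((k • v : leechLattice) : GolayPt → ℤ) = 0 := by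
    have h1 := Cfsg.Agent.Leech.Co0Elts.dotInt_smul k v (k • v)
    rw [hkk] at h1
    have h2 : ((-v : leechLattice) : GolayPt → ℤ) = -(v : GolayPt → ℤ) := rfl
    rw [h2, Cfsg.Agent.Leech.Basic.dotInt_neg_right, Cfsg.Agent.Leech.Basic.dotInt_comm] at h1
    omega
  have hw : sqNorm ((v + k • v : leechLattice) : GolayPt → ℤ) = 64 := by
    rw [AddSubgroup.coe_add, Cfsg.Agent.Leech.Basic.sqNorm_add, hn0, sqNorm_smul, hv]
    norm_num
  obtain ⟨h, hh⟩ := Cfsg.Agent.SporadicA.Norm64.orbit64 _ (e8 none) hw (sqNorm_e8 _)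
  set g' := h * g * h⁻¹ with hg'
  set k' := h * k * h⁻¹ with hk'
  have e1 : g' • e8 none = e8 none := by
    rw [hg', mul_smul, mul_smul, ← hh, inv_smul_smul, Cfsg.Agent.SporadicA.Co0Mono.smul_add g, hg, hgk]
  have e2 : k' • e8 none = -e8 none + (2 : ℕ) • (h • k • v) := by
    rw [hk', mul_smul, mul_smul, ← hh, inv_smul_smul, Cfsg.Agent.SporadicA.Co0Mono.smul_add k, hkk, Cfsg.Agent.SporadicA.Co0Mono.smul_add h, Cfsg.Agent.SporadicA.Co0Mono.smul_add h,
      Cfsg.Agent.SporadicA.Co0Mono.smul_neg]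
    abel
  have hk'c : k' • e8 none ∈ crossSet := by
    have h1 : -(k' • e8 none) ∈ crossSet := by
      refine mem_crossSet_of_congr _ (-(h • k • v)) none ?_ ?_
      · have h2 : ((-(k' • e8 none) : leechLattice) : GolayPt → ℤ) =
            -((k' • e8 none : leechLattice) : GolayPt → ℤ) := rfl
        rw [h2, Cfsg.Agent.Leech.Basic.sqNorm_neg, sqNorm_smul, sqNorm_e8]
      · rw [e2]
        abel
    have h2 := neg_mem_crossSet h1
    rwa [neg_neg] at h2
  have hgN : g' ∈ N := by
    apply mem_N_of_e8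
    intro i
    obtain ⟨u, hu⟩ := e8_sub i none
    refine mem_crossSet_of_congr _ (g' • u) none ?_ ?_
    · rw [sqNorm_smul, sqNorm_e8]
    · rw [hu, Cfsg.Agent.SporadicA.Co0Mono.smul_add g', e1, smul_nsmul]
  have hkN : k' ∈ N := by
    apply mem_N_of_e8
    intro i
    obtain ⟨u, hu⟩ := e8_sub i none
    obtain ⟨j, hj⟩ := (mem_crossSet _).1 hk'c
    rcases hj with hj | hj
    · refine mem_crossSet_of_congr _ (k' • u) j ?_ ?_
      · rw [sqNorm_smul, sqNorm_e8]
      · rw [hu, Cfsg.Agent.SporadicA.Co0Mono.smul_add k', hj, smul_nsmul]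
    · have h1 : -(k' • e8 i) ∈ crossSet := by
        refine mem_crossSet_of_congr _ (-(k' • u)) j ?_ ?_
        · have h2 : ((-(k' • e8 i) : leechLattice) : GolayPt → ℤ) =
              -((k' • e8 i : leechLattice) : GolayPt → ℤ) := rfl
          rw [h2, Cfsg.Agent.Leech.Basic.sqNorm_neg, sqNorm_smul, sqNorm_e8]
        · rw [hu, Cfsg.Agent.SporadicA.Co0Mono.smul_add k', hj, smul_nsmul]
          abel
      have h2 := neg_mem_crossSet h1
      rwa [neg_neg] at h2
  obtain ⟨c, σ, hσ⟩ := exists_sign_perm hgN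
  obtain ⟨d, τ, hτ⟩ := exists_sign_perm hkN
  have hcomm : g' * k' = k' * g' := by
    rw [hg', hk']
    calc h * g * h⁻¹ * (h * k * h⁻¹) = h * (g * k) * h⁻¹ := by group
      _ = h * (k * g) * h⁻¹ := by rw [hc]
      _ = _ := by group
  have hστ : σ * τ = τ * σ := by
    have h1 := hcomm
    rw [hσ, hτ, sp_mul, sp_mul] at h1
    exact (sp_inj h1).2
  have hg3 : g' ^ 3 = 1 := by rw [hg', conj_pow, h3]; group
  have hσ3 : σ ^ 3 = 1 := by
    obtain ⟨e, he⟩ := sign_perm_pow c σ 3
    rw [← hσ, hg3] at he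
    exact perm_eq_one he.symm
  have hk2 : k' * k' = signCo0 allOne := by
    have h1 : k' * k' = h * (k * k) * h⁻¹ := by rw [hk']; group
    rw [h1, hk, Subgroup.mem_center_iff.1 allOne_mem_center h, mul_inv_cancel_right]
  have hτ2 : τ * τ = 1 := by
    have h1 := hk2
    rw [hτ, sp_mul] at h1
    have h2 : signCo0 allOne = signCo0 allOne * permCo0 1 := by rw [map_one, mul_one]
    rw [h2] at h1
    exact (sp_inj h1).2
  have hτf : ∀ p : GolayPt, τ • p ≠ p := by
    intro p hp
    have hp' : (τ : Equiv.Perm GolayPt) p = p := hp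
    have h1 : k' • e8 p = e8 p ∨ k' • e8 p = -e8 p := by
      rw [hτ, mul_smul, perm_smul_e8, hp']
      exact sgn_smul_e8 d p
    have h2 : k' • k' • e8 p = -e8 p := by rw [← mul_smul, hk2, allOne_smul]
    have h4 : k' • k' • e8 p = e8 p := by
      rcases h1 with h1 | h1
      · rw [h1, h1]
      · rw [h1, Cfsg.Agent.SporadicA.Co0Mono.smul_neg, h1, neg_neg]
    rw [h4] at h2
    exact e8_ne_neg p p h2
  have hσp : σ • (none : GolayPt) = none := by
    have h1 := e1
    rw [hσ, mul_smul, perm_smul_e8] at h1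
    rcases sgn_smul_e8 c ((σ : Equiv.Perm GolayPt) none) with h2 | h2
    · rw [h2] at h1
      exact e8_inj h1
    · rw [h2] at h1
      exact absurd h1.symm (e8_ne_neg _ _)
  have hσ1 : σ = 1 := three_fix hτ2 hτf hστ hσ3 hσp
  have hg1 : g' = 1 := by
    have h1 : g' = signCo0 c := by rw [hσ, hσ1, map_one, mul_one]
    have h2 : g' * g' = 1 := by rw [h1, signCo0_mul_self]
    calc g' = g' ^ 3 * (g' * g')⁻¹ := by group
      _ = 1 := by rw [hg3, h2]; group
  calc g = h⁻¹ * g' * h := by rw [hg']; group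
    _ = 1 := by rw [hg1]; group

/-- The minimal vectors. -/
abbrev Mn : Type := {v : leechLattice // sqNorm (v : GolayPt → ℤ) = 32}

theorem card_Mn : Nat.card Mn = 196560 := by
  rw [← Cfsg.Agent.S0394.result, ← Nat.card_coe_set_eq]
  exact Nat.card_congr ⟨fun w => ⟨w.1.1, w.1.2, w.2⟩, fun x => ⟨⟨x.1, x.2.1⟩, x.2.2⟩, fun _ => rfl, fun _ => rfl⟩

instance : MulAction Co0 Mn where
  smul g v := ⟨g • v.1, by rw [sqNorm_smul, v.2]⟩
  one_smul v := Subtype.ext (one_smul _ _)
  mul_smul g h v := Subtype.ext (mul_smul _ _ _)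

theorem coe_smul_Mn (g : Co0) (v : Mn) : ((g • v : Mn) : leechLattice) = g • (v : leechLattice) := rfl

/-- No subgroup of order 81 of `Co0` commutes with `k`, `k² = -1`. -/
theorem no_81 {k : Co0} (hk : k * k = signCo0 allOne) (K : Subgroup Co0) (hc : ∀ g ∈ K, g * k = k * g)
    (hK : Nat.card K = 81) : False := by
  have hfin : Finite K := Nat.finite_of_card_ne_zero (by rw [hK]; norm_num)
  have hfree : ∀ b : Mn, MulAction.stabilizer K b = ⊥ := by
    intro b
    by_contra hne
    have h3 : IsPGroup 3 (MulAction.stabilizer K b) := by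
      have h1 : IsPGroup 3 K := IsPGroup.of_card (n := 4) (by rw [hK]; norm_num)
      exact h1.to_subgroup _
    have : Fact (Nat.Prime 3) := ⟨Nat.prime_three⟩
    have hnt : Nontrivial (MulAction.stabilizer K b) := (Subgroup.nontrivial_iff_ne_bot _).2 hne
    have h4 : 3 ∣ Nat.card (MulAction.stabilizer K b) := by
      obtain ⟨n, h5⟩ := IsPGroup.iff_card.1 h3
      rw [h5]
      apply dvd_pow_self 3
      rintro rfl
      rw [pow_zero] at h5
      have := Finite.one_lt_card (α := MulAction.stabilizer K b)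
      omega
    obtain ⟨x, hx⟩ := exists_prime_orderOf_dvd_card' 3 h4
    have hx3 : (((x : K) : Co0)) ^ 3 = 1 := by
      have h5 := pow_orderOf_eq_one x
      rw [hx] at h5
      exact congrArg (fun y : MulAction.stabilizer K b => ((y : K) : Co0)) h5
    have hxb : ((x : K) : Co0) • (b : leechLattice) = b := congrArg Subtype.val x.2
    have h6 := no_three hk (hc _ (x : K).2) hx3 b.2 hxb
    have h7 : x = 1 := Subtype.ext (Subtype.ext h6)
    rw [h7, orderOf_one] at hx
    omega
  have h1 := Nat.card_congr (MulAction.selfEquivOrbitsQuotientProd (G := K) (X := Mn) hfree)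
  rw [card_Mn, Nat.card_prod, hK] at h1
  omega

open Cfsg.Agent.CoOneType.CoOneE (pr pr_surjective pr_eq_iff)

/-- **`81` does not divide the order of the centralizer of an involution of class 2B of `Co1`.** -/
theorem not_dvd {k : Co0} (hk : k * k = signCo0 allOne) :
    ¬ 81 ∣ Nat.card (Subgroup.centralizer ({pr k} : Set Spor.Co1)) := by
  intro h81
  set D := (Subgroup.centralizer ({pr k} : Set Spor.Co1)).comap pr with hD
  have h1 : 81 ∣ Nat.card D := by
    refine h81.trans ?_
    have h2 := Subgroup.card_map_dvd (H := D) pr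
    rwa [hD, Subgroup.map_comap_eq_self_of_surjective pr_surjective] at h2
  have : Fact (Nat.Prime 3) := ⟨Nat.prime_three⟩
  obtain ⟨K, hK⟩ := Sylow.exists_subgroup_card_pow_prime (G := D) 3 (n := 4) (by norm_num; exact h1)
  refine no_81 hk (K.map D.subtype) ?_ ?_
  · rintro _ ⟨x, hx, rfl⟩
    have hx1 : ((x : Co0)) * k = k * x ∨ (x : Co0) * k = k * x * signCo0 allOne := by
      have h2 : pr (x : Co0) * pr k = pr k * pr (x : Co0) := Subgroup.mem_centralizer_singleton_iff.1 x.2
      rw [← map_mul, ← map_mul] at h2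
      exact (pr_eq_iff _ _).1 h2.symm
    have hx81 : (x : Co0) ^ 81 = 1 := by
      have h2 : (⟨x, hx⟩ : K) ^ 81 = 1 := by
        have h3 := pow_card_eq_one' (x := (⟨x, hx⟩ : K))
        rwa [hK, show 3 ^ 4 = 81 by norm_num] at h3
      exact congrArg (fun y : K => ((y : D) : Co0)) h2
    show (x : Co0) * k = k * x
    rcases hx1 with h2 | h2
    · exact h2
    · have hz : ∀ y : Co0, y * signCo0 allOne = signCo0 allOne * y :=
        fun y => Subgroup.mem_center_iff.1 allOne_mem_center y
      have h3 : (x : Co0) ^ 2 * k = k * (x : Co0) ^ 2 := by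
        calc (x : Co0) ^ 2 * k = x * (x * k) := by rw [pow_two, mul_assoc]
          _ = x * (k * x * signCo0 allOne) := by rw [h2]
          _ = (x * k) * (x * signCo0 allOne) := by group
          _ = k * x * signCo0 allOne * (x * signCo0 allOne) := by rw [h2]
          _ = k * x * (signCo0 allOne * x) * signCo0 allOne := by group
          _ = k * x * (x * signCo0 allOne) * signCo0 allOne := by rw [← hz x]
          _ = k * x ^ 2 * (signCo0 allOne * signCo0 allOne) := by
            rw [pow_two]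
            simp only [mul_assoc]
          _ = k * (x : Co0) ^ 2 := by rw [signCo0_mul_self, mul_one]
      have h4 : (x : Co0) = ((x : Co0) ^ 2) ^ 41 := by
        rw [← pow_mul, show 2 * 41 = 81 + 1 by norm_num, pow_succ, hx81, one_mul]
      have h5 : Commute ((x : Co0) ^ 2) k := h3
      rw [h4]
      exact (h5.pow_left 41).eq
  · rw [Subgroup.card_map_of_injective D.subtype_injective, hK]
    norm_num

end Cfsg.Agent.KFacts.Co1.TwoBThree
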