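import Cfsg.Agent.KFacts.Co1.YData
import Cfsg.Agent.KFacts.Co1.InCo1
import Cfsg.Agent.StdG24.CloInv
import Cfsg.Agent.StdG24.ExCent

/-!
# The `y`-trick for `Co1`: elements with large centraliser in the extraspecial group (helper281)

`Big o x` : `x` is not in `R = RCo1 o` and `|C_R(x)| ≥ 128`. Then `x` has at most four conjugates
under `R` (`le_four`).
-/

set_option autoImplicit false
open Cfsg
open scoped Pointwise

namespace Cfsg.Agent.KFacts.Co1.YBig

open Cfsg.Agent.SporadicA.GolayBase Cfsg.Agent.SporadicA.GolayPerm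
open Cfsg.Agent.SporadicStructure.M24El Cfsg.Agent.SporadicA.Co0Mono
open Cfsg.Agent.SporadicA.Co1Simple
open Cfsg.Agent Cfsg.Agent.Co2Type.Mono
open Cfsg.Agent.CoOneType.SignFacts (sup mem_sup notMem_sup wt sup_mem sign_allOne_comm wt_add_allOne
  sup_add_allOne)
open Cfsg.Agent.CoOneType.CentOctad (C0 mem_C0 sign_mem perm_mem xi_mem)
open Cfsg.Agent.CoOneType.ClosingFacts (mk mk_mul mk_inv exists_mk mk_eq_one mk_eq mk_add_allOne)
open Cfsg.Agent.CoOneType.InvMain (sp_inj sp_mul conj_by_perm conj_by_sign cd_all)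
open Cfsg.Agent.KFacts.Co1.OctGen Cfsg.Agent.KFacts.Co1.OctPts Cfsg.Agent.KFacts.Co1.RHat
open Cfsg.Agent.KFacts.Co1.InCo1
open Cfsg.Agent.J4.M24InvolData (P1 P2)
open Cfsg.Agent.J4.M24Invol (ok_P1 ok_P2 invol_conj)
open YData
open Cfsg.Agent.StdG24.CloInv (neg neg_comm mo_idP mk_neg mk_neg_mul isCode_all)

/-! ### Conjugation of `RCo1` -/

theorem Rh_map {o o' : golayCode} {g r : Co0} (hg : g * signCo0 o * g⁻¹ = signCo0 o')
    (hr : r ∈ Rh o) : g * r * g⁻¹ ∈ Rh o' := by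
  intro x hx
  have h1 : signCo0 o • (g⁻¹ • x) = -(g⁻¹ • x) := by
    have h2 : signCo0 o * g⁻¹ = g⁻¹ * signCo0 o' := by rw [← hg]; group
    rw [← mul_smul, h2, mul_smul, hx, Cfsg.Agent.SporadicA.Co0Mono.smul_neg]
  rw [mul_smul, mul_smul, mem_Rh.1 hr _ h1, smul_inv_smul]

theorem RCo1_map {o o' : golayCode} {g : Co0} (hg : g * signCo0 o * g⁻¹ = signCo0 o')
    {x : Spor.Co1} (hx : x ∈ RCo1 o) : mk g * x * (mk g)⁻¹ ∈ RCo1 o' := by
  obtain ⟨r, hr, rfl⟩ := mem_RCo1.1 hx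
  exact mem_RCo1.2 ⟨g * r * g⁻¹, Rh_map hg hr, rfl⟩

theorem conj_symm {o o' : golayCode} {g : Co0} (hg : g * signCo0 o * g⁻¹ = signCo0 o') :
    g⁻¹ * signCo0 o' * g⁻¹⁻¹ = signCo0 o := by
  rw [← hg]; group

theorem map_R {o o' : golayCode} {g : Co0} (hg : g * signCo0 o * g⁻¹ = signCo0 o') :
    (RCo1 o).map (MulAut.conj (mk g)).toMonoidHom = RCo1 o' := by
  apply le_antisymm
  · rintro _ ⟨x, hx, rfl⟩
    exact RCo1_map hg hx
  · intro y hy
    refine ⟨mk g⁻¹ * y * (mk g⁻¹)⁻¹, RCo1_map (conj_symm hg) hy, ?_⟩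
    show mk g * (mk g⁻¹ * y * (mk g⁻¹)⁻¹) * (mk g)⁻¹ = y
    rw [mk_inv]
    group

instance : Finite Co0 := CoOneType.FrameFix.finite_co0

instance : Finite Spor.Co1 := by
  have : Finite (Co0 ⧸ Subgroup.center Co0) := inferInstance
  exact this

theorem sup_cd {m : ℕ} (hm : isCode m = true) : sup (cd m) = fin m := by
  ext i
  rw [mem_sup, coe_cd hm, word_apply, mem_fin]
  split_ifs with h1 <;> simp [h1]

theorem wt_cd {m : ℕ} (hm : isCode m = true) : wt (cd m) = popcount m := by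
  show (sup (cd m)).card = _
  rw [sup_cd hm, card_fin]

theorem inter_cd {m n : ℕ} (hm : isCode m = true) (hn : isCode n = true) :
    (sup (cd m) ∩ sup (cd n)).card = popcount (m &&& n) := by
  rw [sup_cd hm, sup_cd hn, ← card_fin]
  congr 1
  ext i
  rw [Finset.mem_inter, mem_fin, mem_fin, mem_fin, Nat.testBit_and, Bool.and_eq_true]

theorem card_RF : Nat.card (RCo1 (cd F)) = 512 := by
  have h : RCo1 (cd F) = StdG24.ExInst.Q := by
    ext c
    rw [mem_RCo1, StdG24.ExNorm.mem_Q_iff]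
    constructor
    · rintro ⟨r, hr, rfl⟩
      refine ⟨r, rfl, ?_⟩
      intro i hi
      apply mem_Rh_iff.1 hr i
      rw [sup_cd isCode_F]
      exact hi
    · rintro ⟨r, rfl, hr⟩
      refine ⟨r, ?_, rfl⟩
      rw [mem_Rh_iff]
      intro i hi
      rw [sup_cd isCode_F] at hi
      exact hr i hi
  rw [h]
  exact StdG24.ExInst.card_Q

theorem wt_F : wt (cd F) = 8 := by rw [wt_cd isCode_F]; exact popcount_F

theorem exists_to_F {o : golayCode} (ho : wt o = 8) : ∃ g : M24, wordPerm g o = cd F :=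
  CoOneType.InvMain.exists_perm_octad (c := o) (d := cd F) ⟨sup_mem o, ho⟩ ⟨sup_mem _, wt_F⟩

theorem card_R {o : golayCode} (ho : wt o = 8) : Nat.card (RCo1 o) = 512 := by
  obtain ⟨g, hg⟩ := exists_to_F ho
  have h1 : permCo0 g * signCo0 o * (permCo0 g)⁻¹ = signCo0 (cd F) := by
    rw [perm_mul_sign_mul_inv, hg]
  rw [← card_RF, ← map_R h1]
  exact Nat.card_congr ((RCo1 o).equivMapOfInjective _ (MulAut.conj (mk (permCo0 g))).injective).toEquiv

/-! ### Elements with large centraliser in `RCo1` -/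

/-- `x ∉ R` and `|C_R(x)| ≥ 128`. -/
def Big (o : golayCode) (x : Spor.Co1) : Prop :=
  x ∉ RCo1 o ∧ 128 ≤ Nat.card ↥(RCo1 o ⊓ Subgroup.centralizer ({x} : Set Spor.Co1))

theorem Big.conj {o o' : golayCode} {g : Co0} (hg : g * signCo0 o * g⁻¹ = signCo0 o')
    {x : Spor.Co1} (h : Big o x) : Big o' (mk g * x * (mk g)⁻¹) := by
  refine ⟨fun h1 => h.1 ?_, h.2.trans ?_⟩
  · have h2 := RCo1_map (conj_symm hg) h1
    rw [mk_inv] at h2
    have e : (mk g)⁻¹ * (mk g * x * (mk g)⁻¹) * (mk g)⁻¹⁻¹ = x := by group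
    rwa [e] at h2
  · rw [Nat.card_congr ((RCo1 o ⊓ Subgroup.centralizer ({x} : Set Spor.Co1)).equivMapOfInjective
      (MulAut.conj (mk g)).toMonoidHom (MulAut.conj (mk g)).injective).toEquiv]
    apply Subgroup.card_le_of_le
    rintro _ ⟨y, ⟨hy1, hy2⟩, rfl⟩
    refine ⟨RCo1_map hg hy1, ?_⟩
    replace hy2 : y * x = x * y := Subgroup.mem_centralizer_singleton_iff.1 hy2
    apply Subgroup.mem_centralizer_singleton_iff.2
    show mk g * y * (mk g)⁻¹ * (mk g * x * (mk g)⁻¹) = mk g * x * (mk g)⁻¹ * (mk g * y * (mk g)⁻¹)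
    calc mk g * y * (mk g)⁻¹ * (mk g * x * (mk g)⁻¹) = mk g * (y * x) * (mk g)⁻¹ := by group
      _ = mk g * (x * y) * (mk g)⁻¹ := by rw [hy2]
      _ = _ := by group

/-- The index of the centraliser. -/
theorem index_le {o : golayCode} (ho : wt o = 8) {x : Spor.Co1} (h : Big o x) :
    ((Subgroup.centralizer ({x} : Set Spor.Co1)).subgroupOf (RCo1 o)).index ≤ 4 := by
  have h1 := ((Subgroup.centralizer ({x} : Set Spor.Co1)).subgroupOf (RCo1 o)).card_mul_index
  rw [card_R ho] at h1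
  have h2 : Nat.card ((Subgroup.centralizer ({x} : Set Spor.Co1)).subgroupOf (RCo1 o)) =
      Nat.card ↥(RCo1 o ⊓ Subgroup.centralizer ({x} : Set Spor.Co1)) := by
    rw [Nat.card_congr (((Subgroup.centralizer ({x} : Set Spor.Co1)).subgroupOf
      (RCo1 o)).equivMapOfInjective (RCo1 o).subtype (RCo1 o).subtype_injective).toEquiv,
      Subgroup.subgroupOf_map_subtype, inf_comm]
  rw [h2] at h1
  have h3 := h.2
  by_contra hcon
  push Not at hcon
  have h4 : 128 * 5 ≤ 512 := by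
    rw [← h1]
    exact Nat.mul_le_mul h3 hcon
  omega

/-- An element with large centraliser has at most four conjugates under `R`. -/
theorem le_four {o : golayCode} (ho : wt o = 8) {x : Spor.Co1} (h : Big o x) (s : Finset Spor.Co1)
    (hs : ∀ y ∈ s, ∃ r ∈ RCo1 o, r * x * r⁻¹ = y) : s.card ≤ 4 := by
  classical
  choose! f hf1 hf2 using hs
  let C := (Subgroup.centralizer ({x} : Set Spor.Co1)).subgroupOf (RCo1 o)
  have h5 : Nat.card (RCo1 o ⧸ C) ≤ 4 := index_le ho h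
  have hfin : Finite (RCo1 o ⧸ C) := inferInstance
  let φ : s → (RCo1 o ⧸ C) := fun y => ((⟨f y, hf1 y y.2⟩ : RCo1 o) : RCo1 o ⧸ C)
  have hφ : Function.Injective φ := by
    intro a b hab
    have h1 := QuotientGroup.eq.1 hab
    rw [Subgroup.mem_subgroupOf, Subgroup.mem_centralizer_singleton_iff] at h1
    have h2 : (f (a : Spor.Co1))⁻¹ * f b * x = x * ((f (a : Spor.Co1))⁻¹ * f b) := h1
    apply Subtype.ext
    rw [← hf2 a a.2, ← hf2 b b.2]
    calc f (a : Spor.Co1) * x * (f (a : Spor.Co1))⁻¹ =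
        f (a : Spor.Co1) * (x * ((f (a : Spor.Co1))⁻¹ * f b)) * (f (b : Spor.Co1))⁻¹ := by group
      _ = f (a : Spor.Co1) * ((f (a : Spor.Co1))⁻¹ * f b * x) * (f (b : Spor.Co1))⁻¹ := by rw [h2]
      _ = _ := by group
  have h6 := Nat.card_le_card_of_injective φ hφ
  rw [Nat.card_eq_fintype_card, Fintype.card_coe] at h6
  omega

/-! ### Codes -/

/-- The element of `Co1` with the given code. -/
noncomputable def E (a : ℕ × ℕ) : Spor.Co1 := mk (mo a.1 a.2)

/-- Normalised codes. -/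
def Valid (a : ℕ × ℕ) : Prop :=
  isCode a.1 = true ∧ a.1.testBit 23 = false ∧ ok a.2 = true ∧ a.2 < 2 ^ 120

theorem mo_all {m P : ℕ} (hm : isCode m = true) : mo (m ^^^ 16777215) P = neg * mo m P := by
  have hn : neg = mo 16777215 idP := by rw [mo_idP, cd_all]
  rw [hn, mo_mul_mo isCode_all hm, Nat.xor_comm]

theorem E_inj {a b : ℕ × ℕ} (ha : Valid a) (hb : Valid b) (h : E a = E b) : a = b := by
  obtain ⟨ha1, ha2, ha3, ha4⟩ := ha
  obtain ⟨hb1, hb2, hb3, hb4⟩ := hb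
  have key : ∀ {c}, isCode c = true → mo a.1 a.2 = mo c b.2 → a.1 = c ∧ a.2 = b.2 := by
    intro c hc h1
    obtain ⟨h2, h3⟩ := mo_inj ha1 hc h1
    exact ⟨h2, el_inj ha3 hb3 ha4 hb4 h3⟩
  rcases (mk_eq _ _).1 h with h1 | h1
  · obtain ⟨h2, h3⟩ := key hb1 h1
    exact Prod.ext h2 h3
  · exfalso
    have h0 : mo a.1 a.2 = neg * mo b.1 b.2 := by rw [h1, neg_comm]
    rw [← mo_all hb1] at h0
    replace h1 := h0
    obtain ⟨h2, h3⟩ := key (isCode_xor hb1 isCode_all) h1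
    have h4 := congrArg (fun n : ℕ => n.testBit 23) h2
    simp only [Nat.testBit_xor, ha2, hb2] at h4
    revert h4
    decide

theorem isCode_key {c : ℕ} (hc : isCode c = true) : isCode (key c) = true := by
  unfold key
  cases c.testBit 23
  · exact hc
  · exact isCode_xor hc isCode_all

theorem testBit_key (c : ℕ) : (key c).testBit 23 = false := by
  unfold key
  cases h : c.testBit 23
  · exact h
  · show (c ^^^ 16777215).testBit 23 = false
    rw [Nat.testBit_xor, h]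
    decide

theorem mk_key {c P : ℕ} (hc : isCode c = true) : mk (mo (key c) P) = mk (mo c P) := by
  unfold key
  cases c.testBit 23
  · rfl
  · show mk (mo (c ^^^ 16777215) P) = mk (mo c P)
    rw [mo_all hc, mk_neg_mul]

theorem inR_iff {w : ℕ} {r : ℕ × ℕ} : inR w r = true ↔ isCode r.1 = true ∧ ok r.2 = true ∧
    r.1 &&& w = 0 ∧ fixm r.2 &&& w = w ∧ pcomp r.2 r.2 = idP := by
  unfold inR
  simp only [Bool.and_eq_true, Nat.beq_eq]

theorem mem_Rh_of {w : ℕ} (hw : isCode w = true) {r : ℕ × ℕ} (h : inR w r = true) :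
    mo r.1 r.2 ∈ Rh (cd w) := by
  obtain ⟨h1, h2, h3, h4, h5⟩ := inR_iff.1 h
  apply mem_Rh_sp
  · rw [Finset.disjoint_left]
    intro i hi hi'
    rw [sup_cd h1, mem_fin] at hi
    rw [sup_cd hw, mem_fin] at hi'
    have h6 := congrArg (fun n : ℕ => n.testBit (idx i)) h3
    simp only [Nat.testBit_and, hi, hi', Nat.zero_testBit] at h6
    revert h6; decide
  · intro i hi
    rw [sup_cd hw, mem_fin] at hi
    have h6 := congrArg (fun n : ℕ => n.testBit (idx i)) h4
    simp only [Nat.testBit_and, hi, Bool.and_true] at h6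
    rw [testBit_fixm r.2 (idx_lt i), decide_eq_true_eq] at h6
    have h7 := idx_el_smul h2 i
    rw [h6] at h7
    exact idx_injective h7

theorem mo_sq_inv {r : ℕ × ℕ} (h2 : ok r.2 = true)
    (h5 : pcomp r.2 r.2 = idP) : el r.2 * el r.2 = 1 := by
  rw [← el_pcomp h2 h2, h5, el_idP]

theorem cj_spec {w m P : ℕ} {r : ℕ × ℕ} (hm : isCode m = true) (hP : ok P = true)
    (hr : inR w r = true) : Valid (cj m P r) ∧
      E (cj m P r) = mk (mo r.1 r.2) * mk (mo m P) * (mk (mo r.1 r.2))⁻¹ := by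
  obtain ⟨h1, h2, h3, h4, h5⟩ := inR_iff.1 hr
  have hPr : ok (pcomp P r.2) = true := ok_pcomp hP h2
  have hP' : ok (pcomp r.2 (pcomp P r.2)) = true := ok_pcomp h2 hPr
  have hc : isCode ((r.1 ^^^ pimg r.2 m) ^^^ pimg (pcomp r.2 (pcomp P r.2)) r.1) = true :=
    isCode_xor (isCode_xor h1 (isCode_pimg h2 hm)) (isCode_pimg hP' h1)
  refine ⟨⟨isCode_key hc, testBit_key _, hP', pcomp_lt _ _⟩, ?_⟩
  show mk (mo (key ((r.1 ^^^ pimg r.2 m) ^^^ pimg (pcomp r.2 (pcomp P r.2)) r.1))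
    (pcomp r.2 (pcomp P r.2))) = _
  rw [mk_key hc, eq_mul_inv_iff_mul_eq, ← mk_mul, ← mk_mul, mo_mul hc h1 hP' h2,
    mo_mul h1 hm h2 hP]
  have e1 : ∀ a b : ℕ, (a ^^^ b) ^^^ b = a := fun a b => by
    rw [Nat.xor_assoc, Nat.xor_self, Nat.xor_zero]
  have e2 : el (pcomp (pcomp r.2 (pcomp P r.2)) r.2) = el (pcomp r.2 P) := by
    rw [el_pcomp hP' h2, el_pcomp h2 hPr, el_pcomp hP h2, el_pcomp h2 hP, mul_assoc, mul_assoc,
      mo_sq_inv h2 h5, mul_one]
  rw [e1]
  unfold mo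
  rw [e2]

theorem pd_nodup : ∀ l : List (ℕ × ℕ), pd l = true → l.Nodup
  | [], _ => List.nodup_nil
  | a :: l, h => by
    unfold pd at h
    rw [Bool.and_eq_true, List.all_eq_true] at h
    rw [List.nodup_cons]
    refine ⟨fun ha => ?_, pd_nodup l h.2⟩
    have h1 := h.1 a ha
    unfold eqp at h1
    rw [Nat.beq_refl, Nat.beq_refl] at h1
    exact absurd h1 (by decide)

/-- Five different conjugates: the centraliser is not large. -/
theorem not_big {w m P : ℕ} (hw : isCode w = true) (hw8 : popcount w = 8) (hm : isCode m = true)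
    (hP : ok P = true) {Ls : List (List (ℕ × ℕ))} (h5 : five w Ls = true)
    (hb : big Ls m P = true) : ¬ Big (cd w) (mk (mo m P)) := by
  classical
  intro h
  unfold big at hb
  rw [List.any_eq_true] at hb
  obtain ⟨L, hL, hpd⟩ := hb
  unfold five at h5
  rw [List.all_eq_true] at h5
  have h1 := h5 L hL
  rw [Bool.and_eq_true, Nat.beq_eq, List.all_eq_true] at h1
  obtain ⟨hlen, hR⟩ := h1
  have hnd := pd_nodup _ hpd
  have hnd2 : ((L.map (cj m P)).map E).Nodup := by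
    apply hnd.map_on
    intro a ha b hb hab
    obtain ⟨r, hr, rfl⟩ := List.mem_map.1 ha
    obtain ⟨s, hs, rfl⟩ := List.mem_map.1 hb
    exact E_inj (cj_spec hm hP (hR r hr)).1 (cj_spec hm hP (hR s hs)).1 hab
  have h2 := le_four (by rw [wt_cd hw, hw8]) h ((L.map (cj m P)).map E).toFinset (by
    intro y hy
    rw [List.mem_toFinset, List.mem_map] at hy
    obtain ⟨a, ha, rfl⟩ := hy
    obtain ⟨r, hr, rfl⟩ := List.mem_map.1 ha
    exact ⟨mk (mo r.1 r.2), mem_RCo1.2 ⟨_, mem_Rh_of hw (hR r hr), rfl⟩,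
      (cj_spec hm hP (hR r hr)).2.symm⟩)
  rw [List.toFinset_card_of_nodup hnd2, List.length_map, List.length_map, hlen] at h2
  omega

end Cfsg.Agent.KFacts.Co1.YBig
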